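import Mathlib.GroupTheory.Index
import Mathlib.GroupTheory.QuotientGroup.Basic
import Mathlib.Tactic.Group
import Mathlib.SetTheory.Cardinal.Finite

/-!
Counting cosets through the orbits of a normalised subgroup (helper24).
-/

set_option autoImplicit false

namespace Cfsg.Agent.MinIdxClassical

variable {G : Type*} [Group G] [Finite G]

/-- Elements normalising `Qs` with different traces of `H` give separate orbits of `Qs` on the
cosets of `H`. -/
theorem card_mul_relIndex_le {ι : Type*} {E H Qs : Subgroup G} (g : ι → G) (hg : ∀ i, g i ∈ E)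
    (hQ : Qs ≤ E) (hnorm : ∀ i, ∀ x ∈ Qs, g i * x * (g i)⁻¹ ∈ Qs)
    (hdist : ∀ i j, ∀ x ∈ Qs, (∀ y ∈ Qs, (g i)⁻¹ * y * g i ∈ H ↔
      (g j)⁻¹ * (x * y * x⁻¹) * g j ∈ H) → i = j) :
    Nat.card ι * H.relIndex Qs ≤ H.relIndex E := by
  have hc : ∀ {i : ι} {q : G}, q ∈ Qs → g i * q ∈ E := fun hq => mul_mem (hg _) (hQ hq)
  let f : ι × (Qs ⧸ H.subgroupOf Qs) → E ⧸ H.subgroupOf E := fun p =>
    Quotient.liftOn' p.2 (fun q => ((⟨g p.1 * q.1, hc q.2⟩ : E) : E ⧸ H.subgroupOf E)) (by
      intro a b hab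
      rw [QuotientGroup.leftRel_apply, Subgroup.mem_subgroupOf] at hab
      rw [QuotientGroup.eq, Subgroup.mem_subgroupOf]
      simpa [mul_assoc] using hab)
  have hf : Function.Injective f := by
    rintro ⟨i, qi⟩ ⟨j, qj⟩ he
    induction qi using QuotientGroup.induction_on with | H a => ?_
    induction qj using QuotientGroup.induction_on with | H b => ?_
    have hh : (g i * a.1)⁻¹ * (g j * b.1) ∈ H := by
      have := QuotientGroup.eq.mp he
      rwa [Subgroup.mem_subgroupOf] at this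
    set h := (g i * a.1)⁻¹ * (g j * b.1) with hhdef
    set x := g j * (b.1)⁻¹ * (g j)⁻¹ with hx
    have hx' : x ∈ Qs := hnorm j _ (inv_mem b.2)
    have hi' : g i * a.1 * (g i)⁻¹ ∈ Qs := hnorm i _ a.2
    have key : i = j := hdist i j (x * (g i * a.1 * (g i)⁻¹)) (mul_mem hx' hi') fun y _ => by
      have e : (g j)⁻¹ * (x * (g i * a.1 * (g i)⁻¹) * y * (x * (g i * a.1 * (g i)⁻¹))⁻¹) * g j =
          h⁻¹ * ((g i)⁻¹ * y * g i) * h := by
        rw [hx, hhdef]; group
      rw [e]
      refine ⟨fun hy => mul_mem (mul_mem (inv_mem hh) hy) hh, fun hy => ?_⟩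
      simpa [mul_assoc] using mul_mem (mul_mem hh hy) (inv_mem hh)
    subst key
    refine Prod.ext rfl (QuotientGroup.eq.mpr ?_)
    rw [Subgroup.mem_subgroupOf]
    simpa [hhdef, mul_assoc] using hh
  haveI : Finite (E ⧸ H.subgroupOf E) := inferInstance
  have := Nat.card_le_card_of_injective f hf
  rwa [Nat.card_prod] at this

end Cfsg.Agent.MinIdxClassical
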