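import Cfsg.Agent.MinIdxClassical.Main
import Cfsg.Agent.Lib.UnitaryOrthogonal.Standard

/-!
The level count of a form with a maximal totally singular subspace of half the dimension, and
criteria for `NoPlane` (helper24).
-/

set_option autoImplicit false
set_option linter.unusedSectionVars false

namespace Cfsg.Agent.MinIdxClassical

open QuadraticMap Cfsg.Agent.UnitaryOrthogonal

universe u v

variable {F : Type u} [Field F] [Finite F]

theorem level_of_half : ∀ (r : ℕ) {V : Type v} [AddCommGroup V] [Module F V] [Finite V]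
    (Q : QuadraticForm F V), PolarND Q → Module.finrank F V = 2 * r →
    ∀ S : Submodule F V, (∀ x ∈ S, Q x = 0) → r ≤ Module.finrank F S → ∀ c : F, c ≠ 0 →
      Nat.card F * level Q c + Nat.card F ^ r = Nat.card F ^ (2 * r) := by
  intro r
  induction r with
  | zero =>
    intro V _ _ _ Q _ hdim S _ _ c hc
    haveI := Module.finite_of_finite (R := F) (M := V)
    haveI : Subsingleton V := Module.finrank_zero_iff.mp (by simpa using hdim)
    have : level Q c = 0 := by
      rw [level, Nat.card_eq_zero]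
      exact Or.inl ⟨fun v => hc (by rw [← v.2, Subsingleton.elim v.1 0, map_zero])⟩
    simp [this]
  | succ r ih =>
    intro V _ _ _ Q hQ hdim S hS hrS c hc
    haveI := Module.finite_of_finite (R := F) (M := V)
    have hne : S ≠ ⊥ := fun h => by rw [h, finrank_bot] at hrS; omega
    obtain ⟨a, ha, ha0⟩ := S.ne_bot_iff.mp hne
    obtain ⟨b, hb, hab⟩ := exists_pair hQ.nonsing (hS a ha) ha0
    obtain ⟨e⟩ := OrthStab.exists_split (hS a ha) hb hab
    set P := OrthStab.perp₂ Q a b
    have hPd : Module.finrank F V = Module.finrank F P + 2 := OrthStab.finrank_perp₂ (hS a ha) hb hab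
    set K := S ⊓ P with hK
    have hKd : r ≤ Module.finrank F K := by
      have hle : S ⊓ LinearMap.ker (polarBilin Q b) ≤ K := fun x hx => by
        obtain ⟨hx1, hx2⟩ := hx
        exact ⟨hx1, OrthStab.mem_perp₂.mpr
          ⟨OrthStab.polar_eq_zero_of_singular hS ha hx1, hx2⟩⟩
      have h1 := Submodule.finrank_sup_add_finrank_inf_eq S (LinearMap.ker (polarBilin Q b))
      have h2 := LinearMap.finrank_range_add_finrank_ker (polarBilin Q b)
      have h3 := Submodule.finrank_le (LinearMap.range (polarBilin Q b))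
      rw [Module.finrank_self] at h3
      have h4 := Submodule.finrank_le (S ⊔ LinearMap.ker (polarBilin Q b))
      have h5 := Submodule.finrank_mono hle
      omega
    have h := ih (Q.comp P.subtype) (OrthStab.polarND_perp₂ hQ (hS a ha) hb hab) (by omega)
      (K.comap P.subtype) (fun x hx => hS _ hx.1)
      (by rw [(Submodule.comapSubtypeEquivOfLe (inf_le_right : K ≤ P)).finrank_eq]; exact hKd) c hc
    rw [level_congr e, level_hyp, Module.natCard_eq_pow_finrank (K := F) (V := P),
      show Module.finrank F P = 2 * r by omega]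
    obtain ⟨k, hk⟩ : ∃ k, Nat.card F = k + 1 := ⟨Nat.card F - 1, by
      have := Nat.card_pos (α := F); omega⟩
    rw [hk] at h ⊢
    simp only [Nat.add_sub_cancel]
    linear_combination (k + 1) * h

variable {V : Type v} [AddCommGroup V] [Module F V] [Finite V] {Q : QuadraticForm F V}

theorem noPlane_of_dim_le_seven (hQ : PolarND Q) (hn : Module.finrank F V ≤ 7) :
    NoPlane Q := by
  intro L _ z w hz hz0 hzw hw
  by_contra hwn
  haveI := Module.finite_of_finite (R := F) (M := V)
  haveI := Module.finite_of_finite (R := F) (M := L.W0)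
  have h1 := OrthStab.finrank_perp₂ L.qx L.qx' L.xx'
  have hyP : L.y ∈ OrthStab.perp₂ Q L.x L.x' :=
    OrthStab.mem_perp₂.mpr ⟨L.xy, by rw [polar_comm]; exact L.yx'⟩
  have hy'P : L.y' ∈ OrthStab.perp₂ Q L.x L.x' := OrthStab.mem_perp₂.mpr ⟨L.xy', L.x'y'⟩
  have h2 := OrthStab.finrank_perp₂ (Q := Q.comp (OrthStab.perp₂ Q L.x L.x').subtype)
    (a := ⟨L.y, hyP⟩) (b := ⟨L.y', hy'P⟩) L.qy L.qy' L.yy'
  let i : L.W0 →ₗ[F] OrthStab.perp₂ (Q.comp (OrthStab.perp₂ Q L.x L.x').subtype) ⟨L.y, hyP⟩
      ⟨L.y', hy'P⟩ :=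
    { toFun := fun x => ⟨⟨x, x.2.1⟩, x.2.2⟩
      map_add' := fun _ _ => rfl
      map_smul' := fun _ _ => rfl }
  have h3 := LinearMap.finrank_le_finrank_of_injective (f := i) fun x y h =>
    Subtype.ext (congrArg (fun t => ((t.1 : OrthStab.perp₂ Q L.x L.x') : V)) h)
  have hS : ∀ x ∈ F ∙ z ⊔ F ∙ w, L.form x = 0 := OrthStab.singular_sup (fun x hx => by
    obtain ⟨c, rfl⟩ := Submodule.mem_span_singleton.mp hx
    simp [form_smul, hz]) hw fun x hx => by
    obtain ⟨c, rfl⟩ := Submodule.mem_span_singleton.mp hx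
    simp [polar_smul_left, hzw]
  have h4 := OrthStab.two_mul_finrank_le (L.polarND_form hQ) hS
  have h5 := OrthStab.finrank_sup_singleton hwn
  rw [finrank_span_singleton hz0] at h5
  omega

theorem noPlane_of_level (hQ : PolarND Q) (hn : Module.finrank F V = 8) {c : F} (hc : c ≠ 0)
    (hl : Nat.card F * level Q c + Nat.card F ^ 4 ≠ Nat.card F ^ 8) : NoPlane Q := by
  intro L _ z w hz hz0 hzw hw
  by_contra hwn
  haveI := Module.finite_of_finite (R := F) (M := V)
  have hxy : L.y ∉ F ∙ L.x := fun h => by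
    obtain ⟨s, hs⟩ := Submodule.mem_span_singleton.mp h
    have := L.yy'
    rw [← hs, polar_smul_left, L.xy', smul_zero] at this
    exact zero_ne_one this
  have hx0 : L.x ≠ 0 := fun h => by
    have := L.xx'
    rw [h, polar_zero_left] at this
    exact zero_ne_one this
  set S1 := F ∙ L.x ⊔ F ∙ L.y
  have hS1 : ∀ v ∈ S1, ∃ s t : F, v = s • L.x + t • L.y := fun v hv => by
    obtain ⟨a, ha, b, hb, rfl⟩ := Submodule.mem_sup.mp hv
    obtain ⟨s, rfl⟩ := Submodule.mem_span_singleton.mp ha
    obtain ⟨t, rfl⟩ := Submodule.mem_span_singleton.mp hb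
    exact ⟨s, t, rfl⟩
  set S2 := S1 ⊔ F ∙ (z : V)
  have hS2 : ∀ v ∈ S2, ∃ s t r : F, v = s • L.x + t • L.y + r • (z : V) := fun v hv => by
    obtain ⟨a, ha, b, hb, rfl⟩ := Submodule.mem_sup.mp hv
    obtain ⟨s, t, rfl⟩ := hS1 a ha
    obtain ⟨r, rfl⟩ := Submodule.mem_span_singleton.mp hb
    exact ⟨s, t, r, rfl⟩
  have hw' : Q (w : V) = 0 := hw
  have hz' : Q (z : V) = 0 := hz
  have hzw' : polar Q (z : V) (w : V) = 0 := hzw
  have hzn : (z : V) ∉ S1 := fun h => hz0 (by
    obtain ⟨s, t, he⟩ := hS1 _ h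
    have e1 : polar Q L.x' (z : V) = 0 := LineFrame.px' z
    have e2 : polar Q L.y' (z : V) = 0 := LineFrame.py' z
    rw [he] at e1 e2
    simp [polar_add_right, polar_smul_right, polar_comm Q L.x' L.x, L.xx', polar_comm Q L.x' L.y,
      L.yx', polar_comm Q L.y' L.x, L.xy', polar_comm Q L.y' L.y, L.yy'] at e1 e2
    refine Subtype.ext ?_
    rw [he, e1, e2, zero_smul, zero_smul, add_zero]; rfl)
  have hwn2 : (w : V) ∉ S2 := fun h => hwn (by
    obtain ⟨s, t, r, he⟩ := hS2 _ h
    have e1 : polar Q L.x' (w : V) = 0 := LineFrame.px' w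
    have e2 : polar Q L.y' (w : V) = 0 := LineFrame.py' w
    rw [he] at e1 e2
    simp [polar_add_right, polar_smul_right, polar_comm Q L.x' L.x, L.xx', polar_comm Q L.x' L.y,
      L.yx', polar_comm Q L.y' L.x, L.xy', polar_comm Q L.y' L.y, L.yy',
      LineFrame.px', LineFrame.py'] at e1 e2
    refine Submodule.mem_span_singleton.mpr ⟨r, Subtype.ext ?_⟩
    rw [he, e1, e2, zero_smul, zero_smul, zero_add, zero_add]
    rfl)
  have s1 : ∀ v ∈ S1, Q v = 0 := fun v hv => by
    obtain ⟨s, t, rfl⟩ := hS1 v hv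
    simp [form_add, form_smul, L.qx, L.qy, polar_smul_left, polar_smul_right, L.xy]
  have s2 : ∀ v ∈ S2, Q v = 0 := OrthStab.singular_sup s1 hz' fun v hv => by
    obtain ⟨s, t, rfl⟩ := hS1 v hv
    simp [polar_add_left, polar_smul_left, LineFrame.px, LineFrame.py]
  have s3 : ∀ v ∈ S2 ⊔ F ∙ (w : V), Q v = 0 := OrthStab.singular_sup s2 hw' fun v hv => by
    obtain ⟨s, t, r, rfl⟩ := hS2 v hv
    simp [polar_add_left, polar_smul_left, LineFrame.px, LineFrame.py, hzw']
  have d1 : Module.finrank F S1 = 2 := by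
    rw [OrthStab.finrank_sup_singleton hxy, finrank_span_singleton hx0]
  have d2 : Module.finrank F S2 = 3 := by rw [OrthStab.finrank_sup_singleton hzn, d1]
  have d3 := OrthStab.finrank_sup_singleton hwn2
  exact hl (level_of_half 4 Q hQ hn _ s3 (by omega) c hc)

theorem noPlane_of_dim (hn : 9 ≤ Module.finrank F V) : NoPlane Q := by
  intro L hd
  have := L.finrank_W0
  omega

end Cfsg.Agent.MinIdxClassical
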