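import Cfsg.Agent.MinIdxClassical.Orbits
import Cfsg.Agent.MinIdxClassical.Witt

/-!
Counts of vectors of given value in the standard forms (helper24).
-/

set_option autoImplicit false
set_option linter.unusedSectionVars false

namespace Cfsg.Agent.MinIdxClassical

open QuadraticMap Cfsg.Agent.UnitaryOrthogonal

variable {F : Type*} [Field F] [Finite F]

theorem card_value {V : Type*} [AddCommGroup V] [Module F V] [Finite V] (Q : QuadraticForm F V)
    (c : F) : (c = 0 → Nat.card {w : V // w ≠ 0 ∧ Q w = c} + 1 = level Q c) ∧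
      (c ≠ 0 → Nat.card {w : V // w ≠ 0 ∧ Q w = c} = level Q c) := by
  constructor
  · rintro rfl
    have h1 := card_nonzero_singular Q
    have h2 : 0 < level Q 0 := by
      haveI : Nonempty {v : V // Q v = 0} := ⟨⟨0, map_zero Q⟩⟩
      exact Nat.card_pos
    have h3 : Nat.card {w : V // w ≠ 0 ∧ Q w = 0} = Nat.card {u : V // Q u = 0 ∧ u ≠ 0} :=
      Nat.card_congr (Equiv.subtypeEquivRight fun w => and_comm)
    omega
  · intro hc
    exact Nat.card_congr (Equiv.subtypeEquivRight fun w =>
      ⟨fun h => h.2, fun h => ⟨fun h0 => hc (by rw [← h, h0, map_zero]), h⟩⟩)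

theorem level_minus_zero {a b : F} (hab : BinAniso a b) (k : ℕ) :
    level (qMinus k F a b) 0 + Nat.card F ^ (k + 1) =
      Nat.card F ^ (2 * k + 1) + Nat.card F ^ k := by
  have h := level_minus hab k
  rw [← level_congr (qMinusIso k F a b)] at h
  refine Nat.eq_of_mul_eq_mul_left (Nat.card_pos (α := F)) ?_
  linear_combination h

theorem level_minus_ne {a b : F} (hab : BinAniso a b) (k : ℕ) {c : F} (hc : c ≠ 0) :
    level (qMinus k F a b) c = Nat.card F ^ (2 * k + 1) + Nat.card F ^ k := by
  have h := level_hypSum (Q := binForm a b) c k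
  rw [← level_congr (qMinusIso k F a b), hab.level_eq hc, Nat.card_prod] at h
  refine Nat.eq_of_mul_eq_mul_left (Nat.card_pos (α := F)) ?_
  refine Nat.add_right_cancel (m := Nat.card F ^ k * (Nat.card F * Nat.card F)) ?_
  linear_combination h

theorem level_odd_zero (k : ℕ) : level (qOdd k F) 0 = Nat.card F ^ (2 * k) := by
  rw [level_congr (qOddIso k F), level_odd]

theorem level_odd_ne (k : ℕ) (c : F) :
    level (qOdd k F) c + Nat.card F ^ k =
      Nat.card F ^ (2 * k) + Nat.card F ^ k * level (sqForm F) c := by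
  have h := level_hypSum (Q := sqForm F) c k
  rw [← level_congr (qOddIso k F)] at h
  refine Nat.eq_of_mul_eq_mul_left (Nat.card_pos (α := F)) ?_
  linear_combination h

theorem pow_le_bound (q k : ℕ) (hq : 2 ≤ q) :
    q ^ (k + 2) ≤ (q - 1) * ((q + 2) * q ^ k) := by
  obtain ⟨r, rfl⟩ : ∃ r, q = r + 2 := ⟨q - 2, by omega⟩
  rw [show r + 2 - 1 = r + 1 by omega, pow_add, ← mul_assoc, mul_comm ((r + 2) ^ k)]
  exact Nat.mul_le_mul_right _ (by nlinarith)

theorem eq_div {q X L : ℕ} (hq : 1 < q) (h : X = L * (q - 1)) : L = X / (q - 1) := by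
  rw [h, Nat.mul_div_cancel _ (by omega)]

theorem mult_bound {c : F} (hc : c ≠ 0) {X L : ℕ} (h : X ≤ L) :
    X / (Nat.card F - 1) * mult c ≤ L := by
  refine le_trans ?_ h
  refine le_trans (Nat.mul_le_mul_left _ ?_) (Nat.div_mul_le_self X (Nat.card F - 1))
  have hq : 1 < Nat.card F := Finite.one_lt_card
  rcases Nat.lt_or_ge (Nat.card F) 3 with h3 | h3
  · have h2 : (2 : F) = 0 := by
      haveI := Fintype.ofFinite F
      have h := Nat.cast_card_eq_zero F
      rw [← Nat.card_eq_fintype_card, show Nat.card F = 2 by omega] at h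
      exact_mod_cast h
    rw [mult_two h2 hc]; omega
  · have := mult_le_two (F := F) hc
    omega

theorem binAniso_of {a b : F}
    (h : ∀ z₁ z₂ : F, z₁ ^ 2 + a * z₁ * z₂ + b * z₂ ^ 2 = 0 → z₁ = 0 ∧ z₂ = 0) : BinAniso a b :=
  h

end Cfsg.Agent.MinIdxClassical
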