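import Cfsg.Agent.MinIdxClassical.Lagr
import Cfsg.Agent.MaxSub.OrthVector

/-!
Orbits of linear Lagrangian subgroups of `W × W` (helper24).
-/

set_option autoImplicit false
set_option linter.unusedSectionVars false

namespace Cfsg.Agent.MinIdxClassical

open QuadraticMap Cfsg.Agent.UnitaryOrthogonal

variable {F : Type*} [Field F] [Finite F] {W : Type*} [AddCommGroup W] [Module F W] [Finite W]
variable {R : QuadraticForm F W}

/-- A hyperbolic pair with the first vector not orthogonal to a given non-zero vector. -/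
theorem exists_singular_pair (hR : PolarND R) (hd : 3 ≤ Module.finrank F W) {c : W} (hc : c ≠ 0) :
    ∃ z z', R z = 0 ∧ R z' = 0 ∧ polar R z z' = 1 ∧ polar R z c ≠ 0 := by
  obtain ⟨z, -, hz0, hz⟩ := OrthStab.exists_singular_mem (Q := R) ⊤ (by rwa [finrank_top])
  obtain ⟨z', hz', hzz'⟩ := exists_pair hR.nonsing hz hz0
  by_cases h1 : polar R z c ≠ 0
  · exact ⟨z, z', hz, hz', hzz', h1⟩
  rw [ne_eq, not_not] at h1
  have hflip : polar R z' z = 1 := by rw [polar_comm]; exact hzz'
  by_cases h2 : polar R z' c ≠ 0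
  · exact ⟨z', z, hz', hz, hflip, h2⟩
  rw [ne_eq, not_not] at h2
  have hc' : c ∈ OrthStab.perp₂ R z z' := OrthStab.mem_perp₂.mpr ⟨h1, h2⟩
  obtain ⟨v, hv, hvc⟩ : ∃ v ∈ OrthStab.perp₂ R z z', polar R v c ≠ 0 := by
    by_contra hcon
    simp only [not_exists, not_and, not_not] at hcon
    exact hc (congrArg Subtype.val (OrthStab.polarND_perp₂ hR hz hz' hzz' ⟨c, hc'⟩ fun v => by
      show polar R c v = 0
      rw [polar_comm]; exact hcon v v.2))
  obtain ⟨hvz, hvz'⟩ := OrthStab.mem_perp₂.mp hv
  refine ⟨z' + v + (-R v) • z, z, ?_, hz, ?_, ?_⟩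
  · simp [form_add, form_smul, hz, hz', polar_smul_right, polar_add_left, hvz', hflip,
      polar_comm R v z, hvz]
  · simp [polar_add_left, polar_smul_left, hflip, polar_comm R v z, hvz, polar_self_eq, hz]
  · simpa [polar_add_left, polar_smul_left, h2, h1] using hvc

/-- A non-zero subspace stable under all root elements is everything. -/
theorem eq_top_of_invariant (hR : PolarND R) (hd : 3 ≤ Module.finrank F W) {C : Submodule F W}
    (hC : C ≠ ⊥) (h : ∀ z v, R z = 0 → polar R z v = 0 → ∀ c ∈ C, (eich R z v).1 c ∈ C) :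
    C = ⊤ := by
  obtain ⟨c, hc, hc0⟩ := C.ne_bot_iff.mp hC
  obtain ⟨z, z', hz, hz', hzz', hzc⟩ := exists_singular_pair hR hd hc0
  have hz'z : polar R z' z = 1 := by rw [polar_comm]; exact hzz'
  have e : ∀ x ∈ C, ∀ v, polar R z v = 0 →
      polar R z x • v - polar R v x • z - (R v * polar R z x) • z ∈ C := fun x hx v hv => by
    have := C.sub_mem (h z v hz hv x hx) hx
    rw [eich_apply hz hv] at this
    convert! this using 1
    module
  haveI := Module.finite_of_finite (R := F) (M := W)
  have hP : 0 < Module.finrank F (OrthStab.perp₂ R z z') := by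
    have := OrthStab.finrank_perp₂ hz hz' hzz'; omega
  haveI := Module.nontrivial_of_finrank_pos hP
  obtain ⟨v, hv⟩ := exists_ne (0 : OrthStab.perp₂ R z z')
  obtain ⟨v', hvv'⟩ : ∃ v' : OrthStab.perp₂ R z z', polar R (v : W) v' ≠ 0 := by
    by_contra hcon
    simp only [not_exists, not_not] at hcon
    exact hv (OrthStab.polarND_perp₂ hR hz hz' hzz' v fun v' => hcon v')
  have hpz : ∀ v : OrthStab.perp₂ R z z', polar R z (v : W) = 0 := fun v =>
    (OrthStab.mem_perp₂.mp v.2).1
  have hpz' : ∀ v : OrthStab.perp₂ R z z', polar R z' (v : W) = 0 := fun v =>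
    (OrthStab.mem_perp₂.mp v.2).2
  have hzC : z ∈ C := by
    have h1 := C.sub_mem (C.sub_mem (e c hc (v + v') (by rw [polar_add_right, hpz, hpz, add_zero]))
      (e c hc v (hpz v))) (e c hc v' (hpz v'))
    have h2 : (-(polar R (v : W) v' * polar R z c)) • z ∈ C := by
      convert! h1 using 1
      rw [form_add, polar_add_left]
      module
    exact (C.smul_mem_iff (neg_ne_zero.mpr (mul_ne_zero hvv' hzc))).mp h2
  -- the same with `z'`
  have e' : ∀ v, polar R z' v = 0 → v - (polar R v z + R v) • z' ∈ C := fun v hv => by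
    have := C.sub_mem (h z' v hz' hv z hzC) hzC
    rw [eich_apply hz' hv, hz'z] at this
    convert! this using 1
    module
  have hz'C : z' ∈ C := by
    have h1 := C.sub_mem (C.sub_mem (e' (v + v') (by rw [polar_add_right, hpz', hpz', add_zero]))
      (e' v (hpz' v))) (e' v' (hpz' v'))
    have h2 : (-(polar R (v : W) v')) • z' ∈ C := by
      convert! h1 using 1
      rw [form_add, polar_add_left]
      module
    exact (C.smul_mem_iff (neg_ne_zero.mpr hvv')).mp h2
  refine eq_top_iff.mpr fun x _ => ?_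
  set y := x - polar R z' x • z - polar R z x • z' with hy
  have h1 : polar R z' y = 0 := by
    simp [hy, polar_sub_right, polar_smul_right, hz'z, polar_self_eq, hz']
  have hyC : y ∈ C := by simpa [sub_add_cancel] using C.add_mem (e' y h1) (C.smul_mem (polar R y z + R y) hz'C)
  have := C.add_mem (C.add_mem hyC (C.smul_mem (polar R z' x) hzC)) (C.smul_mem (polar R z x) hz'C)
  convert! this using 1
  rw [hy]; abel

/-- Fixed by the upper transvections. -/
def Up (M : AddSubgroup (W × W)) : Prop := ∀ a ∈ M, (a.2, (0 : W)) ∈ M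

/-- Fixed by the lower transvections. -/
def Lo (M : AddSubgroup (W × W)) : Prop := ∀ a ∈ M, ((0 : W), a.1) ∈ M

/-- Stable under scalars. -/
def Lin (F : Type*) {W : Type*} [Field F] [AddCommGroup W] [Module F W]
    (M : AddSubgroup (W × W)) : Prop := ∀ (s : F), ∀ a ∈ M, s • a ∈ M

theorem Lin.mv {M : AddSubgroup (W × W)} (h : Lin F M) (Λ : (W × W) ≃ₗ[F] (W × W)) :
    Lin F (mv Λ M) := fun s a ha => by
  rw [mem_mv, map_smul]; exact h s _ ha

theorem square_of_up_lo {M : AddSubgroup (W × W)} (hl : Lin F M) (hu : Up M) (ho : Lo M) :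
    IsSquare' F M := by
  let C : Submodule F W :=
    { carrier := {c | (c, (0 : W)) ∈ M}
      zero_mem' := M.zero_mem
      add_mem' := fun {a b} ha hb => by simpa using M.add_mem ha hb
      smul_mem' := fun s c hc => by simpa using hl s _ hc }
  refine ⟨C, fun a => ⟨fun ha => ?_, fun ⟨h1, h2⟩ => ?_⟩⟩
  · have h2 := hu a ha
    have h3 := M.sub_mem ha (ho _ h2)
    refine ⟨?_, h2⟩
    show (a.1, (0 : W)) ∈ M
    convert! h3 using 1
    ext <;> simp
  · have := M.add_mem h1 (ho _ h2)
    simpa using this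

theorem up_of_fix {M : AddSubgroup (W × W)} (hl : Lin F M) {t : F} (ht : t ≠ 0)
    (h : mv (upT t) M = M) : Up M := fun a ha => by
  have hb : upT t a ∈ M := by rw [← h, mem_mv, LinearEquiv.symm_apply_apply]; exact ha
  have := hl t⁻¹ _ (M.sub_mem ha hb)
  convert! this using 1
  ext <;> simp [upT, smul_smul, inv_mul_cancel₀ ht]

theorem lo_of_fix {M : AddSubgroup (W × W)} (hl : Lin F M) {t : F} (ht : t ≠ 0)
    (h : mv (loT t) M = M) : Lo M := fun a ha => by
  have hb : loT t a ∈ M := by rw [← h, mem_mv, LinearEquiv.symm_apply_apply]; exact ha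
  have := hl t⁻¹ _ (M.sub_mem ha hb)
  convert! this using 1
  ext <;> simp [loT, smul_smul, inv_mul_cancel₀ ht]

theorem upT_add (s t : F) : upT (W := W) s * upT t = upT (s + t) := by
  ext a <;> simp [upT, LinearEquiv.mul_apply, add_smul]; abel

theorem upT_zero : upT (W := W) (0 : F) = 1 := by ext a <;> simp [upT, LinearEquiv.coe_one]

theorem loT_add (s t : F) : loT (W := W) s * loT t = loT (s + t) := by
  ext a <;> simp [loT, LinearEquiv.mul_apply, add_smul]; abel

theorem loT_zero : loT (W := W) (0 : F) = 1 := by ext a <;> simp [loT, LinearEquiv.coe_one]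

/-- The exchange of the two slots, up to sign. -/
noncomputable def wT (F : Type*) (W : Type*) [Field F] [AddCommGroup W] [Module F W] :
    (W × W) ≃ₗ[F] (W × W) :=
  upT (1 : F) * loT (-1 : F) * upT (1 : F)

theorem wT_apply (a : W × W) : wT F W a = (-a.2, a.1) := by
  simp [wT, upT, loT, LinearEquiv.mul_apply]

theorem wT_symm_apply (a : W × W) : (wT F W).symm a = (a.2, -a.1) := by
  rw [LinearEquiv.symm_apply_eq, wT_apply, neg_neg]

theorem wT_mem : wT F W ∈ pairGroup R := mul_mem (mul_mem (upT_mem R 1) (loT_mem R _)) (upT_mem R 1)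

/-- An orbit with a member fixed by upper transvections is long. -/
theorem orbit_of_up (hR : PolarND R) (hd : 3 ≤ Module.finrank F W)
    {A : AddSubgroup (W × W)} (hl : Lin F A) (hcard : Nat.card A = Nat.card W)
    (hsq : ¬ IsSquare' F A) (hten : ¬ IsTensor F A) (hI : ∃ M ∈ orbSet R A, Up M) :
    Nat.card F + 2 ≤ Nat.card (orbSet R A) := by
  classical
  haveI := Fintype.ofFinite F
  haveI : Finite (AddSubgroup (W × W)) := Finite.of_injective _ SetLike.coe_injective
  have linMem : ∀ M ∈ orbSet R A, Lin F M := by rintro _ ⟨Λ, rfl⟩; exact hl.mv _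
  have sqMem : ∀ M ∈ orbSet R A, ¬ IsSquare' F M := by
    rintro _ ⟨Λ, rfl⟩ h; exact hsq ((square_mv_iff Λ.2 A).mp h)
  have tenMem : ∀ M ∈ orbSet R A, ¬ IsTensor F M := by
    rintro _ ⟨Λ, rfl⟩ h; exact hten ((tensor_mv_iff Λ.2 A).mp h)
  have cardMem : ∀ M ∈ orbSet R A, Nat.card M = Nat.card W := by
    rintro _ ⟨Λ, rfl⟩
    rw [← hcard]
    exact Nat.card_congr (Λ.1.symm.toEquiv.subtypeEquiv fun a => Iff.rfl)
  obtain ⟨M, hM, hup⟩ := hI
  rw [← orbSet_eq hM]
  have hlM := linMem M hM
  have hsM := sqMem M hM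
  have notLo : ∀ N ∈ orbSet R A, Up N → ¬ Lo N := fun N hN h1 h2 =>
    sqMem N hN (square_of_up_lo (linMem N hN) h1 h2)
  have loMv : ∀ (s : F) (N : AddSubgroup (W × W)), Lo (mv (loT s) N) → Lo N := by
    intro s N h a ha
    have := h (loT s a) (by rw [mem_mv, LinearEquiv.symm_apply_apply]; exact ha)
    rw [mem_mv] at this
    simpa [loT, LinearEquiv.coe_symm_mk'] using this
  have hw : Lo (mv (wT F W) M) := by
    intro a ha
    rw [mem_mv, wT_symm_apply] at ha ⊢
    have := hup _ ha
    have h2 := hlM (-1) _ this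
    simpa using h2
  have upShift : ∀ s : F, Up (mv (loT s) M) → s = 0 := by
    intro s hs
    by_contra hs0
    refine hsM (square_of_up_lo hlM hup fun a ha => ?_)
    have hb := hs (loT s a) (by rw [mem_mv, LinearEquiv.symm_apply_apply]; exact ha)
    rw [mem_mv] at hb
    simp [loT, LinearEquiv.coe_symm_mk'] at hb
    have h1 : (a.2 - s • a.1, (0 : W)) ∈ M := by
      have := hup _ hb
      have h2 := hlM s⁻¹ _ this
      simpa [smul_smul, inv_mul_cancel₀ hs0] using h2
    have h2 : ((0 : W), a.2 - s • a.1) ∈ M := by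
      have := hlM s⁻¹ _ (M.sub_mem hb h1)
      simpa [smul_smul, ← mul_assoc, inv_mul_cancel₀ hs0, smul_sub] using this
    have h3 : (a.1, (0 : W)) ∈ M := by
      have := hlM s⁻¹ _ (M.sub_mem (hup a ha) h1)
      simpa [smul_smul, inv_mul_cancel₀ hs0] using this
    have h4 : ((0 : W), a.2) ∈ M := by
      convert! M.sub_mem ha h3 using 1
      ext <;> simp
    have := hlM s⁻¹ _ (M.sub_mem h4 h2)
    simpa [smul_smul, inv_mul_cancel₀ hs0] using this
  obtain ⟨z, v, hz, hv, hne⟩ : ∃ z v, R z = 0 ∧ polar R z v = 0 ∧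
      mv ((eich R z v).1.prodCongr (eich R z v).1) M ≠ M := by
    by_contra hcon
    simp only [not_exists, not_and, not_not] at hcon
    have hinv : ∀ z v, R z = 0 → polar R z v = 0 → ∀ a ∈ M,
        ((eich R z v).1 a.1, (eich R z v).1 a.2) ∈ M := fun z v hz hv a ha => by
      rw [← hcon z v hz hv, mem_mv]
      simpa using ha
    let C : Submodule F W :=
      { carrier := {c | (c, (0 : W)) ∈ M}
        zero_mem' := M.zero_mem
        add_mem' := fun {a b} ha hb => by simpa using M.add_mem ha hb
        smul_mem' := fun s c hc => by simpa using hlM s _ hc }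
    have hall : ∀ c : W, (c, (0 : W)) ∈ M := by
      by_cases hC : C = ⊥
      · exfalso
        have h2 : ∀ a ∈ M, a = 0 := fun a ha => by
          have ha2 : a.2 = 0 := by
            have : a.2 ∈ C := hup a ha
            rwa [hC, Submodule.mem_bot] at this
          have : a.1 ∈ C := by
            show (a.1, (0 : W)) ∈ M
            rw [← ha2]; exact ha
          rw [hC, Submodule.mem_bot] at this
          exact Prod.ext this ha2
        have h1 : Nat.card M = 1 := by
          rw [Nat.card_eq_one_iff_unique]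
          exact ⟨⟨fun a b => Subtype.ext ((h2 _ a.2).trans (h2 _ b.2).symm)⟩, ⟨0⟩⟩
        rw [cardMem M hM] at h1
        haveI := Module.nontrivial_of_finrank_pos (R := F) (M := W) (by omega)
        exact absurd h1 Finite.one_lt_card.ne'
      · have := eq_top_of_invariant hR hd hC fun z v hz hv c hc => by
          have := hinv z v hz hv _ hc
          show ((eich R z v).1 c, (0 : W)) ∈ M
          simpa using this
        exact fun c => show c ∈ C from this ▸ trivial
    refine tenMem M hM ⟨1, 0, Or.inl one_ne_zero, fun a => ⟨fun ha => ?_, ?_⟩⟩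
    · let f : W → M := fun c => ⟨(c, 0), hall c⟩
      have hf : Function.Injective f := fun c c' h => congrArg (fun p : M => p.1.1) h
      obtain ⟨c, hc⟩ := ((Nat.bijective_iff_injective_and_card f).mpr
        ⟨hf, (cardMem M hM).symm⟩).2 ⟨a, ha⟩
      exact ⟨c, by simpa [f] using (congrArg Subtype.val hc).symm⟩
    · rintro ⟨w, rfl⟩; simpa using hall w
  set D := (eich R z v).1.prodCongr (eich R z v).1
  have hD : D ∈ pairGroup R := diag_mem R hz hv
  have hDup : Up (mv D M) := by
    intro a ha
    rw [mem_mv] at ha ⊢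
    simpa [D] using hup _ ha
  let f : F ⊕ Bool → orbSet R M := Sum.elim
    (fun s => ⟨mv (loT s) M, mv_mem_orbSet (self_mem_orbSet M) (loT_mem R s)⟩)
    (fun b => cond b ⟨_, mv_mem_orbSet (self_mem_orbSet M) (wT_mem (R := R))⟩
      ⟨_, mv_mem_orbSet (self_mem_orbSet M) hD⟩)
  have ne1 : ∀ s : F, mv (loT s) M ≠ mv (wT F W) M := fun s h =>
    notLo M hM hup (loMv s M (h ▸ hw))
  have ne2 : ∀ s : F, mv (loT s) M ≠ mv D M := fun s h => by
    obtain rfl := upShift s (h ▸ hDup)
    rw [loT_zero, mv_one] at h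
    exact hne h.symm
  have ne3 : mv (wT F W) M ≠ mv D M := fun h =>
    notLo _ (mv_mem_orbSet hM hD) hDup (h ▸ hw)
  have hf : Function.Injective f := by
    rintro (s | b) (s' | b') h
    · have h' := congrArg (fun N : orbSet R M => mv (loT (-s')) N.1) h
      simp only [f, Sum.elim_inl, ← mv_mul, loT_add, neg_add_cancel, loT_zero, mv_one] at h'
      congr 1
      by_contra hss
      exact notLo M hM hup (lo_of_fix hlM (fun h0 => hss (neg_add_eq_zero.mp h0).symm) h')
    · cases b' <;> simp [f, ne1, ne2] at h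
    · cases b <;> simp [f, (ne1 s').symm, (ne2 s').symm] at h
    · cases b <;> cases b' <;> simp [f, ne3, ne3.symm] at h ⊢
  have h1 := Nat.card_le_card_of_injective f hf
  rw [Nat.card_sum, Nat.card_eq_fintype_card (α := Bool), Fintype.card_bool] at h1
  exact h1

/-- **A linear Lagrangian has a long orbit unless it is a square or a tensor.** -/
theorem orbit_lagrangian (hR : PolarND R) (hd : 3 ≤ Module.finrank F W) (hq : 3 ≤ Nat.card F)
    {A : AddSubgroup (W × W)} (hl : Lin F A) (hcard : Nat.card A = Nat.card W)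
    (hsq : ¬ IsSquare' F A) (hten : ¬ IsTensor F A) :
    Nat.card F + 2 ≤ Nat.card (orbSet R A) := by
  classical
  by_cases hI : ∃ M ∈ orbSet R A, Up M
  · exact orbit_of_up hR hd hl hcard hsq hten hI
  haveI := Fintype.ofFinite F
  haveI : Finite (AddSubgroup (W × W)) := Finite.of_injective _ SetLike.coe_injective
  have linMem : ∀ M ∈ orbSet R A, Lin F M := by rintro _ ⟨Λ, rfl⟩; exact hl.mv _
  simp only [not_exists, not_and] at hI
  by_contra hlt
  rw [not_le] at hlt
  have notLo : ∀ M ∈ orbSet R A, ¬ Lo M := fun M hM hLo =>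
    hI _ (mv_mem_orbSet hM (wT_mem (R := R))) fun a ha => by
      rw [mem_mv, wT_symm_apply] at ha ⊢
      simpa using linMem M hM (-1) _ (hLo _ ha)
  have injU : ∀ M ∈ orbSet R A, Function.Injective fun t : F => mv (upT t) M := by
    intro M hM s t h
    have h' := congrArg (fun N => mv (upT (-t)) N) h
    simp only [← mv_mul, upT_add, neg_add_cancel, upT_zero, mv_one] at h'
    by_contra hst
    exact hI M hM (up_of_fix (linMem M hM) (fun h0 => hst (neg_add_eq_zero.mp h0).symm) h')
  have cover : ∀ M ∈ orbSet R A, ∀ N ∈ orbSet R A, ∃ t : F, mv (upT t) M = N := by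
    intro M hM N hN
    by_contra hcon
    let f : F ⊕ F → orbSet R A := Sum.elim
      (fun t => ⟨_, mv_mem_orbSet hM (upT_mem R t)⟩) (fun t => ⟨_, mv_mem_orbSet hN (upT_mem R t)⟩)
    have hf : Function.Injective f := by
      rintro (s | s) (t | t) h <;> have h0 := congrArg Subtype.val h <;>
        simp only [f, Sum.elim_inl, Sum.elim_inr] at h0
      · rw [injU M hM h0]
      · refine absurd ⟨-t + s, ?_⟩ hcon
        have h' := congrArg (fun K => mv (upT (-t)) K) h0
        simpa only [← mv_mul, upT_add, neg_add_cancel, upT_zero, mv_one] using h'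
      · refine absurd ⟨-s + t, ?_⟩ hcon
        have h' := congrArg (fun K => mv (upT (-s)) K) h0.symm
        simpa only [← mv_mul, upT_add, neg_add_cancel, upT_zero, mv_one] using h'
      · rw [injU N hN h0]
    have h1 := Nat.card_le_card_of_injective f hf
    rw [Nat.card_sum] at h1
    omega
  have hA := self_mem_orbSet (R := R) A
  choose τ hτ using fun s : F => cover A hA _ (mv_mem_orbSet hA (loT_mem R s))
  have hτinj : Function.Injective τ := fun s s' h => by
    have h' : mv (loT (-s')) (mv (loT s) A) = mv (loT (-s')) (mv (loT s') A) := by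
      rw [← hτ, ← hτ, h]
    simp only [← mv_mul, loT_add, neg_add_cancel, loT_zero, mv_one] at h'
    by_contra hss
    exact notLo A hA (lo_of_fix hl (fun h0 => hss (neg_add_eq_zero.mp h0).symm) h')
  obtain ⟨s, hs0, hs1⟩ : ∃ s : F, s ≠ 0 ∧ s ≠ 1 := by
    by_contra h
    simp only [not_exists, not_and, not_not] at h
    have hsur : Function.Surjective fun b : Bool => cond b (1 : F) 0 := fun x => by
      by_cases hx : x = 0
      · exact ⟨false, hx.symm⟩
      · exact ⟨true, (h x hx).symm⟩
    have := Nat.card_le_card_of_surjective _ hsur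
    rw [Nat.card_eq_fintype_card (α := Bool), Fintype.card_bool] at this
    omega
  have move : ∀ r : F, ∀ a ∈ A, (a.1 + τ r • (a.2 - r • a.1), a.2 - r • a.1) ∈ A := by
    intro r a ha
    have : loT r a ∈ mv (upT (τ r)) A := by
      rw [hτ, mem_mv, LinearEquiv.symm_apply_apply]; exact ha
    rw [mem_mv] at this
    simpa [upT, loT, LinearEquiv.coe_symm_mk'] using this
  set α := s * (τ s - τ 1) with hα
  set β := s * τ 1 - τ s with hβ
  have hα0 : α ≠ 0 := mul_ne_zero hs0 (sub_ne_zero.mpr fun h => hs1 (hτinj h))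
  have hrow : ∀ a ∈ A, (α • a.1 + β • a.2, (0 : W)) ∈ A := by
    intro a ha
    have := A.sub_mem (hl s _ (A.sub_mem (move 1 a ha) ha)) (A.sub_mem (move s a ha) ha)
    convert! this using 1
    ext
    · simp [hα, hβ]; module
    · simp
  set e := -β / α with he
  set A0 := mv (upT e) A with hA0def
  have hA0 : A0 ∈ orbSet R A := mv_mem_orbSet hA (upT_mem R e)
  have split : ∀ a ∈ A0, (a.1, (0 : W)) ∈ A0 := by
    intro a ha
    rw [hA0def, mem_mv] at ha ⊢
    have h1 := hl α⁻¹ _ (hrow _ ha)
    have hβe : β = -(α * e) := by rw [he]; field_simp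
    convert! h1 using 1
    ext
    · simp [upT, LinearEquiv.coe_symm_mk', hβe, smul_add, smul_smul, ← mul_assoc,
        inv_mul_cancel₀ hα0, neg_smul, smul_neg]
    · simp [upT, LinearEquiv.coe_symm_mk']
  obtain ⟨t, ht⟩ := cover A0 hA0 _ (mv_mem_orbSet hA0 (loT_mem R 1))
  refine notLo A0 hA0 fun a ha => ?_
  have h1 : loT (1 : F) (a.1, (0 : W)) ∈ mv (upT t) A0 := by
    rw [ht, mem_mv, LinearEquiv.symm_apply_apply]; exact split a ha
  rw [mem_mv] at h1
  simp [upT, loT, LinearEquiv.coe_symm_mk'] at h1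
  have h2 := A0.sub_mem (split _ h1) h1
  simpa using h2

/-- Images of a maximal square under the root elements at a suitable centre. -/
theorem exists_separating (hR : PolarND R) (hd : 3 ≤ Module.finrank F W) {C : Submodule F W}
    (hiso : ∀ x ∈ C, ∀ y ∈ C, polar R x y = 0) (hdim : 2 * Module.finrank F C = Module.finrank F W) :
    ∃ (z : W) (K : Submodule F W), R z = 0 ∧ (∀ v ∈ K, polar R z v = 0) ∧
      Module.finrank F W ≤ 2 * Module.finrank F K + 2 ∧ ∀ v ∈ K, ∀ v' ∈ K,
        (∀ x, (eich R z v).1.symm x ∈ C ↔ (eich R z v').1.symm x ∈ C) → v = v' := by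
  classical
  haveI := Module.finite_of_finite (R := F) (M := W)
  have hex : ∀ (z : W), R z = 0 → ∀ (v x : W), polar R z v = 0 →
      (eich R z v).1 x = x + polar R z x • v - polar R v x • z - (R v * polar R z x) • z :=
    fun z hz v x hv => eich_apply hz hv x
  obtain ⟨z, hz, hzC⟩ : ∃ z, R z = 0 ∧ z ∉ C := by
    by_contra hcon
    simp only [not_exists, not_and, not_not] at hcon
    haveI := Module.nontrivial_of_finrank_pos (R := F) (M := W) (by omega)
    obtain ⟨c, hc⟩ := exists_ne (0 : W)
    obtain ⟨z, z', hz, hz', hzz', -⟩ := exists_singular_pair hR hd hc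
    have := hiso z (hcon z hz) z' (hcon z' hz')
    rw [hzz'] at this
    exact one_ne_zero this
  obtain ⟨c, hc, hzc⟩ : ∃ c ∈ C, polar R z c = 1 := by
    have : ∃ c ∈ C, polar R z c ≠ 0 := by
      by_contra hcon
      simp only [not_exists, not_and, not_not] at hcon
      have hle : C ⊔ F ∙ z ≤ OrthStab.perpOf R C := by
        refine sup_le (fun x hx => OrthStab.mem_perpOf.mpr fun w hw => hiso x hx w hw) ?_
        rw [Submodule.span_singleton_le_iff_mem]
        exact OrthStab.mem_perpOf.mpr fun w hw => hcon w hw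
      have h1 := Submodule.finrank_mono hle
      have h2 := OrthStab.finrank_sup_singleton hzC
      have h3 := OrthStab.finrank_perpOf hR C
      omega
    obtain ⟨c, hc, h⟩ := this
    exact ⟨(polar R z c)⁻¹ • c, C.smul_mem _ hc, by rw [polar_smul_right, smul_eq_mul, inv_mul_cancel₀ h]⟩
  set H := LinearMap.ker (polarBilin R z) with hH
  set C0 := (C ⊓ H) ⊔ F ∙ z with hC0
  have hC0H : C0 ≤ H := sup_le inf_le_right ((Submodule.span_singleton_le_iff_mem _ _).mpr
    (by simp [hH, polar_self_eq, hz]))
  obtain ⟨K', hK'⟩ := Submodule.exists_isCompl C0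
  refine ⟨z, K' ⊓ H, hz, fun v hv => hv.2, ?_, fun v hv v' hv' h => ?_⟩
  · have hCH : Module.finrank F ↑(C ⊓ H) + 1 ≤ Module.finrank F C := by
      refine Submodule.finrank_lt_finrank_of_lt (lt_of_le_of_ne inf_le_left fun e => ?_)
      have : c ∈ H := (inf_eq_left.mp e) hc
      rw [hH, LinearMap.mem_ker, polarBilin_apply_apply, hzc] at this
      exact one_ne_zero this
    have h1 : Module.finrank F C0 ≤ Module.finrank F ↑(C ⊓ H) + 1 :=
      (Submodule.finrank_add_le_finrank_add_finrank _ _).trans
        (Nat.add_le_add_left (by simpa using finrank_span_le_card ({z} : Set W)) _)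
    have h2 := Submodule.finrank_add_eq_of_isCompl hK'
    have h3 : Module.finrank F W ≤ Module.finrank F H + 1 := by
      have := LinearMap.finrank_range_add_finrank_ker (polarBilin R z)
      have h4 := Submodule.finrank_le (LinearMap.range (polarBilin R z))
      rw [Module.finrank_self] at h4
      rw [← hH] at this
      omega
    have h5 := Submodule.finrank_sup_add_finrank_inf_eq K' H
    have h6 := Submodule.finrank_le (K' ⊔ H)
    omega
  · have hv0 : polar R z v = 0 := hv.2
    have hv'0 : polar R z v' = 0 := hv'.2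
    have h1 := (h ((eich R z v).1 c)).mp (by simpa using hc)
    set c' := (eich R z v').1.symm ((eich R z v).1 c) with hc'
    have e : (eich R z v).1 c = (eich R z v').1 c' := by rw [hc', LinearEquiv.apply_symm_apply]
    have hzc' : polar R z c' = 1 := by
      have := congrArg (polarBilin R z) e
      rw [hex z hz v c hv0, hex z hz v' c' hv'0] at this
      simpa [hzc, hv0, hv'0, polar_self_eq, hz] using this.symm
    rw [hex z hz v c hv0, hex z hz v' c' hv'0, hzc, hzc'] at e
    have hd : v - v' ∈ C0 := by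
      have e2 : v - v' = (c' - c) + ((polar R v c + R v) - (polar R v' c' + R v')) • z := by
        linear_combination (norm := module) e
      rw [e2]
      exact Submodule.add_mem_sup ⟨C.sub_mem h1 hc, by simp [hH, polar_sub_right, hzc, hzc']⟩
        (Submodule.smul_mem _ _ (Submodule.mem_span_singleton_self z))
    exact sub_eq_zero.mp ((Submodule.disjoint_def.mp hK'.disjoint) _ hd (K'.sub_mem hv.1 hv'.1))

/-- Separated images give a long orbit. -/
theorem card_le_orbit {A : AddSubgroup (W × W)} {C : Submodule F W}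
    (hC : ∀ a, a ∈ A ↔ a.1 ∈ C ∧ a.2 ∈ C) {z : W} {K : Submodule F W} (hz : R z = 0)
    (hK : ∀ v ∈ K, polar R z v = 0) (hsep : ∀ v ∈ K, ∀ v' ∈ K,
      (∀ x, (eich R z v).1.symm x ∈ C ↔ (eich R z v').1.symm x ∈ C) → v = v') :
    Nat.card F ^ Module.finrank F K ≤ Nat.card (orbSet R A) := by
  haveI := Module.finite_of_finite (R := F) (M := W)
  haveI : Finite (AddSubgroup (W × W)) := Finite.of_injective _ SetLike.coe_injective
  let f : K → orbSet R A := fun v =>
    ⟨_, mv_mem_orbSet (self_mem_orbSet A) (diag_mem R hz (hK v v.2))⟩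
  have hf : Function.Injective f := fun v v' h => Subtype.ext (hsep _ v.2 _ v'.2 fun x => by
    have h' := SetLike.ext_iff.mp (congrArg Subtype.val h) (x, 0)
    simpa [f, mem_mv, hC] using h')
  rw [← Module.natCard_eq_pow_finrank (K := F)]
  exact Nat.card_le_card_of_injective f hf

/-- A maximal square has an orbit of length at least `q`. -/
theorem q_le_orbit_square (hR : PolarND R) (hd : 3 ≤ Module.finrank F W)
    {A : AddSubgroup (W × W)} {C : Submodule F W} (hC : ∀ a, a ∈ A ↔ a.1 ∈ C ∧ a.2 ∈ C)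
    (hiso : ∀ x ∈ C, ∀ y ∈ C, polar R x y = 0)
    (hdim : 2 * Module.finrank F C = Module.finrank F W) :
    Nat.card F ≤ Nat.card (orbSet R A) := by
  obtain ⟨z, K, hz, hK, hK1, hsep⟩ := exists_separating hR hd hiso hdim
  refine le_trans ?_ (card_le_orbit hC hz hK hsep)
  exact Nat.le_self_pow (by omega) _

/-- **A maximal square has a long orbit, except for a totally singular plane in dimension four.** -/
theorem orbit_square (hR : PolarND R) (hd : 3 ≤ Module.finrank F W) (hq : 2 ≤ Nat.card F)
    {A : AddSubgroup (W × W)} {C : Submodule F W} (hC : ∀ a, a ∈ A ↔ a.1 ∈ C ∧ a.2 ∈ C)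
    (hiso : ∀ x ∈ C, ∀ y ∈ C, polar R x y = 0) (hdim : 2 * Module.finrank F C = Module.finrank F W)
    (hne : Module.finrank F W = 4 → ∃ c ∈ C, R c ≠ 0) :
    Nat.card F + 2 ≤ Nat.card (orbSet R A) := by
  classical
  haveI := Module.finite_of_finite (R := F) (M := W)
  haveI : Finite (AddSubgroup (W × W)) := Finite.of_injective _ SetLike.coe_injective
  set q := Nat.card F with hqdef
  have hq2 : q + 2 ≤ q ^ 2 := by nlinarith
  have hex : ∀ (z : W), R z = 0 → ∀ (v x : W), polar R z v = 0 →
      (eich R z v).1 x = x + polar R z x • v - polar R v x • z - (R v * polar R z x) • z :=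
    fun z hz v x hv => eich_apply hz hv x
  suffices ∃ (z : W) (K : Submodule F W), R z = 0 ∧ (∀ v ∈ K, polar R z v = 0) ∧
      2 ≤ Module.finrank F K ∧ ∀ v ∈ K, ∀ v' ∈ K,
        (∀ x, (eich R z v).1.symm x ∈ C ↔ (eich R z v').1.symm x ∈ C) → v = v' by
    obtain ⟨z, K, hz, hK, hK2, hsep⟩ := this
    exact hq2.trans ((Nat.pow_le_pow_right (by omega) hK2).trans (card_le_orbit hC hz hK hsep))
  rcases Nat.lt_or_ge 4 (Module.finrank F W) with h4 | h4
  · obtain ⟨z, K, hz, hK, hK1, hsep⟩ := exists_separating hR hd hiso hdim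
    exact ⟨z, K, hz, hK, by omega, hsep⟩
  · obtain ⟨c₁, hc₁, hc₁Q⟩ := hne (by omega)
    have h2 : (2 : F) = 0 := by
      by_contra h2
      have h3 := hiso c₁ hc₁ c₁ hc₁
      rw [polar_self_eq] at h3
      exact hc₁Q ((mul_eq_zero.mp h3).resolve_left h2)
    haveI := Fintype.ofFinite F
    haveI : CharP F 2 := CharTwo.of_one_ne_zero_of_two_eq_zero one_ne_zero h2
    have addQ : ∀ x ∈ C, ∀ y ∈ C, R (x + y) = R x + R y := fun x hx y hy => by
      rw [form_add, hiso x hx y hy, add_zero]
    obtain ⟨c₂, hc₂, hind⟩ : ∃ c₂ ∈ C, c₂ ∉ F ∙ c₁ := by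
      by_contra hcon
      simp only [not_exists, not_and, not_not] at hcon
      have := Submodule.finrank_mono (show C ≤ F ∙ c₁ from hcon)
      have := finrank_span_le_card (R := F) ({c₁} : Set W)
      simp at this
      omega
    obtain ⟨a, ha⟩ : IsSquare (R c₂ / R c₁) := FiniteField.isSquare_of_char_two (ringChar.eq F 2) _
    set z₀ := c₂ + a • c₁ with hz₀
    have hz₀C : z₀ ∈ C := C.add_mem hc₂ (C.smul_mem _ hc₁)
    have hz₀Q : R z₀ = 0 := by
      rw [hz₀, addQ _ hc₂ _ (C.smul_mem _ hc₁), form_smul, ← ha, div_mul_cancel₀ _ hc₁Q]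
      exact CharTwo.add_self_eq_zero _
    have hz₀0 : z₀ ≠ 0 := fun h => hind (Submodule.mem_span_singleton.mpr ⟨-a, by
      rw [neg_smul, neg_eq_iff_add_eq_zero, add_comm]; exact h⟩)
    have uniq : ∀ x ∈ C, R x = 0 → ∃ t : F, x = t • z₀ := by
      intro x hx hxQ
      by_contra hcon
      simp only [not_exists] at hcon
      -- two singular vectors would span a totally singular plane
      have hind2 : LinearIndependent F ![z₀, x] := by
        rw [LinearIndependent.pair_iff' hz₀0]; exact fun t ht => hcon t ht.symm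
      have hsp : Submodule.span F (Set.range ![z₀, x]) = C := by
        refine Submodule.eq_of_le_of_finrank_le (Submodule.span_le.mpr ?_) ?_
        · rintro _ ⟨i, rfl⟩; fin_cases i <;> simpa
        · rw [finrank_span_eq_card hind2]; simp; omega
      rw [← hsp, Submodule.mem_span_range_iff_exists_fun] at hc₁
      obtain ⟨u, hu⟩ := hc₁
      apply hc₁Q
      rw [← hu]
      simp [Fin.sum_univ_two, form_add, form_smul, hz₀Q, hxQ, polar_smul_left, polar_smul_right,
        hiso z₀ hz₀C x hx]
    obtain ⟨z, z', hz, hz', hzz', hzz₀⟩ := exists_singular_pair hR hd hz₀0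
    refine ⟨z, OrthStab.perp₂ R z z', hz, fun v hv => (OrthStab.mem_perp₂.mp hv).1, ?_,
      fun v hv v' hv' h => ?_⟩
    · have := OrthStab.finrank_perp₂ hz hz' hzz'; omega
    obtain ⟨hv0, hvz'⟩ := OrthStab.mem_perp₂.mp hv
    obtain ⟨hv'0, hv'z'⟩ := OrthStab.mem_perp₂.mp hv'
    have h1 := (h ((eich R z v).1 z₀)).mp (by simpa using hz₀C)
    obtain ⟨t, ht⟩ := uniq _ h1 (by
      rw [← map_form (eich R z v') ((eich R z v').1.symm _), LinearEquiv.apply_symm_apply, map_form, hz₀Q])
    rw [LinearEquiv.symm_apply_eq, map_smul, hex z hz v z₀ hv0, hex z hz v' z₀ hv'0] at ht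
    have ht1 : t = 1 := by
      have := congrArg (polarBilin R z) ht
      simp [hv0, hv'0, polar_self_eq, hz] at this
      exact (mul_left_eq_self₀.mp this.symm).resolve_right hzz₀
    subst ht1
    have hd : (polar R z z₀) • (v - v') =
        ((polar R v z₀ + R v * polar R z z₀) - (polar R v' z₀ + R v' * polar R z z₀)) • z := by
      linear_combination (norm := module) ht
    have hc := congrArg (polarBilin R z') hd
    simp [polar_comm R z' z, hzz', hvz', hv'z', polar_sub_right] at hc
    rw [← hc, zero_smul, smul_eq_zero] at hd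
    exact sub_eq_zero.mp (hd.resolve_left hzz₀)

end Cfsg.Agent.MinIdxClassical
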