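import Cfsg.Agent.MinIdxClassical.Realise
import Cfsg.Agent.MinIdxClassical.LagrOrbit

/-!
Sets of singular vectors meeting every totally singular line in one point or in the whole line
lie in a hyperplane (helper24).
-/

set_option autoImplicit false
set_option linter.unusedSectionVars false

namespace Cfsg.Agent.MinIdxClassical

open QuadraticMap Cfsg.Agent.UnitaryOrthogonal

variable {F : Type*} [Field F] [Finite F] {V : Type*} [AddCommGroup V] [Module F V] [Finite V]
variable {Q : QuadraticForm F V}

/-- Two vectors spanning a totally singular line. -/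
def IsLine (Q : QuadraticForm F V) (a b : V) : Prop :=
  Q a = 0 ∧ Q b = 0 ∧ polar Q a b = 0 ∧ a ≠ 0 ∧ b ∉ F ∙ a

theorem IsLine.symm {a b : V} (h : IsLine Q a b) : IsLine Q b a := by
  obtain ⟨ha, hb, hab, ha0, hb'⟩ := h
  refine ⟨hb, ha, by rw [polar_comm]; exact hab, fun h => hb' (h ▸ zero_mem _), fun hm => ?_⟩
  obtain ⟨c, hc⟩ := Submodule.mem_span_singleton.mp hm
  have hc0 : c ≠ 0 := fun h => ha0 (by rw [← hc, h, zero_smul])
  exact hb' (Submodule.mem_span_singleton.mpr ⟨c⁻¹, by rw [← hc, smul_smul, inv_mul_cancel₀ hc0, one_smul]⟩)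

theorem exists_frame (hQ : PolarND Q) {a b : V} (h : IsLine Q a b) :
    ∃ L : LineFrame Q, L.x = a ∧ L.y = b := by
  obtain ⟨ha, hb, hab, ha0, hb'⟩ := h
  haveI := Module.finite_of_finite (R := F) (M := V)
  have ha' : a ∉ F ∙ b := (IsLine.symm ⟨ha, hb, hab, ha0, hb'⟩).2.2.2.2
  have hb0 : b ≠ 0 := fun h => hb' (h ▸ zero_mem _)
  obtain ⟨x', hxx', hyx', hx'⟩ : ∃ x', polar Q a x' = 1 ∧ polar Q b x' = 0 ∧ Q x' = 0 := by
    have hlt : OrthStab.perpOf Q (F ∙ b ⊔ F ∙ a) < OrthStab.perpOf Q (F ∙ b) := by
      refine lt_of_le_of_ne (fun x hx => OrthStab.mem_perpOf.mpr fun w hw =>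
        OrthStab.mem_perpOf.mp hx w (Submodule.mem_sup_left hw)) fun e => ?_
      have h1 := OrthStab.finrank_perpOf hQ (F ∙ b ⊔ F ∙ a)
      have h2 := OrthStab.finrank_perpOf hQ (F ∙ b)
      have h3 := OrthStab.finrank_sup_singleton ha'
      rw [e] at h1
      omega
    obtain ⟨w, hw, hwn⟩ := SetLike.exists_of_lt hlt
    have hbw : polar Q b w = 0 := by
      rw [polar_comm]; exact OrthStab.mem_perpOf.mp hw b (Submodule.mem_span_singleton_self b)
    have haw : polar Q a w ≠ 0 := fun e => hwn (OrthStab.mem_perpOf.mpr fun v hv => by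
      obtain ⟨v1, hv1, v2, hv2, rfl⟩ := Submodule.mem_sup.mp hv
      obtain ⟨s, rfl⟩ := Submodule.mem_span_singleton.mp hv1
      obtain ⟨t, rfl⟩ := Submodule.mem_span_singleton.mp hv2
      simp [polar_add_right, polar_smul_right, polar_comm Q w, hbw, e])
    set w1 := (polar Q a w)⁻¹ • w with hw1
    have haw1 : polar Q a w1 = 1 := by rw [hw1, polar_smul_right, smul_eq_mul, inv_mul_cancel₀ haw]
    have hbw1 : polar Q b w1 = 0 := by rw [hw1, polar_smul_right, hbw, smul_zero]
    refine ⟨w1 + (-Q w1) • a, ?_, ?_, ?_⟩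
    · simp [polar_add_right, polar_smul_right, haw1, polar_self_eq, ha]
    · simp [polar_add_right, polar_smul_right, hbw1, polar_comm Q b a, hab]
    · simp [form_add, form_smul, ha, polar_smul_right, polar_comm Q w1 a, haw1]
  have hbP : b ∈ OrthStab.perp₂ Q a x' :=
    OrthStab.mem_perp₂.mpr ⟨hab, by rw [polar_comm]; exact hyx'⟩
  have hP := OrthStab.polarND_perp₂ hQ ha hx' hxx'
  obtain ⟨y', hy', hyy'⟩ := exists_pair hP.nonsing
    (show (Q.comp (OrthStab.perp₂ Q a x').subtype) ⟨b, hbP⟩ = 0 from hb)
    (fun h => hb0 (congrArg Subtype.val h))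
  obtain ⟨h1, h2⟩ := OrthStab.mem_perp₂.mp y'.2
  exact ⟨⟨a, b, x', (y' : V), ha, hb, hx', hy', hab, h1, hyx', h2, hxx', hyy'⟩, rfl, rfl⟩

/-- The singular vectors orthogonal to `u` outside `⟨u⟩` span the orthogonal of `u`. -/
theorem mem_span_singular_perp (hQ : PolarND Q) (hd : 5 ≤ Module.finrank F V) (u : V) {k : V}
    (hk : polar Q u k = 0) :
    k ∈ Submodule.span F {z | Q z = 0 ∧ polar Q u z = 0 ∧ z ∉ F ∙ u} ∧
      ∃ z, Q z = 0 ∧ polar Q u z = 0 ∧ z ∉ F ∙ u := by
  haveI := Module.finite_of_finite (R := F) (M := V)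
  set K := LinearMap.ker (polarBilin Q u)
  have hmemK : ∀ {x}, x ∈ K ↔ polar Q u x = 0 := Iff.rfl
  obtain ⟨U', hU'⟩ := Submodule.exists_isCompl (F ∙ u)
  have h1 := LinearMap.finrank_range_add_finrank_ker (polarBilin Q u)
  have h2 := Submodule.finrank_le (LinearMap.range (polarBilin Q u))
  rw [Module.finrank_self] at h2
  have h1' : Module.finrank F K = Module.finrank F (LinearMap.ker (polarBilin Q u)) := rfl
  have h3 := Submodule.finrank_add_eq_of_isCompl hU'
  have h4 : Module.finrank F (F ∙ u) ≤ 1 := by simpa using finrank_span_le_card ({u} : Set V)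
  have h5 := Submodule.finrank_sup_add_finrank_inf_eq K U'
  have h6 := Submodule.finrank_le (K ⊔ U')
  obtain ⟨z, hz, hz0, hzQ⟩ := OrthStab.exists_singular_mem (Q := Q) (K ⊓ U') (by omega)
  obtain ⟨hzK, hzU⟩ := hz
  have hzu : z ∉ F ∙ u := fun h => hz0 ((Submodule.disjoint_def.mp hU'.disjoint) z h hzU)
  have hzne : ∃ w ∈ K, polar Q z w ≠ 0 := by
    by_contra hcon
    simp only [not_exists, not_and, not_not] at hcon
    apply hzu
    have hle : F ∙ u ⊔ F ∙ z ≤ OrthStab.perpOf Q K := by
      refine sup_le ?_ ?_ <;> rw [Submodule.span_singleton_le_iff_mem]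
      · exact OrthStab.mem_perpOf.mpr fun w hw => hw
      · exact OrthStab.mem_perpOf.mpr hcon
    by_cases hu : u = 0
    · exfalso
      exact hz0 (hQ z fun x => hcon x (by simp [hmemK, hu]))
    by_contra hzu'
    have h7 := Submodule.finrank_mono hle
    have h8 := OrthStab.finrank_sup_singleton hzu'
    rw [finrank_span_singleton hu] at h8
    have h9 := OrthStab.finrank_perpOf hQ K
    omega
  obtain ⟨w, hw, hzw⟩ := hzne
  set w1 := (polar Q z w)⁻¹ • w with hw1
  have hzw1 : polar Q z w1 = 1 := by rw [hw1, polar_smul_right, smul_eq_mul, inv_mul_cancel₀ hzw]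
  set z' := w1 + (-Q w1) • z with hz'
  have hz'K : z' ∈ K := K.add_mem (K.smul_mem _ hw) (K.smul_mem _ hzK)
  have hzz' : polar Q z z' = 1 := by
    simp [hz', polar_add_right, polar_smul_right, hzw1, polar_self_eq, hzQ]
  have hz'Q : Q z' = 0 := by
    simp [hz', form_add, form_smul, hzQ, polar_smul_right, polar_comm Q w1 z, hzw1]
  set S := {z | Q z = 0 ∧ polar Q u z = 0 ∧ z ∉ F ∙ u}
  have hnu : ∀ {x y : V}, polar Q u y = 0 → polar Q y x = 1 → x ∉ F ∙ u := by
    intro x y hy hyx hm
    obtain ⟨c, rfl⟩ := Submodule.mem_span_singleton.mp hm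
    rw [polar_smul_right, polar_comm Q y u, hy, smul_zero] at hyx
    exact zero_ne_one hyx
  have hz'z : polar Q z' z = 1 := by rw [polar_comm]; exact hzz'
  refine ⟨?_, z, hzQ, hzK, hzu⟩
  set k' := k - polar Q z' k • z - polar Q z k • z' with hk'
  have k1 : polar Q z k' = 0 := by
    simp [hk', polar_sub_right, polar_smul_right, polar_self_eq, hzQ, hzz']
  have k2 : polar Q z' k' = 0 := by
    simp [hk', polar_sub_right, polar_smul_right, polar_self_eq, hz'Q, hz'z]
  have hzmem : z ∈ Submodule.span F S := Submodule.subset_span ⟨hzQ, hzK, hzu⟩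
  have hz'mem : z' ∈ Submodule.span F S :=
    Submodule.subset_span ⟨hz'Q, hz'K, hnu hzK hzz'⟩
  have hk'K : k' ∈ K := K.sub_mem (K.sub_mem hk (K.smul_mem _ hzK)) (K.smul_mem _ hz'K)
  have hm : k' + z + (-Q k') • z' ∈ Submodule.span F S := by
    refine Submodule.subset_span ⟨?_, K.add_mem (K.add_mem hk'K hzK) (K.smul_mem _ hz'K),
      hnu hz'K ?_⟩
    · simp [form_add, form_smul, hzQ, hz'Q, polar_smul_right, polar_add_left, hzz',
        polar_comm Q k' z, k1, polar_comm Q k' z', k2]
    · simp [polar_add_right, polar_smul_right, k2, hz'z, polar_self_eq, hz'Q]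
  have e : k = (k' + z + (-Q k') • z') + (polar Q z' k - 1) • z + (polar Q z k + Q k') • z' := by
    rw [hk']; module
  rw [e]
  exact add_mem (add_mem hm (Submodule.smul_mem _ _ hzmem)) (Submodule.smul_mem _ _ hz'mem)

/-- Singular vectors span a non-degenerate space of dimension at least three. -/
theorem span_singular_eq_top (hQ : PolarND Q) (hd : 3 ≤ Module.finrank F V) :
    Submodule.span F {z | Q z = 0} = ⊤ := by
  obtain ⟨z, -, hz0, hz⟩ := OrthStab.exists_singular_mem (Q := Q) ⊤ (by rwa [finrank_top])
  refine eq_top_of_invariant hQ hd (fun h => hz0 ?_) fun u v hu hv c hc => ?_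
  · have : z ∈ Submodule.span F {z | Q z = 0} := Submodule.subset_span hz
    rwa [h, Submodule.mem_bot] at this
  · induction hc using Submodule.span_induction with
    | mem x hx =>
      exact Submodule.subset_span (show Q ((eich Q u v).1 x) = 0 by rw [map_form]; exact hx)
    | zero => rw [map_zero]; exact zero_mem _
    | add x y _ _ hx hy => rw [map_add]; exact add_mem hx hy
    | smul t x _ hx => rw [map_smul]; exact Submodule.smul_mem _ _ hx

variable (Q)

/-- A set of singular vectors meeting every line in one point or in all. -/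
structure GeomHyp (X : Set V) : Prop where
  sing : ∀ x ∈ X, Q x = 0 ∧ x ≠ 0
  smul : ∀ x ∈ X, ∀ c : F, c ≠ 0 → c • x ∈ X
  line : ∀ a b, a ∈ X → b ∈ X → IsLine Q a b → ∀ s t : F, s ≠ 0 ∨ t ≠ 0 → s • a + t • b ∈ X
  meet : ∀ a b, IsLine Q a b → ∃ s t : F, s • a + t • b ∈ X

variable {Q}

theorem exists_dual_vector (hQ : PolarND Q) (f : V →ₗ[F] F) : ∃ v, ∀ x, polar Q v x = f x := by
  haveI := Module.finite_of_finite (R := F) (M := V)
  have hinj : Function.Injective (polarBilin Q) := by
    rw [injective_iff_map_eq_zero]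
    exact fun v hv => hQ v fun x => LinearMap.congr_fun hv x
  obtain ⟨v, hv⟩ := (LinearMap.injective_iff_surjective_of_finrank_eq_finrank
    (Subspace.dual_finrank_eq).symm).mp hinj f
  exact ⟨v, fun x => LinearMap.congr_fun hv x⟩

/-- On the lines through a point outside, the points of the set form a hyperplane. -/
theorem exists_local (hQ : PolarND Q) (hn : 7 ≤ Module.finrank F V) {X : Set V}
    (hX : GeomHyp Q X) {p : V} (hp : Q p = 0) (hp0 : p ≠ 0) (hpX : p ∉ X) :
    ∃ v0, polar Q v0 p = 1 ∧ ∀ t, Q t = 0 → polar Q p t = 0 → t ∉ F ∙ p →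
      (t ∈ X ↔ polar Q v0 t = 0) := by
  classical
  obtain ⟨p', hp', hpp'⟩ := exists_pair hQ.nonsing hp hp0
  have hP := OrthStab.polarND_perp₂ hQ hp hp' hpp'
  have hdP := OrthStab.finrank_perp₂ hp hp' hpp'
  obtain ⟨⟨e, he⟩, -, he0, heQ⟩ := OrthStab.exists_singular_mem
    (Q := Q.comp (OrthStab.perp₂ Q p p').subtype) ⊤ (by rw [finrank_top]; omega)
  replace he0 : e ≠ 0 := fun h => he0 (Subtype.ext h)
  replace heQ : Q e = 0 := heQ
  obtain ⟨f, hf, hef⟩ := exists_pair hP.nonsing
    (show (Q.comp (OrthStab.perp₂ Q p p').subtype) ⟨e, he⟩ = 0 from heQ)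
    (fun h => he0 (congrArg Subtype.val h))
  obtain ⟨hpe, hp'e⟩ := OrthStab.mem_perp₂.mp he
  obtain ⟨hpf, hp'f⟩ := OrthStab.mem_perp₂.mp f.2
  let L : LineFrame Q := ⟨p, e, p', (f : V), hp, heQ, hp', hf, hpe, hpf,
    by rw [polar_comm]; exact hp'e, hp'f, hpp', hef⟩
  have hR := L.polarND_form hQ
  have hdR := L.finrank_W0
  -- the lift
  have hline : ∀ {w}, Q w = 0 → w ≠ 0 → polar Q p w = 0 → polar Q p' w = 0 → IsLine Q p w := by
    intro w hw hw0 h1 h2
    refine ⟨hp, hw, h1, hp0, fun hm => ?_⟩
    obtain ⟨c, rfl⟩ := Submodule.mem_span_singleton.mp hm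
    rw [polar_smul_right, polar_comm Q p' p, hpp', smul_eq_mul, mul_one] at h2
    exact hw0 (by rw [h2, zero_smul])
  have hex : ∀ {w}, Q w = 0 → w ≠ 0 → polar Q p w = 0 → polar Q p' w = 0 →
      ∃ l : F, w + l • p ∈ X := by
    intro w hw hw0 h1 h2
    obtain ⟨s, t, hst⟩ := hX.meet p w (hline hw hw0 h1 h2)
    by_cases ht : t = 0
    · exfalso
      subst ht
      simp at hst
      have hs : s ≠ 0 := fun h => (hX.sing _ hst).2 (by simp [h])
      exact hpX (by simpa [smul_smul, hs] using hX.smul _ hst s⁻¹ (inv_ne_zero hs))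
    · refine ⟨t⁻¹ * s, ?_⟩
      have := hX.smul _ hst t⁻¹ (inv_ne_zero ht)
      rwa [smul_add, smul_smul, smul_smul, inv_mul_cancel₀ ht, one_smul, add_comm] at this
  let lam : V → F := fun w =>
    if h : Q w = 0 ∧ w ≠ 0 ∧ polar Q p w = 0 ∧ polar Q p' w = 0 then
      (hex h.1 h.2.1 h.2.2.1 h.2.2.2).choose else 0
  have lam_zero : lam 0 = 0 := dif_neg fun h => h.2.1 rfl
  have lam_mem : ∀ {w}, Q w = 0 → w ≠ 0 → polar Q p w = 0 → polar Q p' w = 0 →
      w + lam w • p ∈ X := by
    intro w h1 h2 h3 h4
    simp only [lam, dif_pos (show Q w = 0 ∧ w ≠ 0 ∧ polar Q p w = 0 ∧ polar Q p' w = 0 from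
      ⟨h1, h2, h3, h4⟩)]
    exact (hex h1 h2 h3 h4).choose_spec
  have lam_uniq : ∀ {w}, Q w = 0 → w ≠ 0 → polar Q p w = 0 → polar Q p' w = 0 → ∀ l : F,
      w + l • p ∈ X → l = lam w := by
    intro w h1 h2 h3 h4 l hl
    by_contra hne
    have hL : IsLine Q (w + l • p) (w + lam w • p) := by
      refine ⟨(hX.sing _ hl).1, (hX.sing _ (lam_mem h1 h2 h3 h4)).1, ?_, (hX.sing _ hl).2,
        fun hm => ?_⟩
      · simp [polar_add_left, polar_add_right, polar_smul_left, polar_smul_right, polar_self_eq,
          h1, hp, h3, polar_comm Q w p]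
      · obtain ⟨c, hc⟩ := Submodule.mem_span_singleton.mp hm
        have e1 := congrArg (polarBilin Q p') hc
        simp [polar_add_right, polar_smul_right, h4, polar_comm Q p' p, hpp'] at e1
        have e2 : (c - 1) • w = 0 := by
          have e3 : c • (w + l • p) = w + (c * l) • p := by rw [hc, e1]
          rw [sub_smul, one_smul, sub_eq_zero]
          rw [smul_add, smul_smul] at e3
          exact add_right_cancel e3
        rw [smul_eq_zero, sub_eq_zero] at e2
        rw [e2.resolve_right h2, one_mul] at e1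
        exact hne e1
    have := hX.line _ _ hl (lam_mem h1 h2 h3 h4) hL (l - lam w)⁻¹ (-(l - lam w)⁻¹)
      (Or.inl (inv_ne_zero (sub_ne_zero.mpr hne)))
    have e : (l - lam w)⁻¹ • (w + l • p) + (-(l - lam w)⁻¹) • (w + lam w • p) = p := by
      match_scalars
      · ring
      · have := sub_ne_zero.mpr hne
        field_simp
        ring
    rw [e] at this
    exact hpX this
  have lam_smul : ∀ w, Q w = 0 → polar Q p w = 0 → polar Q p' w = 0 → ∀ c : F,
      lam (c • w) = c * lam w := by
    intro w h1 h3 h4 c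
    by_cases hc : c = 0
    · simp [hc, lam_zero]
    by_cases h2 : w = 0
    · simp [h2, lam_zero]
    refine (lam_uniq (by simp [form_smul, h1]) (smul_ne_zero hc h2)
      (by simp [polar_smul_right, h3]) (by simp [polar_smul_right, h4]) _ ?_).symm
    rw [mul_smul, ← smul_add]
    exact hX.smul _ (lam_mem h1 h2 h3 h4) c hc
  have lam_add : ∀ a b, Q a = 0 → polar Q p a = 0 → polar Q p' a = 0 → Q b = 0 →
      polar Q p b = 0 → polar Q p' b = 0 → polar Q a b = 0 → lam (a + b) = lam a + lam b := by
    intro a b a1 a3 a4 b1 b3 b4 hab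
    by_cases ha : a = 0
    · simp [ha, lam_zero]
    by_cases hb : b ∈ F ∙ a
    · obtain ⟨c, rfl⟩ := Submodule.mem_span_singleton.mp hb
      rw [show a + c • a = (1 + c) • a by module, lam_smul a a1 a3 a4, lam_smul a a1 a3 a4]
      ring
    have hb0 : b ≠ 0 := fun h => hb (h ▸ zero_mem _)
    have hab0 : a + b ≠ 0 := fun h => hb (Submodule.mem_span_singleton.mpr
      ⟨-1, by rw [neg_smul, one_smul, neg_eq_iff_add_eq_zero, h]⟩)
    refine (lam_uniq (by simp [form_add, a1, b1, hab]) hab0 (by simp [polar_add_right, a3, b3])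
      (by simp [polar_add_right, a4, b4]) _ ?_).symm
    have hL : IsLine Q (a + lam a • p) (b + lam b • p) := by
      refine ⟨(hX.sing _ (lam_mem a1 ha a3 a4)).1, (hX.sing _ (lam_mem b1 hb0 b3 b4)).1, ?_,
        (hX.sing _ (lam_mem a1 ha a3 a4)).2, fun hm => hb ?_⟩
      · simp [polar_add_left, polar_add_right, polar_smul_left, polar_smul_right, polar_self_eq,
          hp, hab, b3, polar_comm Q a p, a3]
      · obtain ⟨c, hc⟩ := Submodule.mem_span_singleton.mp hm
        have e1 := congrArg (polarBilin Q p') hc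
        simp [polar_add_right, polar_smul_right, a4, b4, polar_comm Q p' p, hpp'] at e1
        refine Submodule.mem_span_singleton.mpr ⟨c, ?_⟩
        rw [smul_add, smul_smul, e1] at hc
        exact add_right_cancel hc
    have := hX.line _ _ (lam_mem a1 ha a3 a4) (lam_mem b1 hb0 b3 b4) hL 1 1 (Or.inl one_ne_zero)
    rwa [one_smul, one_smul, show a + lam a • p + (b + lam b • p) =
      a + b + (lam a + lam b) • p by module] at this
  -- linearity
  let hh : L.W0 → F := fun r =>
    lam (e + (r : V) - Q (r : V) • (f : V)) - lam e + Q (r : V) * lam (f : V)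
  have hfacts : ∀ r : L.W0, polar Q p (r : V) = 0 ∧ polar Q p' (r : V) = 0 ∧
      polar Q e (r : V) = 0 ∧ polar Q (f : V) (r : V) = 0 := fun r =>
    ⟨LineFrame.px r, LineFrame.px' r, LineFrame.py r, LineFrame.py' r⟩
  have hef' : polar Q e (f : V) = 1 := hef
  have hfQ : Q (f : V) = 0 := hf
  have shift : ∀ (r d : L.W0), Q (d : V) = 0 → hh (r + d) = hh r + lam (d : V) := by
    intro r d hd
    obtain ⟨r1, r2, r3, r4⟩ := hfacts r
    obtain ⟨d1, d2, d3, d4⟩ := hfacts d
    set m := polar Q (r : V) (d : V)
    have e1 : e + ((r + d : L.W0) : V) - Q ((r + d : L.W0) : V) • (f : V) =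
        (e + (r : V) - Q (r : V) • (f : V)) + ((d : V) + (-m) • (f : V)) := by
      rw [Submodule.coe_add, form_add, hd]; module
    have hQv : Q (e + (r : V) - Q (r : V) • (f : V)) = 0 := by
      rw [sub_eq_add_neg, ← neg_smul, form_add, form_add, form_smul, heQ, hfQ, r3,
        polar_smul_right, polar_add_left, hef', polar_comm Q (r : V), r4]
      simp
    simp only [hh]
    rw [e1, lam_add _ _ hQv (by simp [polar_add_right, polar_sub_right, polar_smul_right, hpe, hpf, r1])
      (by simp [polar_add_right, polar_sub_right, polar_smul_right, hp'e, hp'f, r2])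
      (by simp [form_add, form_smul, hd, hfQ, polar_smul_right, polar_comm Q (d : V) (f : V), d4])
      (by simp [polar_add_right, polar_smul_right, d1, hpf])
      (by simp [polar_add_right, polar_smul_right, d2, hp'f])
      (by simp [polar_add_right, polar_add_left, polar_sub_left, polar_smul_left, polar_smul_right,
        d3, d4, hef', polar_comm Q (r : V) (f : V), r4, polar_self_eq, hfQ, m]),
      lam_add (d : V) _ hd d1 d2 (by simp [form_smul, hfQ]) (by simp [polar_smul_right, hpf])
        (by simp [polar_smul_right, hp'f])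
        (by simp [polar_smul_right, polar_comm Q (d : V) (f : V), d4]),
      lam_smul _ hfQ hpf hp'f, Submodule.coe_add, form_add, hd]
    ring
  have h00 : hh 0 = 0 := by simp [hh]
  have hsingle : ∀ d : L.W0, Q (d : V) = 0 → hh d = lam (d : V) := fun d hd => by
    simpa [h00] using shift 0 d hd
  have hlinear : ∀ r : L.W0, ∀ (c : F) (r' : L.W0), hh (r' + c • r) = hh r' + c * hh r := by
    intro r
    have hr : r ∈ Submodule.span F {z : L.W0 | L.form z = 0} :=
      span_singular_eq_top hR (by omega) ▸ trivial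
    induction hr using Submodule.span_induction with
    | mem d hd =>
      intro c r'
      have hd' : Q (d : V) = 0 := hd
      rw [shift r' (c • d) (by simp [form_smul, hd']), Submodule.coe_smul,
        lam_smul _ hd' (hfacts d).1 (hfacts d).2.1, hsingle d hd']
    | zero => intro c r'; simp [h00]
    | add x y _ _ hx hy =>
      intro c r'
      rw [smul_add, ← add_assoc, hy, hx]
      have := hy 1 x
      rw [one_smul, one_mul] at this
      rw [this]; ring
    | smul s x _ hx =>
      intro c r'
      rw [smul_smul, hx]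
      have := hx s 0
      rw [zero_add, h00, zero_add] at this
      rw [this]; ring
  let ℓ : L.W0 →ₗ[F] F :=
    { toFun := hh
      map_add' := fun a b => by
        have := hlinear b 1 a
        rwa [one_smul, one_mul] at this
      map_smul' := fun c a => by
        have := hlinear a c 0
        simpa [h00] using this }
  obtain ⟨r0, hr0⟩ := exists_dual_vector hR (-ℓ)
  set v0 := p' + ((-lam (f : V)) • e + (-lam e) • (f : V) + (r0 : V)) with hv0
  obtain ⟨s1, s2, s3, s4⟩ := hfacts r0
  have hv0p : polar Q v0 p = 1 := by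
    simp [hv0, polar_add_left, polar_smul_left, polar_comm Q p' p, hpp', polar_comm Q e p, hpe,
      polar_comm Q (f : V) p, hpf, polar_comm Q (r0 : V) p, s1]
  have hval : ∀ w, Q w = 0 → polar Q p w = 0 → polar Q p' w = 0 → polar Q v0 w = -lam w := by
    intro w hw h1 h2
    set s := polar Q (f : V) w with hs
    set t := polar Q e w with ht
    set r := w - s • e - t • (f : V) with hr
    have hrW : r ∈ L.W0 := L.mem_W0.mpr (by
      simp [L, hr, polar_sub_right, polar_smul_right, h1, h2, hpe, hp'e, hpf, hp'f, polar_self_eq,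
        heQ, hfQ, hef', polar_comm Q (f : V) e, ← hs, ← ht])
    have hw' : w = s • e + t • (f : V) + r := by rw [hr]; abel
    obtain ⟨q1, q2, q3, q4⟩ := hfacts ⟨r, hrW⟩
    have hQr : s * t + Q r = 0 := by
      rw [hw'] at hw
      simp [form_add, form_smul, heQ, hfQ, polar_add_left, polar_smul_left, polar_smul_right, hef',
        q3, q4] at hw
      linear_combination hw
    have hlam : lam w = s * lam e + t * lam (f : V) + ℓ ⟨r, hrW⟩ := by
      by_cases hs0 : s = 0
      · have hQr' : Q r = 0 := by simpa [hs0] using hQr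
        conv_lhs => rw [hw', hs0, zero_smul, zero_add]
        rw [lam_add _ _ (by simp [form_smul, hfQ]) (by simp [polar_smul_right, hpf])
          (by simp [polar_smul_right, hp'f]) hQr' q1 q2 (by simp [polar_smul_left, q4]),
          lam_smul _ hfQ hpf hp'f, ← hsingle ⟨r, hrW⟩ hQr', hs0]
        simp [ℓ]
      · have e2 := ℓ.map_smul s⁻¹ ⟨r, hrW⟩
        rw [smul_eq_mul] at e2
        have hrQ : Q r = -(s * t) := by linear_combination hQr
        have e3 : w = s • (e + s⁻¹ • r - Q (s⁻¹ • r) • (f : V)) := by
          rw [form_smul, hrQ]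
          conv_lhs => rw [hw']
          match_scalars <;> field_simp <;> ring
        have hvQ : Q (e + s⁻¹ • r - Q (s⁻¹ • r) • (f : V)) = 0 := by
          have := hw
          rw [e3, form_smul] at this
          exact (mul_eq_zero.mp this).resolve_left (mul_ne_zero hs0 hs0)
        conv_lhs => rw [e3]
        rw [lam_smul _ hvQ (by simp [polar_add_right, polar_sub_right, polar_smul_right, hpe, hpf, q1])
          (by simp [polar_add_right, polar_sub_right, polar_smul_right, hp'e, hp'f, q2])]
        have e4 : lam (e + s⁻¹ • r - Q (s⁻¹ • r) • (f : V)) =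
            ℓ (s⁻¹ • ⟨r, hrW⟩) + lam e - Q (s⁻¹ • r) * lam (f : V) := by
          show _ = hh _ + _ - _
          simp [hh]
          ring
        rw [e4, e2, form_smul, hrQ]
        field_simp
        ring
    have hr0' : polar Q (r0 : V) r = -ℓ ⟨r, hrW⟩ := by
      have := hr0 ⟨r, hrW⟩
      rwa [L.polar_form, LinearMap.neg_apply] at this
    rw [hlam, hv0, polar_add_left, polar_add_left, polar_add_left, polar_smul_left,
      polar_smul_left, h2, ← hs, ← ht]
    have : polar Q (r0 : V) w = polar Q (r0 : V) r := by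
      conv_lhs => rw [hw']
      simp [polar_add_right, polar_smul_right, polar_comm Q (r0 : V) e, s3,
        polar_comm Q (r0 : V) (f : V), s4]
    rw [this, hr0', smul_eq_mul, smul_eq_mul]
    ring
  refine ⟨v0, hv0p, fun t ht hpt htp => ?_⟩
  set c := polar Q p' t with hc
  set w := t - c • p with hw
  have w1 : Q w = 0 := by
    rw [hw, sub_eq_add_neg, ← neg_smul, form_add, form_smul, ht, hp, polar_smul_right,
      polar_comm Q t p, hpt]
    simp
  have w3 : polar Q p w = 0 := by simp [hw, polar_sub_right, polar_smul_right, hpt, polar_self_eq, hp]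
  have w4 : polar Q p' w = 0 := by
    simp [hw, polar_sub_right, polar_smul_right, polar_comm Q p' p, hpp', ← hc]
  have w2 : w ≠ 0 := fun h => htp (Submodule.mem_span_singleton.mpr ⟨c, (sub_eq_zero.mp h).symm⟩)
  have et : t = w + c • p := by rw [hw]; abel
  have ev : polar Q v0 t = c - lam w := by
    conv_lhs => rw [et]
    rw [polar_add_right, polar_smul_right, hval w w1 w3 w4, hv0p, smul_eq_mul]
    ring
  rw [ev, sub_eq_zero]
  refine ⟨fun h => lam_uniq w1 w2 w3 w4 c (et ▸ h), fun h => ?_⟩
  rw [et, h]; exact lam_mem w1 w2 w3 w4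

/-- **A geometric hyperplane lies in a hyperplane.** -/
theorem exists_normal (hQ : PolarND Q) (hn : 7 ≤ Module.finrank F V) {X : Set V}
    (hX : GeomHyp Q X) {p : V} (hp : Q p = 0) (hp0 : p ≠ 0) (hpX : p ∉ X) :
    ∃ v, v ≠ 0 ∧ (∀ x ∈ X, polar Q v x = 0) ∧
      ∀ t, Q t = 0 → polar Q v t = 0 → t ∉ F ∙ v → t ∈ X := by
  classical
  haveI := Module.finite_of_finite (R := F) (M := V)
  obtain ⟨v0, hv0p, hloc⟩ := exists_local hQ hn hX hp hp0 hpX
  have hXp : ∀ x ∈ X, x ∉ F ∙ p := fun x hx hm => by
    obtain ⟨c, rfl⟩ := Submodule.mem_span_singleton.mp hm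
    have hc : c ≠ 0 := fun h => (hX.sing _ hx).2 (by simp [h])
    exact hpX (by simpa [smul_smul, hc] using hX.smul _ hx c⁻¹ (inv_ne_zero hc))
  let cc : V → F := fun s => -(polar Q v0 s / polar Q p s)
  let vv : V → V := fun s => v0 + cc s • p
  have hvs : ∀ s, polar Q p s ≠ 0 → polar Q (vv s) s = 0 := fun s hs => by
    simp only [vv, cc, polar_add_left, polar_smul_left, smul_eq_mul, neg_mul,
      div_mul_cancel₀ _ hs, add_neg_cancel]
  -- the neighbours of a point of the set outside the tangent hyperplane
  have nb : ∀ s ∈ X, polar Q p s ≠ 0 → ∀ t, Q t = 0 → t ≠ 0 → polar Q s t = 0 →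
      (t ∈ X ↔ polar Q (vv s) t = 0) := by
    intro s hs hps t ht ht0 hst
    have hsQ := (hX.sing s hs).1
    by_cases hts : t ∈ F ∙ s
    · obtain ⟨c, rfl⟩ := Submodule.mem_span_singleton.mp hts
      exact iff_of_true (hX.smul s hs c fun h => ht0 (by simp [h]))
        (by simp [polar_smul_right, hvs s hps])
    set a := polar Q p t • s + (-polar Q p s) • t with ha
    have hL : IsLine Q s t := ⟨hsQ, ht, hst, (hX.sing s hs).2, hts⟩
    have haQ : Q a = 0 := by
      simp [ha, form_add, form_smul, hsQ, ht, polar_smul_left, polar_smul_right, hst]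
    have hpa : polar Q p a = 0 := by
      simp [ha, polar_add_right, polar_smul_right]; ring
    have hva : polar Q v0 a = polar Q (vv s) a := by
      simp [vv, polar_add_left, polar_smul_left, hpa]
    have hva' : polar Q (vv s) a = -(polar Q p s * polar Q (vv s) t) := by
      simp [ha, polar_add_right, polar_smul_right, hvs s hps]
    have hap : a ∉ F ∙ p := by
      intro hm
      obtain ⟨c, hc⟩ := Submodule.mem_span_singleton.mp hm
      have h1 := congrArg (polarBilin Q s) hc
      simp [ha, polar_add_right, polar_smul_right, polar_self_eq, hsQ, hst,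
        polar_comm Q s p] at h1
      rw [h1.resolve_right hps, zero_smul] at hc
      refine hts (Submodule.mem_span_singleton.mpr ⟨polar Q p t / polar Q p s, ?_⟩)
      rw [ha, eq_comm, add_eq_zero_iff_eq_neg, neg_smul, neg_neg] at hc
      rw [div_eq_inv_mul, mul_smul, hc, smul_smul, inv_mul_cancel₀ hps, one_smul]
    have hloc' := hloc a haQ hpa hap
    rw [hva, hva', neg_eq_zero, mul_eq_zero, or_iff_right hps] at hloc'
    rw [← hloc']
    constructor
    · intro htX
      exact hX.line s t hs htX hL _ _ (Or.inr (neg_ne_zero.mpr hps))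
    · intro haX
      have hLa : IsLine Q s a := by
        refine ⟨hsQ, haQ, by simp [ha, polar_add_right, polar_smul_right, polar_self_eq, hsQ, hst],
          (hX.sing s hs).2, fun hm => ?_⟩
        obtain ⟨c, hc⟩ := Submodule.mem_span_singleton.mp hm
        have := congrArg (polarBilin Q p) hc
        simp [hpa, polar_smul_right] at this
        rw [this.resolve_right hps, zero_smul] at hc
        exact (hX.sing a haX).2 hc.symm
      have := hX.line s a hs haX hLa (polar Q p t / polar Q p s) (-(polar Q p s)⁻¹)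
        (Or.inr (neg_ne_zero.mpr (inv_ne_zero hps)))
      convert! this using 1
      rw [ha]
      match_scalars <;> field_simp
      · ring
  -- the constant does not depend on the point
  have span3 : ∀ s s', s ∈ X → s' ∈ X → polar Q p s ≠ 0 → polar Q p s' ≠ 0 → polar Q s s' = 1 →
      cc s ≠ cc s' → ∃ a b c : F, v0 = a • p + b • s + c • s' := by
    intro s s' hs hs' hps hps' hss' hne
    obtain ⟨hsQ, -⟩ := hX.sing s hs
    obtain ⟨hs'Q, -⟩ := hX.sing s' hs'
    have hW := OrthStab.polarND_perp₂ hQ hsQ hs'Q hss'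
    have hdW := OrthStab.finrank_perp₂ hsQ hs'Q hss'
    have hproj : ∀ x : V, x - polar Q s' x • s - polar Q s x • s' ∈ OrthStab.perp₂ Q s s' :=
      fun x => OrthStab.mem_perp₂.mpr (by
        simp [polar_sub_right, polar_smul_right, polar_self_eq, hsQ, hs'Q, hss',
          polar_comm Q s' s])
    have hpolar : ∀ (x : V) (w : OrthStab.perp₂ Q s s'),
        polar Q (x - polar Q s' x • s - polar Q s x • s') (w : V) = polar Q x (w : V) := by
      intro x w
      obtain ⟨w1, w2⟩ := OrthStab.mem_perp₂.mp w.2
      simp [polar_sub_left, polar_smul_left, w1, w2]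
    have horth : ∀ x : V, (∀ w : OrthStab.perp₂ Q s s', polar Q x (w : V) = 0) →
        x = polar Q s' x • s + polar Q s x • s' := by
      intro x hx
      have : x - polar Q s' x • s - polar Q s x • s' = 0 :=
        congrArg Subtype.val (hW ⟨_, hproj x⟩ fun w => (hpolar x w).trans (hx w))
      rw [sub_sub, sub_eq_zero] at this
      exact this
    have hker : ∀ w : OrthStab.perp₂ Q s s', polar Q (vv s) (w : V) = 0 →
        polar Q p (w : V) = 0 := by
      intro w hw
      have hm := (mem_span_singular_perp hW (by omega) ⟨_, hproj (vv s)⟩ (k := w)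
        ((hpolar _ w).trans hw)).1
      clear hw
      induction hm using Submodule.span_induction with
      | mem z hz =>
        obtain ⟨hzQ, hzv, -⟩ := hz
        have hzv' : polar Q (vv s) (z : V) = 0 := (hpolar _ z).symm.trans hzv
        by_cases hz0 : (z : V) = 0
        · simp [hz0]
        obtain ⟨z1, z2⟩ := OrthStab.mem_perp₂.mp z.2
        have hzX := (nb s hs hps z hzQ hz0 z1).mpr hzv'
        have h2 := (nb s' hs' hps' z hzQ hz0 z2).mp hzX
        simp [vv, polar_add_left, polar_smul_left] at hzv' h2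
        have : (cc s' - cc s) * polar Q p (z : V) = 0 := by linear_combination h2 - hzv'
        exact (mul_eq_zero.mp this).resolve_left (sub_ne_zero.mpr (Ne.symm hne))
      | zero => simp
      | add x y _ _ hx hy => simp [polar_add_right, hx, hy]
      | smul t x _ hx => simp [polar_smul_right, hx]
    by_cases hall : ∀ w : OrthStab.perp₂ Q s s', polar Q (vv s) (w : V) = 0
    · exfalso
      have hp' := horth p fun w => hker w (hall w)
      have := hp
      rw [hp', form_add, form_smul, form_smul, hsQ, hs'Q, polar_smul_left, polar_smul_right,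
        hss'] at this
      simp [polar_comm Q s' p, polar_comm Q s p, hps, hps'] at this
    · simp only [not_forall] at hall
      obtain ⟨w0, hw0⟩ := hall
      set κ := polar Q p (w0 : V) / polar Q (vv s) (w0 : V) with hκ
      have hprop : ∀ w : OrthStab.perp₂ Q s s',
          polar Q p (w : V) = κ * polar Q (vv s) (w : V) := by
        intro w
        have h := hker (w - (polar Q (vv s) (w : V) / polar Q (vv s) (w0 : V)) • w0) (by
          simp [polar_sub_right, polar_smul_right, div_mul_cancel₀ _ hw0])
        simp [polar_sub_right, polar_smul_right] at h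
        rw [hκ]
        field_simp at h ⊢
        linear_combination h
      have hκ0 : κ ≠ 0 := by
        intro h0
        have hp' := horth p fun w => by rw [hprop, h0, zero_mul]
        have := hp
        rw [hp', form_add, form_smul, form_smul, hsQ, hs'Q, polar_smul_left, polar_smul_right,
          hss'] at this
        simp [polar_comm Q s' p, polar_comm Q s p, hps, hps'] at this
      have := horth (vv s - κ⁻¹ • p) fun w => by
        rw [polar_sub_left, polar_smul_left, hprop, smul_eq_mul, ← mul_assoc,
          inv_mul_cancel₀ hκ0, one_mul, sub_self]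
      refine ⟨κ⁻¹ - cc s, polar Q s' (vv s - κ⁻¹ • p), polar Q s (vv s - κ⁻¹ • p), ?_⟩
      rw [sub_eq_iff_eq_add] at this
      linear_combination (norm := module) this
  have pair : ∀ s s', s ∈ X → s' ∈ X → polar Q p s ≠ 0 → polar Q p s' ≠ 0 → polar Q s s' = 1 →
      cc s = cc s' := by
    intro s s' hs hs' hps hps' hss'
    by_contra hne
    have half : ∀ s s', s ∈ X → s' ∈ X → polar Q p s ≠ 0 → polar Q p s' ≠ 0 → polar Q s s' = 1 →
        cc s ≠ cc s' → ∀ a b c : F, v0 = a • p + b • s + c • s' → b = 0 := by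
      intro s s' hs hs' hps hps' hss' hne a b c habc
      obtain ⟨hsQ, -⟩ := hX.sing s hs
      obtain ⟨hs'Q, -⟩ := hX.sing s' hs'
      have hW := OrthStab.polarND_perp₂ hQ hsQ hs'Q hss'
      have hdW := OrthStab.finrank_perp₂ hsQ hs'Q hss'
      set u0 := p - polar Q s' p • s - polar Q s p • s' with hu0
      have hu0W : u0 ∈ OrthStab.perp₂ Q s s' := OrthStab.mem_perp₂.mpr (by
        simp [hu0, polar_sub_right, polar_smul_right, polar_self_eq, hsQ, hs'Q, hss',
          polar_comm Q s' s])
      obtain ⟨t, htQ, htu, htn⟩ := (mem_span_singular_perp hW (by omega) ⟨u0, hu0W⟩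
        (polar_zero_right (Q := Q.comp (OrthStab.perp₂ Q s s').subtype) _)).2
      obtain ⟨t1, t2⟩ := OrthStab.mem_perp₂.mp t.2
      have htp : polar Q p (t : V) = 0 := by
        have h : polar Q u0 (t : V) = 0 := htu
        simpa [hu0, polar_sub_left, polar_smul_left, t1, t2] using h
      have ht0 : (t : V) ≠ 0 := fun h => htn (by
        rw [show t = 0 from Subtype.ext h]; exact zero_mem _)
      have hvt : polar Q v0 (t : V) = 0 := by
        simp [habc, polar_add_left, polar_smul_left, htp, t1, t2]
      have htX : (t : V) ∈ X := (nb s hs hps t htQ ht0 t1).mpr (by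
        simp [vv, polar_add_left, polar_smul_left, hvt, htp])
      have hL : IsLine Q s (t : V) := by
        refine ⟨hsQ, htQ, t1, (hX.sing s hs).2, fun hm => ht0 ?_⟩
        obtain ⟨l, hl⟩ := Submodule.mem_span_singleton.mp hm
        have h2 := t2
        rw [← hl, polar_smul_right, polar_comm Q s' s, hss', smul_eq_mul, mul_one] at h2
        rw [← hl, h2, zero_smul]
      have hstX := hX.line s t hs htX hL 1 1 (Or.inl one_ne_zero)
      rw [one_smul, one_smul] at hstX
      have hpst : polar Q p (s + t) ≠ 0 := by rw [polar_add_right, htp, add_zero]; exact hps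
      have hcst : cc (s + t) = cc s := by
        simp only [cc, polar_add_right, htp, hvt, add_zero]
      obtain ⟨a', b', c', habc'⟩ := span3 (s + t) s' hstX hs' hpst hps'
        (by rw [polar_add_left, hss', polar_comm Q (t : V) s', t2, add_zero])
        (by rw [hcst]; exact hne)
      by_contra hb
      apply htn
      have e : a • p + b • s + c • s' = a' • p + b' • (s + (t : V)) + c' • s' :=
        habc.symm.trans habc'
      have hb' : b' ≠ 0 := by
        intro h0
        rw [h0, zero_smul, add_zero] at e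
        have e1 : (a - a') • p = (-b) • s + (c' - c) • s' := by
          linear_combination (norm := module) e
        by_cases ha : a - a' = 0
        · rw [ha, zero_smul] at e1
          have := congrArg (polarBilin Q s') e1
          simp [polar_add_right, polar_smul_right, polar_self_eq, hs'Q,
            polar_comm Q s' s, hss'] at this
          exact hb this
        · have e2 := congrArg Q e1
          simp [form_add, form_smul, hsQ, hs'Q, hp, polar_smul_left, polar_smul_right, hss',
            hb] at e2
          rw [sub_eq_zero] at e2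
          rw [e2, sub_self, zero_smul, add_zero] at e1
          have := congrArg (polarBilin Q s) e1
          simp [polar_smul_right, polar_self_eq, hsQ, polar_comm Q s p, hps, ha] at this
      rw [Submodule.mem_span_singleton]
      refine ⟨(a - a') / b', Subtype.ext ?_⟩
      have e1 : b' • (t : V) = (a - a') • p + ((b - b') • s + (c - c') • s') := by
        linear_combination (norm := module) -e
      have e2 := congrArg (polarBilin Q s) e1
      have e3 := congrArg (polarBilin Q s') e1
      simp [polar_add_right, polar_smul_right, polar_self_eq, hsQ, hs'Q, t1, t2, hss',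
        polar_comm Q s' s] at e2 e3
      show ((a - a') / b') • u0 = (t : V)
      rw [div_eq_inv_mul, mul_smul, ← inv_smul_smul₀ hb' (t : V), e1]
      congr 1
      rw [hu0]
      match_scalars
      · ring
      · linear_combination e3
      · linear_combination e2
    obtain ⟨a, b, c, habc⟩ := span3 s s' hs hs' hps hps' hss' hne
    have h1 := half s s' hs hs' hps hps' hss' hne a b c habc
    have h2 := half s' s hs' hs hps' hps (by rw [polar_comm]; exact hss') (Ne.symm hne) a c b
      (by rw [habc]; abel)
    rw [h1, h2, zero_smul, zero_smul, add_zero, add_zero] at habc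
    rw [habc, polar_smul_left, polar_self_eq, hp] at hv0p
    simp at hv0p
  have scl : ∀ s (r : F), r ≠ 0 → cc (r • s) = cc s := fun s r hr => by
    simp only [cc, polar_smul_right, smul_eq_mul, mul_div_mul_left _ _ hr]
  have all : ∀ s s', s ∈ X → s' ∈ X → polar Q p s ≠ 0 → polar Q p s' ≠ 0 → cc s = cc s' := by
    intro s s' hs hs' hps hps'
    by_cases h : polar Q s s' = 0
    · obtain ⟨hsQ', hs0'⟩ := hX.sing s' hs'
      have := (nb s hs hps s' hsQ' hs0' h).mp hs'
      simp [vv, polar_add_left, polar_smul_left] at this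
      have e : cc s = -(polar Q v0 s' / polar Q p s') := by
        field_simp
        linear_combination this
      exact e
    · rw [← scl s' _ (inv_ne_zero h)]
      exact pair s _ hs (hX.smul _ hs' _ (inv_ne_zero h)) hps
        (by simp [polar_smul_right, hps', h]) (by simp [polar_smul_right, h])
  obtain ⟨v, hvp, hv⟩ : ∃ v, polar Q v p = 1 ∧ ∀ x ∈ X, polar Q v x = 0 := by
    by_cases hex : ∃ s ∈ X, polar Q p s ≠ 0
    · obtain ⟨s, hs, hps⟩ := hex
      refine ⟨vv s, by simp [vv, polar_add_left, polar_smul_left, hv0p, polar_self_eq, hp],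
        fun x hx => ?_⟩
      by_cases hpx : polar Q p x = 0
      · have := (hloc x (hX.sing x hx).1 hpx (hXp x hx)).mp hx
        simp [vv, polar_add_left, polar_smul_left, this, hpx]
      · have e := all s x hs hx hps hpx
        show polar Q (v0 + cc s • p) x = 0
        rw [e]
        exact hvs x hpx
    · simp only [not_exists, not_and, not_not] at hex
      exact ⟨v0, hv0p, fun x hx => (hloc x (hX.sing x hx).1 (hex x hx) (hXp x hx)).mp hx⟩
  refine ⟨v, fun h => ?_, hv, fun t ht hvt htv => ?_⟩
  · rw [h, polar_zero_left] at hvp; exact zero_ne_one hvp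
  by_contra htX
  have ht0 : t ≠ 0 := fun h => htv (h ▸ zero_mem _)
  have hkill : ∀ k, polar Q t k = 0 → polar Q v k = 0 := by
    intro k hk
    have hm := (mem_span_singular_perp hQ (by omega) t hk).1
    clear hk
    induction hm using Submodule.span_induction with
    | mem b hb =>
      obtain ⟨hbQ, htb, hbt⟩ := hb
      obtain ⟨s, r, hsr⟩ := hX.meet t b ⟨ht, hbQ, htb, ht0, hbt⟩
      have hr : r ≠ 0 := by
        intro h0
        subst h0
        simp at hsr
        have hs : s ≠ 0 := fun h => (hX.sing _ hsr).2 (by simp [h])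
        exact htX (by simpa [smul_smul, hs] using hX.smul _ hsr s⁻¹ (inv_ne_zero hs))
      have := hv _ hsr
      simpa [polar_add_right, polar_smul_right, hvt, hr] using this
    | zero => simp
    | add x y _ _ hx hy => simp [polar_add_right, hx, hy]
    | smul r x _ hx => simp [polar_smul_right, hx]
  obtain ⟨t', ht', htt'⟩ := exists_pair hQ.nonsing ht ht0
  have e : v = polar Q v t' • t := by
    refine sub_eq_zero.mp (hQ _ fun x => ?_)
    have := hkill (x - polar Q t x • t') (by simp [polar_sub_right, polar_smul_right, htt'])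
    simp [polar_sub_left, polar_sub_right, polar_smul_left, polar_smul_right] at this ⊢
    linear_combination this
  have hc : polar Q v t' ≠ 0 := by
    intro h0
    rw [h0, zero_smul] at e
    rw [e, polar_zero_left] at hvp
    exact zero_ne_one hvp
  exact htv (Submodule.mem_span_singleton.mpr ⟨(polar Q v t')⁻¹, by
    conv_lhs => arg 2; rw [e]
    rw [smul_smul, inv_mul_cancel₀ (by simpa using hc), one_smul]⟩)

/-- The normal is stable under anything preserving the set. -/
theorem normal_stable (hQ : PolarND Q) (hn : 7 ≤ Module.finrank F V) {X : Set V} {v : V}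
    (hv0 : v ≠ 0) (hv : ∀ x ∈ X, polar Q v x = 0)
    (hv' : ∀ t, Q t = 0 → polar Q v t = 0 → t ∉ F ∙ v → t ∈ X) {g : orth Q}
    (hg : ∀ x ∈ X, g.1 x ∈ X) : g.1 v ∈ F ∙ v := by
  haveI := Module.finite_of_finite (R := F) (M := V)
  have hgv : ∀ k, polar Q v k = 0 → polar Q v (g.1 k) = 0 := by
    intro k hk
    have hm := (mem_span_singular_perp hQ (by omega) v hk).1
    clear hk
    induction hm using Submodule.span_induction with
    | mem z hz => exact hv _ (hg z (hv' z hz.1 hz.2.1 hz.2.2))
    | zero => simp
    | add x y _ _ hx hy => simp [polar_add_right, hx, hy]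
    | smul r x _ hx => simp [polar_smul_right, hx]
  -- the inverse image of the normal is proportional to it
  obtain ⟨w, hw⟩ : ∃ w, polar Q v w = 1 := by
    obtain ⟨w, hw⟩ : ∃ w, polar Q v w ≠ 0 := by
      by_contra hcon
      simp only [not_exists, not_not] at hcon
      exact hv0 (hQ v hcon)
    exact ⟨(polar Q v w)⁻¹ • w, by rw [polar_smul_right, smul_eq_mul, inv_mul_cancel₀ hw]⟩
  set u := g⁻¹.1 v with hu
  have hug : ∀ k, polar Q u k = polar Q v (g.1 k) := fun k => by
    rw [← map_polar g u k, hu, coe_apply_inv_apply]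
  have e : u = polar Q u w • v := by
    refine sub_eq_zero.mp (hQ _ fun k => ?_)
    have h := hgv (k - polar Q v k • w) (by simp [polar_sub_right, polar_smul_right, hw])
    rw [← hug] at h
    simp [polar_sub_left, polar_sub_right, polar_smul_left, polar_smul_right] at h ⊢
    linear_combination h
  have hc : polar Q u w ≠ 0 := fun h0 => hv0 (by
    rw [h0, zero_smul] at e
    rw [← coe_apply_inv_apply g v, ← hu, e, map_zero])
  refine Submodule.mem_span_singleton.mpr ⟨(polar Q u w)⁻¹, ?_⟩
  have e2 := congrArg g.1 e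
  rw [hu, coe_apply_inv_apply, map_smul] at e2
  rw [← hu] at e2
  conv_lhs => rw [e2]
  rw [smul_smul, inv_mul_cancel₀ hc, one_smul]

end Cfsg.Agent.MinIdxClassical
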