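import Cfsg.Agent.MinIdxClassical.Count
import Cfsg.Agent.MaxSub.OrthGen

/-!
The Heisenberg group of a totally singular line and its intersection with a subgroup (helper24).
-/

set_option autoImplicit false
set_option linter.unusedSectionVars false

namespace Cfsg.Agent.MinIdxClassical

open QuadraticMap Cfsg.Agent.UnitaryOrthogonal

variable {F : Type*} [Field F] {V : Type*} [AddCommGroup V] [Module F V]

/-- A totally singular line with an opposite line. -/
structure LineFrame (Q : QuadraticForm F V) where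
  /-- first vector -/
  x : V
  /-- second vector -/
  y : V
  /-- dual of the first -/
  x' : V
  /-- dual of the second -/
  y' : V
  qx : Q x = 0
  qy : Q y = 0
  qx' : Q x' = 0
  qy' : Q y' = 0
  xy : polar Q x y = 0
  xy' : polar Q x y' = 0
  yx' : polar Q y x' = 0
  x'y' : polar Q x' y' = 0
  xx' : polar Q x x' = 1
  yy' : polar Q y y' = 1

variable {Q : QuadraticForm F V} (L : LineFrame Q)

/-- The orthogonal of the frame. -/
def LineFrame.W0 : Submodule F V := OrthStab.perp₂ Q L.x L.x' ⊓ OrthStab.perp₂ Q L.y L.y'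

theorem LineFrame.mem_W0 {w : V} : w ∈ L.W0 ↔
    polar Q L.x w = 0 ∧ polar Q L.x' w = 0 ∧ polar Q L.y w = 0 ∧ polar Q L.y' w = 0 := by
  rw [LineFrame.W0, Submodule.mem_inf, OrthStab.mem_perp₂, OrthStab.mem_perp₂]; tauto

variable {L}

theorem LineFrame.px (w : L.W0) : polar Q L.x (w : V) = 0 := (L.mem_W0.mp w.2).1
theorem LineFrame.px' (w : L.W0) : polar Q L.x' (w : V) = 0 := (L.mem_W0.mp w.2).2.1
theorem LineFrame.py (w : L.W0) : polar Q L.y (w : V) = 0 := (L.mem_W0.mp w.2).2.2.1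
theorem LineFrame.py' (w : L.W0) : polar Q L.y' (w : V) = 0 := (L.mem_W0.mp w.2).2.2.2

theorem LineFrame.xcy (L : LineFrame Q) (c : F) : polar Q L.x (c • L.y) = 0 := by
  rw [polar_smul_right, L.xy, smul_zero]

/-- An element of the Heisenberg group. -/
noncomputable def el (L : LineFrame Q) (a : L.W0 × L.W0) (c : F) : orth Q :=
  eich Q L.x (a.1 : V) * eich Q L.y (a.2 : V) * eich Q L.x (c • L.y)

theorem el_x' (a : L.W0 × L.W0) (c : F) :
    (el L a c).1 L.x' = L.x' + (a.1 : V) - Q (a.1 : V) • L.x + c • L.y := by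
  rw [el, coe_mul_apply, coe_mul_apply, eich_apply L.qx (L.xcy c), eich_apply L.qy (LineFrame.py a.2),
    eich_apply L.qx (LineFrame.px a.1)]
  simp [polar_add_right, polar_smul_left, polar_smul_right, polar_sub_right, polar_self_eq, L.qx,
    L.qy, L.xy, L.xx', L.yx', polar_comm Q L.y L.x, polar_comm Q L.y L.x', LineFrame.px',
    polar_comm Q (_ : V) L.x', LineFrame.py, polar_comm Q (_ : V) L.y, LineFrame.px,
    polar_comm Q (_ : V) L.x, form_smul]
  module

theorem el_y' (a : L.W0 × L.W0) (c : F) :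
    (el L a c).1 L.y' = L.y' + (a.2 : V) - Q (a.2 : V) • L.y -
      (polar Q (a.1 : V) (a.2 : V) + c) • L.x := by
  rw [el, coe_mul_apply, coe_mul_apply, eich_apply L.qx (L.xcy c), eich_apply L.qy (LineFrame.py a.2),
    eich_apply L.qx (LineFrame.px a.1)]
  simp [polar_add_right, polar_smul_left, polar_smul_right, polar_sub_right, polar_self_eq, L.qx,
    L.qy, L.xy, L.xy', L.yy', polar_comm Q L.y L.x, LineFrame.py', polar_comm Q (_ : V) L.y',
    LineFrame.py, polar_comm Q (_ : V) L.y, LineFrame.px, polar_comm Q (_ : V) L.x, form_smul]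
  module

theorem el_inj {a b : L.W0 × L.W0} {c d : F} (h : el L a c = el L b d) : a = b ∧ c = d := by
  have h1 := congrArg (fun g : orth Q => g.1 L.x') h
  have h2 := congrArg (fun g : orth Q => g.1 L.y') h
  simp only [el_x', el_y'] at h1 h2
  have hc : c = d := by
    have := congrArg (polarBilin Q L.y') h1
    simpa [polar_comm Q L.y' L.x', L.x'y', LineFrame.py', L.xy', polar_comm Q L.y' L.x,
      polar_comm Q L.y' L.y, L.yy'] using this
  subst hc
  have ha : a.1 = b.1 := by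
    have hQ : Q (a.1 : V) = Q (b.1 : V) := by
      have := congrArg (polarBilin Q L.x') h1
      simpa [polar_self_eq, L.qx', LineFrame.px', polar_comm Q L.x' L.x, L.xx',
        polar_comm Q L.x' L.y, L.yx'] using this
    rw [hQ] at h1
    exact Subtype.ext (by simpa using h1)
  rw [← ha] at h2
  have hb : a.2 = b.2 := by
    have hp : polar Q (a.1 : V) (a.2 : V) = polar Q (a.1 : V) (b.2 : V) := by
      have := congrArg (polarBilin Q L.x') h2
      simpa [LineFrame.px', L.x'y', polar_comm Q L.x' L.x, L.xx', polar_comm Q L.x' L.y,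
        L.yx'] using this
    have hQ : Q (a.2 : V) = Q (b.2 : V) := by
      have := congrArg (polarBilin Q L.y') h2
      simpa [polar_self_eq, L.qy', LineFrame.py', L.xy', polar_comm Q L.y' L.x,
        polar_comm Q L.y' L.y, L.yy'] using this
    rw [hp, hQ] at h2
    exact Subtype.ext (by simpa using h2)
  exact ⟨Prod.ext ha hb, rfl⟩

theorem el_zero (L : LineFrame Q) : el L 0 0 = 1 := by simp [el, eich_zero]

theorem el_mul (a b : L.W0 × L.W0) (c d : F) :
    el L a c * el L b d = el L (a + b) (c + d - polar Q (a.2 : V) (b.1 : V)) := by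
  set κ := polar Q (a.2 : V) (b.1 : V)
  have hz : ∀ (u z : V) (k : F), Q u = 0 → polar Q u z = 0 → polar Q L.x u = 0 →
      polar Q L.y u = 0 → polar Q L.x z = 0 → polar Q L.y z = 0 →
      eich Q L.x (k • L.y) * eich Q u z = eich Q u z * eich Q L.x (k • L.y) := by
    intro u z k hu huz h1 h2 h3 h4
    have := conj_eich (eich Q L.x (k • L.y)) u z
    rw [eich_apply L.qx (L.xcy k), eich_apply L.qx (L.xcy k)] at this
    simp only [h1, h2, h3, h4, polar_smul_left, smul_zero, mul_zero, zero_smul, add_zero,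
      sub_zero] at this
    exact mul_inv_eq_iff_eq_mul.mp this
  have h1 := hz L.x (b.1 : V) c L.qx (LineFrame.px _) (by simp [polar_self_eq, L.qx])
    (by rw [polar_comm]; exact L.xy) (LineFrame.px _) (LineFrame.py _)
  have h2 := hz L.y (b.2 : V) c L.qy (LineFrame.py _) L.xy (by simp [polar_self_eq, L.qy])
    (LineFrame.px _) (LineFrame.py _)
  have h3 : eich Q L.y (a.2 : V) * eich Q L.x (b.1 : V) =
      eich Q L.x (b.1 : V) * eich Q L.x ((-κ) • L.y) * eich Q L.y (a.2 : V) := by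
    rw [eich_mul L.qx (LineFrame.px _) (L.xcy _)]
    refine eq_mul_of_mul_inv_eq ?_
    rw [conj_eich, eich_apply L.qy (LineFrame.py _), eich_apply L.qy (LineFrame.py _)]
    simp only [polar_comm Q L.y L.x, L.xy, polar_comm Q (_ : V) L.x, LineFrame.px, LineFrame.py,
      zero_smul, mul_zero, add_zero, sub_zero, κ]
    congr 1
    module
  have h4 := hz L.y (a.2 : V) (-κ) L.qy (LineFrame.py _) L.xy (by simp [polar_self_eq, L.qy])
    (LineFrame.px _) (LineFrame.py _)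
  calc el L a c * el L b d
      = eich Q L.x (a.1 : V) * eich Q L.y (a.2 : V) *
          (eich Q L.x (c • L.y) * eich Q L.x (b.1 : V)) *
          eich Q L.y (b.2 : V) * eich Q L.x (d • L.y) := by simp only [el, mul_assoc]
    _ = eich Q L.x (a.1 : V) * (eich Q L.y (a.2 : V) * eich Q L.x (b.1 : V)) *
          (eich Q L.x (c • L.y) * eich Q L.y (b.2 : V)) * eich Q L.x (d • L.y) := by
        rw [h1]; simp only [mul_assoc]
    _ = eich Q L.x (a.1 : V) * eich Q L.x (b.1 : V) *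
          ((eich Q L.x ((-κ) • L.y) * eich Q L.y (a.2 : V)) * eich Q L.y (b.2 : V)) *
          eich Q L.x (c • L.y) * eich Q L.x (d • L.y) := by
        rw [h3, h2]; simp only [mul_assoc]
    _ = eich Q L.x (a.1 : V) * eich Q L.x (b.1 : V) *
          (eich Q L.y (a.2 : V) * (eich Q L.x ((-κ) • L.y) * eich Q L.y (b.2 : V))) *
          eich Q L.x (c • L.y) * eich Q L.x (d • L.y) := by
        rw [h4]; simp only [mul_assoc]
    _ = (eich Q L.x (a.1 : V) * eich Q L.x (b.1 : V)) *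
          (eich Q L.y (a.2 : V) * eich Q L.y (b.2 : V)) *
          (eich Q L.x ((-κ) • L.y) * eich Q L.x (c • L.y) * eich Q L.x (d • L.y)) := by
        rw [hz L.y (b.2 : V) (-κ) L.qy (LineFrame.py _) L.xy (by simp [polar_self_eq, L.qy])
          (LineFrame.px _) (LineFrame.py _)]
        simp only [mul_assoc]
    _ = _ := by
        rw [eich_mul L.qx (LineFrame.px _) (LineFrame.px _),
          eich_mul L.qy (LineFrame.py _) (LineFrame.py _), eich_mul L.qx (L.xcy _) (L.xcy _),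
          eich_mul L.qx (by rw [polar_add_right, L.xcy, L.xcy, add_zero]) (L.xcy _), el,
          ← add_smul, ← add_smul, show -κ + c + d = c + d - κ by ring]
        rfl

theorem el_mem (a : L.W0 × L.W0) (c : F) : el L a c ∈ eichGroup Q :=
  mul_mem (mul_mem (eich_mem_eichGroup _ _) (eich_mem_eichGroup _ _)) (eich_mem_eichGroup _ _)

theorem el_inv (a : L.W0 × L.W0) (c : F) :
    (el L a c)⁻¹ = el L (-a) (-c - polar Q (a.2 : V) (a.1 : V)) := by
  refine inv_eq_of_mul_eq_one_right ?_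
  rw [el_mul, add_neg_cancel, ← el_zero L]
  congr 1
  simp [polar_neg_right]
  ring

/-- The Heisenberg group. -/
def heis (L : LineFrame Q) : Subgroup (orth Q) where
  carrier := {g | ∃ a c, g = el L a c}
  one_mem' := ⟨0, 0, (el_zero L).symm⟩
  mul_mem' := by
    rintro _ _ ⟨a, c, rfl⟩ ⟨b, d, rfl⟩
    exact ⟨_, _, el_mul a b c d⟩
  inv_mem' := by
    rintro _ ⟨a, c, rfl⟩
    exact ⟨_, _, el_inv a c⟩

theorem heis_le : heis L ≤ eichGroup Q := by
  rintro _ ⟨a, c, rfl⟩; exact el_mem a c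

/-- The image of `H ∩ heis` modulo the centre. -/
def imA (L : LineFrame Q) (H : Subgroup (orth Q)) : AddSubgroup (L.W0 × L.W0) where
  carrier := {a | ∃ c, el L a c ∈ H}
  zero_mem' := ⟨0, by rw [el_zero]; exact one_mem H⟩
  add_mem' := by
    rintro a b ⟨c, hc⟩ ⟨d, hd⟩
    exact ⟨_, el_mul a b c d ▸ mul_mem hc hd⟩
  neg_mem' := by
    rintro a ⟨c, hc⟩
    exact ⟨_, el_inv a c ▸ inv_mem hc⟩

/-- The intersection with the centre. -/
def cenB (L : LineFrame Q) (H : Subgroup (orth Q)) : AddSubgroup F where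
  carrier := {c | el L 0 c ∈ H}
  zero_mem' := by show el L 0 0 ∈ H; rw [el_zero]; exact one_mem H
  add_mem' := by
    intro c d (hc : el L 0 c ∈ H) (hd : el L 0 d ∈ H)
    have := mul_mem hc hd
    rw [el_mul] at this
    show el L 0 (c + d) ∈ H
    simpa using this
  neg_mem' := by
    intro c (hc : el L 0 c ∈ H)
    have := inv_mem hc
    rw [el_inv] at this
    show el L 0 (-c) ∈ H
    simpa using this

/-- The commutator pairing. -/
def bet (L : LineFrame Q) (a b : L.W0 × L.W0) : F :=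
  polar Q (b.2 : V) (a.1 : V) - polar Q (a.2 : V) (b.1 : V)

theorem bet_mem {H : Subgroup (orth Q)} {a b : L.W0 × L.W0} (ha : a ∈ imA L H)
    (hb : b ∈ imA L H) : bet L a b ∈ cenB L H := by
  obtain ⟨c, hc⟩ := ha
  obtain ⟨d, hd⟩ := hb
  have h := mul_mem (mul_mem hc hd) (inv_mem (mul_mem hd hc))
  rw [el_mul, el_mul, el_inv, el_mul] at h
  show el L 0 _ ∈ H
  convert! h using 1
  congr 1
  · rw [add_comm b a, add_neg_cancel]
  · simp only [bet, Prod.fst_add, Prod.snd_add, Prod.fst_neg, Submodule.coe_add, Submodule.coe_neg,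
      polar_add_left, polar_add_right, polar_neg_left, polar_neg_right]
    ring

theorem card_inter (L : LineFrame Q) (H : Subgroup (orth Q)) [Finite F] [Finite V] :
    Nat.card (H ⊓ heis L : Subgroup (orth Q)) = Nat.card (imA L H) * Nat.card (cenB L H) := by
  rw [← Nat.card_prod]
  symm
  choose c hc using fun a : imA L H => a.2
  refine Nat.card_eq_of_bijective
    (fun p => ⟨el L (p.1 : L.W0 × L.W0) (c p.1) * el L 0 p.2,
      mul_mem (hc p.1) p.2.2, mul_mem ⟨_, _, rfl⟩ ⟨_, _, rfl⟩⟩) ⟨fun p q h => ?_, fun g => ?_⟩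
  · have h' := congrArg Subtype.val h
    simp only [el_mul, add_zero] at h'
    obtain ⟨h1, h2⟩ := el_inj h'
    have e : p.1 = q.1 := Subtype.ext h1
    refine Prod.ext e (Subtype.ext ?_)
    rw [e] at h2
    simpa using h2
  · obtain ⟨g, hgH, a, d, rfl⟩ := g
    have ha : a ∈ imA L H := ⟨d, hgH⟩
    have hz : el L a (c ⟨a, ha⟩) * el L 0 (d - c ⟨a, ha⟩) = el L a d := by
      rw [el_mul, add_zero]
      congr 1
      simp
    refine ⟨(⟨a, ha⟩, ⟨d - c ⟨a, ha⟩, ?_⟩), Subtype.ext hz⟩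
    have := mul_mem (inv_mem (hc ⟨a, ha⟩)) hgH
    show el L 0 _ ∈ H
    rw [← hz, inv_mul_cancel_left] at this
    exact this

theorem card_heis (L : LineFrame Q) :
    Nat.card (heis L) = Nat.card L.W0 ^ 2 * Nat.card F := by
  rw [_root_.sq, ← Nat.card_prod, ← Nat.card_prod]
  symm
  refine Nat.card_eq_of_bijective (fun p => ⟨el L p.1 p.2, p.1, p.2, rfl⟩) ⟨fun p q h => ?_, ?_⟩
  · obtain ⟨h1, h2⟩ := el_inj (congrArg Subtype.val h)
    exact Prod.ext h1 h2
  · rintro ⟨_, a, c, rfl⟩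
    exact ⟨(a, c), rfl⟩

/-- `g` maps the Heisenberg group by `Λ` modulo the centre and the centre by `d`. -/
def Acts (L : LineFrame Q) (g : orth Q) (Λ : (L.W0 × L.W0) ≃ₗ[F] (L.W0 × L.W0)) (d : Fˣ) : Prop :=
  g ∈ eichGroup Q ∧ (∀ a c, ∃ c', g * el L a c * g⁻¹ = el L (Λ a) c') ∧
    ∀ c, g * el L 0 c * g⁻¹ = el L 0 ((d : F) * c)

theorem Acts.one : Acts L 1 (LinearEquiv.refl F _) 1 :=
  ⟨one_mem _, fun a c => ⟨c, by simp⟩, fun c => by simp⟩

theorem Acts.mul {g h : orth Q} {Λ M : (L.W0 × L.W0) ≃ₗ[F] (L.W0 × L.W0)} {d e : Fˣ}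
    (hg : Acts L g Λ d) (hh : Acts L h M e) : Acts L (g * h) (M.trans Λ) (d * e) := by
  refine ⟨mul_mem hg.1 hh.1, fun a c => ?_, fun c => ?_⟩
  · obtain ⟨c₁, h1⟩ := hh.2.1 a c
    obtain ⟨c₂, h2⟩ := hg.2.1 (M a) c₁
    exact ⟨c₂, by rw [LinearEquiv.trans_apply, ← h2, ← h1]; group⟩
  · rw [show g * h * el L 0 c * (g * h)⁻¹ = g * (h * el L 0 c * h⁻¹) * g⁻¹ by group, hh.2.2,
      hg.2.2, Units.val_mul, mul_assoc]

theorem Acts.inv {g : orth Q} {Λ : (L.W0 × L.W0) ≃ₗ[F] (L.W0 × L.W0)} {d : Fˣ}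
    (hg : Acts L g Λ d) : Acts L g⁻¹ Λ.symm d⁻¹ := by
  refine ⟨inv_mem hg.1, fun a c => ?_, fun c => ?_⟩
  · obtain ⟨c₁, h1⟩ := hg.2.1 (Λ.symm a) 0
    rw [LinearEquiv.apply_symm_apply] at h1
    refine ⟨(c - c₁) * ((d⁻¹ : Fˣ) : F), ?_⟩
    have h0 := hg.2.2 ((c - c₁) * ((d⁻¹ : Fˣ) : F))
    rw [show (d : F) * ((c - c₁) * ((d⁻¹ : Fˣ) : F)) = c - c₁ by
      rw [mul_comm (d : F), Units.inv_mul_cancel_right]] at h0
    have e : g * el L (Λ.symm a) ((c - c₁) * ((d⁻¹ : Fˣ) : F)) * g⁻¹ = el L a c := by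
      have e1 : el L (Λ.symm a) ((c - c₁) * ((d⁻¹ : Fˣ) : F)) =
          el L (Λ.symm a) 0 * el L 0 ((c - c₁) * ((d⁻¹ : Fˣ) : F)) := by
        rw [el_mul, add_zero]; simp
      rw [e1, show ∀ p q : orth Q, g * (p * q) * g⁻¹ = g * p * g⁻¹ * (g * q * g⁻¹) from
        fun p q => by group, h1, h0, el_mul, add_zero]
      simp
    rw [← e]; group
  · have := hg.2.2 (((d⁻¹ : Fˣ) : F) * c)
    rw [← mul_assoc, Units.mul_inv, one_mul] at this
    rw [← this]; group

variable [Finite F] [Finite V]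

/-- Equal traces on the Heisenberg group, up to an inner conjugation, give equal images. -/
theorem trace_eq {H : Subgroup (orth Q)} {g h : orth Q}
    {Λ M : (L.W0 × L.W0) ≃ₗ[F] (L.W0 × L.W0)} {d e : Fˣ}
    (hg : Acts L g Λ d) (hh : Acts L h M e) {x : orth Q} (hx : x ∈ heis L)
    (he : ∀ y ∈ heis L, g⁻¹ * y * g ∈ H ↔ h⁻¹ * (x * y * x⁻¹) * h ∈ H) :
    (∀ a, Λ.symm a ∈ imA L H ↔ M.symm a ∈ imA L H) ∧
      ∀ c : F, (d⁻¹ : Fˣ) * c ∈ cenB L H ↔ (e⁻¹ : Fˣ) * c ∈ cenB L H := by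
  have hA : ∀ {g : orth Q} {Λ : (L.W0 × L.W0) ≃ₗ[F] (L.W0 × L.W0)} {d : Fˣ}, Acts L g Λ d →
      ∀ a, (∃ c, g⁻¹ * el L a c * g ∈ H) ↔ Λ.symm a ∈ imA L H := by
    intro g Λ d hg a
    constructor
    · rintro ⟨c, hc⟩
      obtain ⟨c', hc'⟩ := hg.inv.2.1 a c
      rw [inv_inv] at hc'
      exact ⟨c', hc' ▸ hc⟩
    · rintro ⟨c, hc⟩
      obtain ⟨c', hc'⟩ := hg.2.1 (Λ.symm a) c
      rw [LinearEquiv.apply_symm_apply] at hc'
      exact ⟨c', by rw [← hc']; simpa [mul_assoc] using hc⟩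
  have hB : ∀ {g : orth Q} {Λ : (L.W0 × L.W0) ≃ₗ[F] (L.W0 × L.W0)} {d : Fˣ}, Acts L g Λ d →
      ∀ c : F, g⁻¹ * el L 0 c * g ∈ H ↔ (d⁻¹ : Fˣ) * c ∈ cenB L H := by
    intro g Λ d hg c
    have := hg.inv.2.2 c
    rw [inv_inv] at this
    rw [this]; rfl
  have hconj : ∀ (x : orth Q), x ∈ heis L → ∀ a c, ∃ c', x * el L a c * x⁻¹ = el L a c' ∧
      ∀ d, x * el L 0 d * x⁻¹ = el L 0 d := by
    rintro _ ⟨b, e, rfl⟩ a c
    refine ⟨e + c - polar Q (b.2 : V) (a.1 : V) + (-e - polar Q (b.2 : V) (b.1 : V)) -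
      polar Q ((b + a).2 : V) ((-b).1 : V), ?_, fun d => ?_⟩
    · rw [el_inv, el_mul, el_mul, show b + a + -b = a by abel]
    · rw [el_inv, el_mul, el_mul, add_zero, add_neg_cancel]
      congr 1
      simp; ring
  refine ⟨fun a => ?_, fun c => ?_⟩
  · rw [← hA hg, ← hA hh]
    constructor
    · rintro ⟨c, hc⟩
      obtain ⟨c', hc', -⟩ := hconj x hx a c
      exact ⟨c', hc' ▸ (he _ ⟨a, c, rfl⟩).mp hc⟩
    · rintro ⟨c, hc⟩
      obtain ⟨c', hc', -⟩ := hconj x⁻¹ (inv_mem hx) a c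
      rw [inv_inv] at hc'
      refine ⟨c', (he _ ⟨a, c', rfl⟩).mpr ?_⟩
      rw [← hc']
      simpa [mul_assoc] using hc
  · rw [← hB hg, ← hB hh]
    obtain ⟨-, -, hc⟩ := hconj x hx 0 0
    rw [he _ ⟨0, c, rfl⟩, hc]

variable [Finite F] [Finite V]

/-- The number of cosets times the trace is at least the number of orbits times the group. -/
theorem count_bound {ι : Type*} {H : Subgroup (orth Q)} (g : ι → orth Q)
    (hg : ∀ i, g i ∈ eichGroup Q) (hn : ∀ i, ∀ x ∈ heis L, g i * x * (g i)⁻¹ ∈ heis L)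
    (hdist : ∀ i j, ∀ x ∈ heis L, (∀ y ∈ heis L, (g i)⁻¹ * y * g i ∈ H ↔
      (g j)⁻¹ * (x * y * x⁻¹) * g j ∈ H) → i = j) :
    Nat.card ι * (Nat.card L.W0 ^ 2 * Nat.card F) ≤
      H.relIndex (eichGroup Q) * (Nat.card (imA L H) * Nat.card (cenB L H)) := by
  haveI : Finite (orth Q) := Finite.of_injective (fun g : orth Q => (g.1 : V → V))
    fun a b h => orth_ext (congrFun h)
  have key := card_mul_relIndex_le (E := eichGroup Q) (H := H) (Qs := heis L) g hg heis_le hn hdist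
  have hH : Nat.card (heis L) = H.relIndex (heis L) * (Nat.card (imA L H) * Nat.card (cenB L H)) := by
    rw [← card_inter L H, Subgroup.relIndex,
      ← Nat.card_congr (Subgroup.subgroupOfEquivOfLe (inf_le_right : H ⊓ heis L ≤ heis L)).toEquiv,
      Subgroup.inf_subgroupOf_right, mul_comm, Subgroup.card_mul_index]
  rw [← card_heis L, hH, ← mul_assoc]
  exact Nat.mul_le_mul_right _ key

theorem Acts.normal {g : orth Q} {Λ : (L.W0 × L.W0) ≃ₗ[F] (L.W0 × L.W0)} {d : Fˣ}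
    (hg : Acts L g Λ d) : ∀ x ∈ heis L, g * x * g⁻¹ ∈ heis L := by
  rintro _ ⟨a, c, rfl⟩
  obtain ⟨c', hc'⟩ := hg.2.1 a c
  exact ⟨_, c', hc'⟩

/-- **The index bound.** -/
theorem index_bound {ι : Type*} {H : Subgroup (orth Q)} (g : ι → orth Q)
    (Λ : ι → (L.W0 × L.W0) ≃ₗ[F] (L.W0 × L.W0)) (d : ι → Fˣ)
    (hact : ∀ i, Acts L (g i) (Λ i) (d i))
    (hdist : ∀ i j, (∀ a, (Λ i).symm a ∈ imA L H ↔ (Λ j).symm a ∈ imA L H) →
      (∀ c : F, ((d i)⁻¹ : Fˣ) * c ∈ cenB L H ↔ ((d j)⁻¹ : Fˣ) * c ∈ cenB L H) → i = j) :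
    Nat.card ι * (Nat.card L.W0 ^ 2 * Nat.card F) ≤
      H.relIndex (eichGroup Q) * (Nat.card (imA L H) * Nat.card (cenB L H)) :=
  count_bound g (fun i => (hact i).1) (fun i => (hact i).normal) fun i j _ hx h =>
    hdist i j (trace_eq (hact i) (hact j) hx h).1 (trace_eq (hact i) (hact j) hx h).2

end Cfsg.Agent.MinIdxClassical
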