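import Cfsg.Agent.MaxSub.OrthGen
import Mathlib.Analysis.Fourier.FiniteAbelian.PontryaginDuality

/-!
Subgroups of `W × W` under `SL₂ × Ω(W)`: size of isotropic ones and size of orbits (helper24).
-/

set_option autoImplicit false
set_option linter.unusedSectionVars false

namespace Cfsg.Agent.MinIdxClassical

open QuadraticMap Cfsg.Agent.UnitaryOrthogonal

variable {F : Type*} [Field F] {W : Type*} [AddCommGroup W] [Module F W]

/-- `(w₁, w₂) ↦ (w₁ - t w₂, w₂)`. -/
def upT (t : F) : (W × W) ≃ₗ[F] (W × W) where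
  toFun a := (a.1 - t • a.2, a.2)
  invFun a := (a.1 + t • a.2, a.2)
  map_add' a b := by ext <;> simp [smul_add]; abel
  map_smul' s a := by ext <;> simp [smul_sub, smul_comm t s]
  left_inv a := by simp
  right_inv a := by simp

/-- `(w₁, w₂) ↦ (w₁, w₂ - t w₁)`. -/
def loT (t : F) : (W × W) ≃ₗ[F] (W × W) where
  toFun a := (a.1, a.2 - t • a.1)
  invFun a := (a.1, a.2 + t • a.1)
  map_add' a b := by ext <;> simp [smul_add]; abel
  map_smul' s a := by ext <;> simp [smul_sub, smul_comm t s]
  left_inv a := by simp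
  right_inv a := by simp

/-- The group generated by the two kinds of transvections and the diagonal root elements. -/
def pairGroup (R : QuadraticForm F W) : Subgroup ((W × W) ≃ₗ[F] (W × W)) :=
  Subgroup.closure (Set.range upT ∪ Set.range loT ∪
    {g | ∃ z v : W, R z = 0 ∧ polar R z v = 0 ∧ g = (eich R z v).1.prodCongr (eich R z v).1})

/-- The image of a subgroup. -/
def mv (Λ : (W × W) ≃ₗ[F] (W × W)) (A : AddSubgroup (W × W)) : AddSubgroup (W × W) :=
  A.comap Λ.symm.toLinearMap.toAddMonoidHom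

theorem mem_mv {Λ : (W × W) ≃ₗ[F] (W × W)} {A : AddSubgroup (W × W)} {a : W × W} :
    a ∈ mv Λ A ↔ Λ.symm a ∈ A := Iff.rfl

theorem mv_mul (Λ M : (W × W) ≃ₗ[F] (W × W)) (A : AddSubgroup (W × W)) :
    mv (Λ * M) A = mv Λ (mv M A) := rfl

theorem mv_one (A : AddSubgroup (W × W)) : mv (1 : (W × W) ≃ₗ[F] (W × W)) A = A := rfl

variable (R : QuadraticForm F W)

theorem upT_mem (t : F) : upT t ∈ pairGroup R :=
  Subgroup.subset_closure (Or.inl (Or.inl ⟨t, rfl⟩))

theorem loT_mem (t : F) : loT t ∈ pairGroup R :=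
  Subgroup.subset_closure (Or.inl (Or.inr ⟨t, rfl⟩))

theorem diag_mem {z v : W} (hz : R z = 0) (hv : polar R z v = 0) :
    (eich R z v).1.prodCongr (eich R z v).1 ∈ pairGroup R :=
  Subgroup.subset_closure (Or.inr ⟨z, v, hz, hv, rfl⟩)

/-- The orbit of a subgroup. -/
def orbSet (A : AddSubgroup (W × W)) : Set (AddSubgroup (W × W)) :=
  Set.range fun Λ : pairGroup R => mv Λ.1 A

variable {R}

theorem mv_mem_orbSet {A M : AddSubgroup (W × W)} (hM : M ∈ orbSet R A)
    {Λ : (W × W) ≃ₗ[F] (W × W)} (h : Λ ∈ pairGroup R) : mv Λ M ∈ orbSet R A := by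
  obtain ⟨Θ, rfl⟩ := hM
  exact ⟨⟨Λ, h⟩ * Θ, rfl⟩

theorem self_mem_orbSet (A : AddSubgroup (W × W)) : A ∈ orbSet R A := ⟨1, mv_one A⟩

theorem orbSet_eq {A M : AddSubgroup (W × W)} (hM : M ∈ orbSet R A) : orbSet R M = orbSet R A := by
  obtain ⟨Θ, rfl⟩ := hM
  refine Set.ext fun N => ⟨?_, ?_⟩
  · rintro ⟨Λ, rfl⟩; exact ⟨Λ * Θ, rfl⟩
  · rintro ⟨Λ, rfl⟩
    exact ⟨Λ * Θ⁻¹, by
      show mv (Λ.1 * Θ.1⁻¹) (mv Θ.1 A) = mv Λ.1 A
      rw [← mv_mul, mul_assoc, inv_mul_cancel, mul_one]⟩

/-- `A` consists of the pairs with entries in a subspace. -/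
def IsSquare' (F : Type*) {W : Type*} [Field F] [AddCommGroup W] [Module F W]
    (A : AddSubgroup (W × W)) : Prop :=
  ∃ C : Submodule F W, ∀ a, a ∈ A ↔ a.1 ∈ C ∧ a.2 ∈ C

/-- `A` is `W ⊗ u`. -/
def IsTensor (F : Type*) {W : Type*} [Field F] [AddCommGroup W] [Module F W]
    (A : AddSubgroup (W × W)) : Prop :=
  ∃ α β : F, (α ≠ 0 ∨ β ≠ 0) ∧ ∀ a, a ∈ A ↔ ∃ w : W, a = (α • w, β • w)

theorem square_mv_iff {Λ : (W × W) ≃ₗ[F] (W × W)} (hΛ : Λ ∈ pairGroup R)
    (A : AddSubgroup (W × W)) : IsSquare' F (mv Λ A) ↔ IsSquare' F A := by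
  unfold pairGroup at hΛ
  induction hΛ using Subgroup.closure_induction generalizing A with
  | mem Λ hΛ =>
    rcases hΛ with (⟨t, rfl⟩ | ⟨t, rfl⟩) | ⟨z, v, -, -, rfl⟩
    · constructor
      · rintro ⟨C, hC⟩
        refine ⟨C, fun a => ?_⟩
        have h := hC (upT t a)
        rw [mem_mv, LinearEquiv.symm_apply_apply] at h
        rw [h]
        exact ⟨fun h => ⟨by simpa [upT] using C.add_mem h.1 (C.smul_mem t h.2), h.2⟩,
          fun h => ⟨C.sub_mem h.1 (C.smul_mem t h.2), h.2⟩⟩
      · rintro ⟨C, hC⟩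
        refine ⟨C, fun a => ?_⟩
        rw [mem_mv, hC]
        exact ⟨fun h => ⟨by simpa [upT] using C.sub_mem h.1 (C.smul_mem t h.2), h.2⟩,
          fun h => ⟨C.add_mem h.1 (C.smul_mem t h.2), h.2⟩⟩
    · constructor
      · rintro ⟨C, hC⟩
        refine ⟨C, fun a => ?_⟩
        have h := hC (loT t a)
        rw [mem_mv, LinearEquiv.symm_apply_apply] at h
        rw [h]
        exact ⟨fun h => ⟨h.1, by simpa [loT] using C.add_mem h.2 (C.smul_mem t h.1)⟩,
          fun h => ⟨h.1, C.sub_mem h.2 (C.smul_mem t h.1)⟩⟩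
      · rintro ⟨C, hC⟩
        refine ⟨C, fun a => ?_⟩
        rw [mem_mv, hC]
        exact ⟨fun h => ⟨h.1, by simpa [loT] using C.sub_mem h.2 (C.smul_mem t h.1)⟩,
          fun h => ⟨h.1, C.add_mem h.2 (C.smul_mem t h.1)⟩⟩
    · set g := (eich R z v).1
      constructor
      · rintro ⟨C, hC⟩
        refine ⟨C.comap g.toLinearMap, fun a => ?_⟩
        have h := hC (g.prodCongr g a)
        rw [mem_mv, LinearEquiv.symm_apply_apply] at h
        exact h
      · rintro ⟨C, hC⟩
        refine ⟨C.comap g.symm.toLinearMap, fun a => ?_⟩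
        rw [mem_mv, hC]
        rfl
  | one => rw [mv_one]
  | mul x y _ _ hx hy => rw [mv_mul, hx, hy]
  | inv x _ hx =>
    conv_rhs => rw [show A = mv x (mv x⁻¹ A) by rw [← mv_mul, mul_inv_cancel, mv_one]]
    rw [hx]

theorem tensor_mv_iff {Λ : (W × W) ≃ₗ[F] (W × W)} (hΛ : Λ ∈ pairGroup R)
    (A : AddSubgroup (W × W)) : IsTensor F (mv Λ A) ↔ IsTensor F A := by
  unfold pairGroup at hΛ
  induction hΛ using Subgroup.closure_induction generalizing A with
  | mem Λ hΛ =>
    rcases hΛ with (⟨t, rfl⟩ | ⟨t, rfl⟩) | ⟨z, v, -, -, rfl⟩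
    · constructor
      · rintro ⟨α, β, hne, h⟩
        refine ⟨α + t * β, β, ?_, fun a => ?_⟩
        · by_contra hc; simp only [not_or, not_not] at hc; simp [hc.2] at hc hne; exact hne hc
        · have h' := h (upT t a)
          rw [mem_mv, LinearEquiv.symm_apply_apply] at h'
          rw [h']
          refine exists_congr fun w => ?_
          simp only [upT, LinearEquiv.coe_mk, LinearMap.coe_mk, AddHom.coe_mk, Prod.ext_iff]
          refine and_congr_left fun h2 => ?_
          rw [h2, sub_eq_iff_eq_add, add_smul, mul_smul]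
      · rintro ⟨α, β, hne, h⟩
        refine ⟨α - t * β, β, ?_, fun a => ?_⟩
        · by_contra hc; simp only [not_or, not_not] at hc; simp [hc.2] at hc hne; exact hne hc
        · rw [mem_mv, h]
          refine exists_congr fun w => ?_
          show (a.1 + t • a.2, a.2) = _ ↔ _
          simp only [Prod.ext_iff]
          refine and_congr_left fun h2 => ?_
          rw [h2, sub_smul, mul_smul, eq_sub_iff_add_eq]
    · constructor
      · rintro ⟨α, β, hne, h⟩
        refine ⟨α, β + t * α, ?_, fun a => ?_⟩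
        · by_contra hc; simp only [not_or, not_not] at hc; simp [hc.1] at hc hne; exact hne hc
        · have h' := h (loT t a)
          rw [mem_mv, LinearEquiv.symm_apply_apply] at h'
          rw [h']
          refine exists_congr fun w => ?_
          simp only [loT, LinearEquiv.coe_mk, LinearMap.coe_mk, AddHom.coe_mk, Prod.ext_iff]
          refine and_congr_right fun h1 => ?_
          rw [h1, sub_eq_iff_eq_add, add_smul, mul_smul]
      · rintro ⟨α, β, hne, h⟩
        refine ⟨α, β - t * α, ?_, fun a => ?_⟩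
        · by_contra hc; simp only [not_or, not_not] at hc; simp [hc.1] at hc hne; exact hne hc
        · rw [mem_mv, h]
          refine exists_congr fun w => ?_
          show (a.1, a.2 + t • a.1) = _ ↔ _
          simp only [Prod.ext_iff]
          refine and_congr_right fun h1 => ?_
          rw [h1, sub_smul, mul_smul, eq_sub_iff_add_eq]
    · set g := (eich R z v).1
      constructor
      · rintro ⟨α, β, hne, h⟩
        refine ⟨α, β, hne, fun a => ?_⟩
        have h' := h (g.prodCongr g a)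
        rw [mem_mv, LinearEquiv.symm_apply_apply] at h'
        rw [h']
        refine ⟨fun ⟨w, e⟩ => ⟨g.symm w, ?_⟩, fun ⟨w, e⟩ => ⟨g w, by simp [e]⟩⟩
        simp only [Prod.ext_iff, LinearEquiv.prodCongr_apply] at e
        ext <;> simp [← e.1, ← e.2, ← map_smul g.symm]
      · rintro ⟨α, β, hne, h⟩
        refine ⟨α, β, hne, fun a => ?_⟩
        rw [mem_mv, h]
        refine ⟨fun ⟨w, e⟩ => ⟨g w, ?_⟩, fun ⟨w, e⟩ => ⟨g.symm w, by simp [e]⟩⟩
        have := congrArg (g.prodCongr g) e
        rw [LinearEquiv.apply_symm_apply] at this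
        simpa using this
  | one => rw [mv_one]
  | mul x y _ _ hx hy => rw [mv_mul, hx, hy]
  | inv x _ hx =>
    conv_rhs => rw [show A = mv x (mv x⁻¹ A) by rw [← mv_mul, mul_inv_cancel, mv_one]]
    rw [hx]

variable [Finite F] [Finite W]

/-- A proper subgroup of values bounds an isotropic subgroup. -/
theorem card_sq_le (hR : PolarND R) {B : AddSubgroup F} (hB : B ≠ ⊤) {A : AddSubgroup (W × W)}
    (hA : ∀ a ∈ A, ∀ b ∈ A, polar R b.2 a.1 - polar R a.2 b.1 ∈ B) :
    Nat.card A * Nat.card A ≤ Nat.card W * Nat.card W := by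
  classical
  haveI := Fintype.ofFinite F
  haveI := Fintype.ofFinite ((W × W) ⧸ A)
  obtain ⟨c, hc⟩ : ∃ c, c ∉ B := by
    by_contra h
    exact hB (eq_top_iff.mpr fun c _ => by simpa using (not_exists.mp h c))
  obtain ⟨ψ, hψ⟩ := AddChar.exists_apply_ne_zero.mpr
    (show ((c : F) : F ⧸ B) ≠ 0 by rwa [ne_eq, QuotientAddGroup.eq_zero_iff])
  let bl : W × W → (W × W →+ F) := fun a => AddMonoidHom.mk'
    (fun b => polar R b.2 a.1 - polar R a.2 b.1)
    (fun b b' => by simp only [Prod.fst_add, Prod.snd_add, polar_add_left, polar_add_right]; ring)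
  let χ : A → AddChar ((W × W) ⧸ A) ℂ := fun a => ψ.compAddMonoidHom
    (QuotientAddGroup.lift A ((QuotientAddGroup.mk' B).comp (bl a.1)) fun b hb => by
      rw [AddMonoidHom.mem_ker]
      exact (QuotientAddGroup.eq_zero_iff _).mpr (hA _ a.2 b hb))
  have hinj : Function.Injective χ := by
    intro a a' h
    have hd : ∀ b : W × W, polar R b.2 (a.1.1 - a'.1.1) - polar R (a.1.2 - a'.1.2) b.1 = 0 := by
      intro b
      by_contra hne
      set d := polar R b.2 (a.1.1 - a'.1.1) - polar R (a.1.2 - a'.1.2) b.1 with hd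
      set b' := (c / d) • b
      have e := DFunLike.congr_fun h (b' : (W × W) ⧸ A)
      simp only [χ, AddChar.compAddMonoidHom_apply, QuotientAddGroup.lift_mk, AddMonoidHom.comp_apply,
        QuotientAddGroup.mk'_apply] at e
      have e2 : bl a.1 b' - bl a'.1 b' = c := by
        simp only [bl, b', AddMonoidHom.mk'_apply, Prod.smul_fst, Prod.smul_snd, polar_smul_left,
          polar_smul_right, smul_eq_mul, hd, polar_sub_left, polar_sub_right] at hne ⊢
        field_simp
        ring
      have e3 : ψ ((bl a.1 b' : F) : F ⧸ B) = ψ ((bl a'.1 b' : F) : F ⧸ B) * ψ ((c : F) : F ⧸ B) := by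
        rw [← AddChar.map_add_eq_mul, ← e2, ← QuotientAddGroup.mk_add, add_sub_cancel]
      rw [e] at e3
      exact hψ (by simpa [AddChar.val_isUnit ψ _ |>.ne_zero] using e3.symm)
    have h1 : a.1.1 - a'.1.1 = 0 := hR _ fun w => by
      have := hd (0, w); simpa [polar_comm R w] using this
    have h2 : a.1.2 - a'.1.2 = 0 := hR _ fun w => by
      have := hd (w, 0); simp at this ⊢; linear_combination -this
    exact Subtype.ext (Prod.ext (sub_eq_zero.mp h1) (sub_eq_zero.mp h2))
  have h := Nat.card_le_card_of_injective χ hinj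
  rw [Nat.card_eq_fintype_card (α := AddChar _ _), AddChar.card_eq,
    ← Nat.card_eq_fintype_card] at h
  calc Nat.card A * Nat.card A ≤ Nat.card ((W × W) ⧸ A) * Nat.card A := Nat.mul_le_mul_right _ h
    _ = Nat.card (W × W) := (AddSubgroup.card_eq_card_quotient_mul_card_addSubgroup A).symm
    _ = _ := Nat.card_prod W W

/-- A short orbit forces a square. -/
theorem square_of_short {A : AddSubgroup (W × W)} (h : Nat.card (orbSet R A) < Nat.card F) :
    IsSquare' F A := by
  classical
  have fix : ∀ T : F → (W × W) ≃ₗ[F] (W × W), (∀ t, T t ∈ pairGroup R) →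
      (∀ s t, T s * T t = T (s + t)) → ∀ M ∈ orbSet R A, ∃ t, t ≠ 0 ∧ mv (T t) M = M := by
    intro T hT hadd M hM
    have hni : ¬ Function.Injective fun t => (⟨mv (T t) M, mv_mem_orbSet hM (hT t)⟩ : orbSet R A) :=
      fun hi => absurd (Nat.card_le_card_of_injective _ hi) (not_le.mpr h)
    simp only [Function.Injective, not_forall] at hni
    obtain ⟨s, t, e, hst⟩ := hni
    have e' := congrArg (fun N => mv (T (-t)) N) (congrArg Subtype.val e)
    simp only [← mv_mul, hadd, neg_add_cancel] at e'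
    have hT0 : T 0 = 1 := by
      have := hadd 0 0
      rw [add_zero] at this
      exact mul_eq_left.mp this
    rw [hT0, mv_one] at e'
    exact ⟨-t + s, fun h0 => hst (neg_add_eq_zero.mp h0).symm, e'⟩
  have hup : ∀ s t : F, upT (W := W) s * upT t = upT (s + t) := fun s t => by
    ext a <;> simp [upT, LinearEquiv.mul_apply, add_smul]; abel
  have hlo : ∀ s t : F, loT (W := W) s * loT t = loT (s + t) := fun s t => by
    ext a <;> simp [loT, LinearEquiv.mul_apply, add_smul]; abel
  let S : F → AddSubgroup A := fun s =>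
    ((AddMonoidHom.snd W W - (DistribSMul.toAddMonoidHom W s).comp (AddMonoidHom.fst W W)).comp
      A.subtype).ker
  let S' : AddSubgroup A := ((AddMonoidHom.fst W W).comp A.subtype).ker
  have memS : ∀ (s : F) (a : A), a ∈ S s ↔ a.1.2 = s • a.1.1 := fun s a => by
    simp [S, AddMonoidHom.mem_ker, sub_eq_zero]
  have memS' : ∀ a : A, a ∈ S' ↔ a.1.1 = 0 := fun a => Iff.rfl
  have half : ∀ (φ : A →+ A) (K : AddSubgroup A), φ.ker ≤ K → φ.range ≤ K →
      Nat.card A ≤ Nat.card K * Nat.card K := by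
    intro φ K hk hr
    rw [← φ.ker.card_mul_index, AddSubgroup.index_ker]
    exact Nat.mul_le_mul (AddSubgroup.card_le_of_le hk) (AddSubgroup.card_le_of_le hr)
  have bigS : ∀ s, Nat.card A ≤ Nat.card (S s) * Nat.card (S s) := by
    intro s
    obtain ⟨t, ht, e⟩ := fix upT (upT_mem R) hup _ (mv_mem_orbSet (self_mem_orbSet A) (loT_mem R s))
    have key : ∀ a : W × W, a ∈ A →
        (t • (a.2 - s • a.1), s • (t • (a.2 - s • a.1))) ∈ A := fun a ha => by
      have hb : loT s a ∈ mv (loT s) A := by rwa [mem_mv, LinearEquiv.symm_apply_apply]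
      have hb' : upT t (loT s a) ∈ mv (loT s) A := by
        rw [← e, mem_mv, LinearEquiv.symm_apply_apply]; exact hb
      rw [mem_mv] at hb'
      have h2 := A.sub_mem ha hb'
      convert! h2 using 1
      ext <;> simp [upT, loT, LinearEquiv.coe_symm_mk', smul_sub]
    let φ : A →+ A :=
      { toFun := fun a => ⟨_, key a.1 a.2⟩
        map_zero' := Subtype.ext (by simp)
        map_add' := fun a b => Subtype.ext (by simp [smul_add, smul_sub]; constructor <;> abel) }
    refine half φ (S s) (fun a ha => ?_) ?_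
    · have := congrArg (fun b : A => b.1.1) (AddMonoidHom.mem_ker.mp ha)
      simp [φ, ht, sub_eq_zero] at this
      exact (memS s a).mpr this
    · rintro _ ⟨a, rfl⟩
      exact (memS s _).mpr rfl
  have bigS' : Nat.card A ≤ Nat.card S' * Nat.card S' := by
    obtain ⟨t, ht, e⟩ := fix loT (loT_mem R) hlo A (self_mem_orbSet A)
    have key : ∀ a : W × W, a ∈ A → ((0 : W), t • a.1) ∈ A := fun a ha => by
      have hb' : loT t a ∈ A := by rw [← e, mem_mv, LinearEquiv.symm_apply_apply]; exact ha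
      have h2 := A.sub_mem ha hb'
      convert! h2 using 1
      ext <;> simp [loT]
    let φ : A →+ A :=
      { toFun := fun a => ⟨_, key a.1 a.2⟩
        map_zero' := Subtype.ext (by simp)
        map_add' := fun a b => Subtype.ext (by simp [smul_add]) }
    refine half φ S' (fun a ha => ?_) ?_
    · have := congrArg (fun b : A => b.1.2) (AddMonoidHom.mem_ker.mp ha)
      simp [φ, ht] at this
      exact (memS' a).mpr this
    · rintro _ ⟨a, rfl⟩
      exact (memS' _).mpr rfl
  -- two slots fill `A`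
  let σ : S 0 × S' → A := fun p => p.1.1 + p.2.1
  have hσ : Function.Injective σ := by
    intro p p' hp
    have h2 := congrArg (fun b : A => b.1) hp
    simp only [σ, AddSubgroup.coe_add, Prod.ext_iff, Prod.fst_add, Prod.snd_add, (memS 0 _).mp p.1.2,
      (memS 0 _).mp p'.1.2, (memS' _).mp p.2.2, (memS' _).mp p'.2.2, zero_smul, zero_add,
      add_zero] at h2
    refine Prod.ext (Subtype.ext (Subtype.ext (Prod.ext h2.1 ?_)))
      (Subtype.ext (Subtype.ext (Prod.ext ?_ h2.2)))
    · rw [(memS 0 _).mp p.1.2, (memS 0 _).mp p'.1.2]; simp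
    · rw [(memS' _).mp p.2.2, (memS' _).mp p'.2.2]
  have hprod := Nat.card_le_card_of_injective σ hσ
  rw [Nat.card_prod] at hprod
  have hpos : ∀ K : AddSubgroup A, 0 < Nat.card K := fun K => Nat.card_pos
  have e1 : Nat.card (S 0) = Nat.card S' := by
    have h1 := bigS 0
    have h3 := hpos (S 0)
    have h4 := hpos S'
    exact le_antisymm (Nat.le_of_mul_le_mul_left (hprod.trans bigS' |>.trans_eq' (Nat.mul_comm _ _)) h4)
      (Nat.le_of_mul_le_mul_left (hprod.trans h1) h3)
  have eA : Nat.card A = Nat.card (S 0) * Nat.card (S 0) :=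
    le_antisymm (bigS 0) (by rwa [← e1] at hprod)
  have hsurj : Function.Surjective σ :=
    ((Nat.bijective_iff_injective_and_card σ).mpr ⟨hσ, by rw [Nat.card_prod, ← e1, eA]⟩).2
  have split : ∀ a ∈ A, (a.1, (0 : W)) ∈ A ∧ ((0 : W), a.2) ∈ A := by
    intro a ha
    obtain ⟨⟨p, p'⟩, hp⟩ := hsurj ⟨a, ha⟩
    have h1 := congrArg Subtype.val hp
    simp only [σ, AddSubgroup.coe_add, Prod.ext_iff, Prod.fst_add, Prod.snd_add,
      (memS 0 _).mp p.2, (memS' _).mp p'.2, zero_smul, zero_add, add_zero] at h1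
    refine ⟨?_, ?_⟩
    · convert! p.1.2 using 1
      exact Prod.ext h1.1.symm (by rw [(memS 0 _).mp p.2]; simp)
    · convert! p'.1.2 using 1
      exact Prod.ext ((memS' _).mp p'.2).symm h1.2.symm
  -- every slot maps onto the first
  have slot : ∀ (s : F) (c : W), (c, (0 : W)) ∈ A → (c, s • c) ∈ A := by
    intro s c hc
    let τ : S s → S 0 := fun a => ⟨⟨(a.1.1.1, 0), (split _ a.1.2).1⟩, (memS 0 _).mpr (by simp)⟩
    have hτ : Function.Injective τ := fun a b e => by
      have h1 : a.1.1.1 = b.1.1.1 :=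
        congrArg (fun x : S 0 => x.1.1.1) e
      refine Subtype.ext (Subtype.ext (Prod.ext h1 ?_))
      rw [(memS s _).mp a.2, (memS s _).mp b.2, h1]
    have hge : Nat.card (S 0) ≤ Nat.card (S s) := by
      have := eA ▸ bigS s
      exact Nat.mul_self_le_mul_self_iff.mp this
    have hs := ((Nat.bijective_iff_injective_and_card τ).mpr
      ⟨hτ, le_antisymm (Nat.card_le_card_of_injective τ hτ) hge⟩).2
    obtain ⟨a, ha⟩ := hs ⟨⟨(c, 0), hc⟩, (memS 0 _).mpr (by simp)⟩
    have h1 : a.1.1.1 = c := congrArg (fun x : S 0 => x.1.1.1) ha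
    have h2 := a.1.2
    rw [show a.1.1 = (c, s • c) from Prod.ext h1 (by rw [(memS s _).mp a.2, h1])] at h2
    exact h2
  have same : ∀ c : W, (c, (0 : W)) ∈ A → ((0 : W), c) ∈ A := fun c hc => by
    have := A.sub_mem (slot 1 c hc) hc
    simpa using this
  have same' : ∀ c : W, ((0 : W), c) ∈ A → (c, (0 : W)) ∈ A := by
    intro c hc
    let τ : S 0 → S' := fun a => ⟨⟨(0, a.1.1.1), same _ (split _ a.1.2).1⟩, rfl⟩
    have hτ : Function.Injective τ := fun a b e => by
      have h1 : a.1.1.1 = b.1.1.1 := congrArg (fun x : S' => x.1.1.2) e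
      refine Subtype.ext (Subtype.ext (Prod.ext h1 ?_))
      rw [(memS 0 _).mp a.2, (memS 0 _).mp b.2, h1]
    obtain ⟨a, ha⟩ := ((Nat.bijective_iff_injective_and_card τ).mpr ⟨hτ, e1⟩).2 ⟨⟨(0, c), hc⟩, rfl⟩
    have h1 : a.1.1.1 = c := congrArg (fun x : S' => x.1.1.2) ha
    rw [← h1]; exact (split _ a.1.2).1
  let C : Submodule F W :=
    { carrier := {c | (c, (0 : W)) ∈ A}
      zero_mem' := A.zero_mem
      add_mem' := fun {a b} ha hb => by simpa using A.add_mem ha hb
      smul_mem' := fun s c hc => same' _ (by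
        have := A.sub_mem (slot s c hc) hc
        simpa using this) }
  exact ⟨C, fun a => ⟨fun ha => ⟨(split a ha).1, same' _ (split a ha).2⟩, fun ⟨h1, h2⟩ => by
    have := A.add_mem h1 (same _ h2)
    simpa using this⟩⟩

end Cfsg.Agent.MinIdxClassical
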