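import Cfsg.Agent.MinIdxClassical.Partner
import Cfsg.Agent.MinIdxClassical.Geometry

/-!
Linear Lagrangians over the field with two elements in dimension four of plus type (helper24).
-/

set_option autoImplicit false
set_option linter.unusedSectionVars false

namespace Cfsg.Agent.MinIdxClassical

open QuadraticMap Cfsg.Agent.UnitaryOrthogonal

variable {F : Type*} [Field F] [Finite F] {W : Type*} [AddCommGroup W] [Module F W] [Finite W]
variable {R : QuadraticForm F W}

/-- A self-adjoint map of order three commuting with each root element up to inversion does not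
exist on a plus space of dimension four. -/
theorem no_graph (hR : PolarND R) (hq : Nat.card F = 2) (hk : ¬ RankOK R) {M : W →ₗ[F] W}
    (hM : ∀ w, M (M w) = M w + w) (hsa : ∀ u w, polar R (M u) w = polar R u (M w))
    (hg : ∀ z v, R z = 0 → polar R z v = 0 →
      (∀ w, (eich R z v).1 (M w) = M ((eich R z v).1 w)) ∨
      ∀ w, (eich R z v).1 (M w) = M ((eich R z v).1 w) + (eich R z v).1 w) : False := by
  classical
  haveI := Module.finite_of_finite (R := F) (M := W)
  have h2 : (2 : F) = 0 := by
    haveI := Fintype.ofFinite F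
    have h := Nat.cast_card_eq_zero F
    rw [← Nat.card_eq_fintype_card, hq] at h
    exact_mod_cast h
  haveI : CharP F 2 := CharTwo.of_one_ne_zero_of_two_eq_zero one_ne_zero h2
  have neg : ∀ x : W, -x = x := fun x => by
    rw [neg_eq_iff_add_eq_zero, show x + x = (2 : F) • x by rw [two_smul], h2, zero_smul]
  simp only [RankOK, not_or, not_le, not_forall] at hk
  obtain ⟨hd, z, e, hz, hz0, hze, he, hne⟩ := hk
  obtain ⟨L, rfl, rfl⟩ := exists_frame hR (a := z) (b := e) ⟨hz, he, hze, hz0, fun h => hne (by
    obtain ⟨c, hc⟩ := Submodule.mem_span_singleton.mp h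
    exact ⟨c, hc.symm⟩)⟩
  -- the key values on an orthogonal singular pair
  have key : ∀ z e z' f : W, R z = 0 → R e = 0 → R z' = 0 → R f = 0 → polar R z e = 0 →
      polar R z f = 0 → polar R e z' = 0 → polar R z z' = 1 → polar R e f = 1 →
      polar R z (M z) = 0 ∧ polar R e (M z) = 1 := by
    intro z e z' f hz he hz' hf hze hzf hez' hzz' hef
    have hgap : ∀ x, (eich R z e).1 x = x + polar R z x • e + polar R e x • z := fun x => by
      rw [eich_apply hz hze, he, zero_mul, zero_smul, sub_zero, sub_eq_add_neg, neg]
    have hzz : polar R z z = 0 := by rw [polar_self_eq, hz, mul_zero]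
    have hez : polar R e z = 0 := by rw [polar_comm]; exact hze
    have hee : polar R e e = 0 := by rw [polar_self_eq, he, mul_zero]
    rcases hg z e hz hze with hc | hc
    · exfalso
      have E : ∀ x, polar R z (M x) • e + polar R e (M x) • z =
          polar R z x • M e + polar R e x • M z := fun x => by
        have h := hc x
        rw [hgap, hgap, map_add, map_add, map_smul, map_smul] at h
        linear_combination (norm := module) h
      have A1 := congrArg (polarBilin R f) (E z)
      have A2 := congrArg (polarBilin R z') (E z)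
      simp [hzz, hez, polar_comm R f e, hef, polar_comm R f z, hzf, polar_add_right,
        polar_smul_right, polar_comm R z' e, hez', polar_comm R z' z, hzz'] at A1 A2
      have B1 := congrArg (polarBilin R z') (E e)
      simp [hze, hee, polar_add_right, polar_smul_right, polar_comm R z' e, hez',
        polar_comm R z' z, hzz'] at B1
      have hMz := E f
      rw [hzf, hef, zero_smul, zero_add, one_smul] at hMz
      have hMe := E z'
      rw [hez', hzz', one_smul, zero_smul, add_zero] at hMe
      rw [← hsa z f, ← hsa e f] at hMz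
      rw [← hsa z z', ← hsa e z'] at hMe
      set α := polar R (M z) f
      set γ := polar R (M e) f
      set β := polar R (M z) z'
      set δ := polar R (M e) z'
      have hβγ : β = γ := by
        have := congrArg (polarBilin R z') hMz
        simp [polar_add_right, polar_smul_right, polar_comm R z' e, hez',
          polar_comm R z' z, hzz'] at this
        rw [show β = polar R z' (M z) from polar_comm R _ _]
        exact this.symm
      have hMM := hM z
      rw [← hMz, map_add, map_smul, map_smul, ← hMz, ← hMe, ← hβγ] at hMM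
      have c1 := congrArg (polarBilin R z') hMM
      have c2 := congrArg (polarBilin R f) hMM
      simp [polar_add_right, polar_smul_right, polar_comm R z' e, hez', polar_comm R z' z, hzz',
        polar_comm R f e, hef, polar_comm R f z, hzf] at c1 c2
      have hsq : β * β = β := by
        by_cases h0 : β = 0
        · simp [h0]
        · simp [eq_one_of_card_two hq h0]
      have hα0 : α = 0 := by linear_combination (α * β) * h2 - c2
      rw [hα0] at c1
      exact one_ne_zero (α := F) (by linear_combination hsq - c1)
    · have h := hc z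
      rw [hgap, hgap, hzz, hez] at h
      simp only [zero_smul, add_zero] at h
      have h' : polar R z (M z) • e + polar R e (M z) • z = z := by
        linear_combination (norm := module) h
      have A1 := congrArg (polarBilin R f) h'
      have A2 := congrArg (polarBilin R z') h'
      simp [polar_comm R f e, hef, polar_comm R f z, hzf, polar_add_right, polar_smul_right,
        polar_comm R z' e, hez', polar_comm R z' z, hzz'] at A1 A2
      exact ⟨A1, A2⟩
  obtain ⟨k1, k2⟩ := key L.x L.y L.x' L.y' L.qx L.qy L.qx' L.qy' L.xy L.xy' L.yx' L.xx' L.yy'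
  obtain ⟨-, k3⟩ := key L.x L.y' L.x' L.y L.qx L.qy' L.qx' L.qy L.xy' L.xy
    (by rw [polar_comm]; exact L.x'y') L.xx' (by rw [polar_comm]; exact L.yy')
  obtain ⟨j1, j2⟩ := key L.x' L.y L.x L.y' L.qx' L.qy L.qx L.qy'
    (by rw [polar_comm]; exact L.yx') L.x'y' (by rw [polar_comm]; exact L.xy)
    (by rw [polar_comm]; exact L.xx') L.yy'
  obtain ⟨-, j3⟩ := key L.x' L.y' L.x L.y L.qx' L.qy' L.qx L.qy L.x'y'
    (by rw [polar_comm]; exact L.yx') (by rw [polar_comm]; exact L.xy')
    (by rw [polar_comm]; exact L.xx') (by rw [polar_comm]; exact L.yy')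
  -- expansion in the frame
  have hW : ∀ x : W, x = polar R L.x' x • L.x + polar R L.x x • L.x' + polar R L.y' x • L.y +
      polar R L.y x • L.y' := by
    intro x
    refine (sub_eq_zero.mp ?_)
    set r := x - (polar R L.x' x • L.x + polar R L.x x • L.x' + polar R L.y' x • L.y +
      polar R L.y x • L.y') with hr
    have hrW : r ∈ L.W0 := L.mem_W0.mpr (by
      simp [hr, polar_sub_right, polar_add_right, polar_smul_right, polar_self_eq, L.qx, L.qy,
        L.qx', L.qy', L.xy, L.xy', L.yx', L.x'y', L.xx', L.yy', polar_comm R L.x' L.x,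
        polar_comm R L.y L.x, polar_comm R L.x' L.y, polar_comm R L.y' L.x, polar_comm R L.y' L.y,
        polar_comm R L.y' L.x'])
    have h0 : Module.finrank F L.W0 = 0 := by
      have h1 := OrthStab.finrank_perp₂ L.qx L.qx' L.xx'
      have hyP : L.y ∈ OrthStab.perp₂ R L.x L.x' :=
        OrthStab.mem_perp₂.mpr ⟨L.xy, by rw [polar_comm]; exact L.yx'⟩
      have hy'P : L.y' ∈ OrthStab.perp₂ R L.x L.x' := OrthStab.mem_perp₂.mpr ⟨L.xy', L.x'y'⟩
      have h2 := OrthStab.finrank_perp₂ (Q := R.comp (OrthStab.perp₂ R L.x L.x').subtype)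
        (a := ⟨L.y, hyP⟩) (b := ⟨L.y', hy'P⟩) L.qy L.qy' L.yy'
      let i : L.W0 →ₗ[F] OrthStab.perp₂ (R.comp (OrthStab.perp₂ R L.x L.x').subtype) ⟨L.y, hyP⟩
          ⟨L.y', hy'P⟩ :=
        { toFun := fun x => ⟨⟨x, x.2.1⟩, x.2.2⟩
          map_add' := fun _ _ => rfl
          map_smul' := fun _ _ => rfl }
      have h3 := LinearMap.finrank_le_finrank_of_injective (f := i) fun x y h =>
        Subtype.ext (congrArg (fun t => ((t.1 : OrthStab.perp₂ R L.x L.x') : W)) h)
      omega
    haveI : Subsingleton L.W0 := Module.finrank_zero_iff.mp h0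
    exact congrArg Subtype.val (Subsingleton.elim (⟨r, hrW⟩ : L.W0) 0)
  set μ := polar R L.x' (M L.x) with hμ
  have eMx : M L.x = μ • L.x + L.y + L.y' := by
    conv_lhs => rw [hW (M L.x)]
    rw [k1, k2, k3]
    module
  have eMx' : M L.x' = μ • L.x' + L.y + L.y' := by
    conv_lhs => rw [hW (M L.x')]
    rw [j1, j2, j3, show polar R L.x (M L.x') = μ by rw [hμ, ← hsa, polar_comm]]
    module
  have h1 := congrArg (polarBilin R L.x') (hM L.x)
  have h2' : polar R (M L.x') (M L.x) = μ + 1 := by
    rw [hsa]
    simpa [polar_add_right, polar_comm R L.x' L.x, L.xx', ← hμ] using h1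
  rw [eMx, eMx'] at h2'
  have hmm : μ * μ = μ := by
    by_cases h0 : μ = 0
    · simp [h0]
    · simp [eq_one_of_card_two hq h0]
  simp [polar_add_left, polar_add_right, polar_smul_left, polar_smul_right, polar_self_eq, h2,
    L.yy', L.xy, L.xy', L.xx', L.yx', L.x'y', polar_comm R L.x' L.x, polar_comm R L.y L.x,
    polar_comm R L.y' L.x, polar_comm R L.y' L.y, polar_comm R L.x' L.y, polar_comm R L.y' L.x'] at h2'
  exact one_ne_zero (α := F) (by linear_combination hmm - h2' + h2)

/-- **Over the field with two elements, in dimension four of plus type, an isotropic linear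
Lagrangian has a long orbit unless it is a square or a tensor.** -/
theorem orbit_lagrangian_plus (hR : PolarND R) (hd : 3 ≤ Module.finrank F W)
    (hq : Nat.card F = 2) (hk : ¬ RankOK R) {A : AddSubgroup (W × W)} (hl : Lin F A)
    (hiso : ∀ a ∈ A, ∀ b ∈ A, polar R b.2 a.1 = polar R a.2 b.1)
    (hcard : Nat.card A = Nat.card W) (hsq : ¬ IsSquare' F A) (hten : ¬ IsTensor F A) :
    Nat.card F + 2 ≤ Nat.card (orbSet R A) := by
  classical
  by_cases hI : ∃ M ∈ orbSet R A, Up M
  · exact orbit_of_up hR hd hl hcard hsq hten hI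
  simp only [not_exists, not_and] at hI
  haveI := Module.finite_of_finite (R := F) (M := W)
  haveI : Finite (AddSubgroup (W × W)) := Finite.of_injective _ SetLike.coe_injective
  have h2 : (2 : F) = 0 := by
    haveI := Fintype.ofFinite F
    have h := Nat.cast_card_eq_zero F
    rw [← Nat.card_eq_fintype_card, hq] at h
    exact_mod_cast h
  haveI : CharP F 2 := CharTwo.of_one_ne_zero_of_two_eq_zero one_ne_zero h2
  have neg : ∀ x : W, -x = x := fun x => by
    rw [neg_eq_iff_add_eq_zero, show x + x = (2 : F) • x by rw [two_smul], h2, zero_smul]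
  have linMem : ∀ M ∈ orbSet R A, Lin F M := by rintro _ ⟨Λ, rfl⟩; exact hl.mv _
  have neU : ∀ M ∈ orbSet R A, mv (upT (1 : F)) M ≠ M := fun M hM h =>
    hI M hM (up_of_fix (linMem M hM) one_ne_zero h)
  have neL : ∀ M ∈ orbSet R A, mv (loT (1 : F)) M ≠ M := fun M hM h =>
    hI _ (mv_mem_orbSet hM (wT_mem (R := R))) fun a ha => by
      have hLo := lo_of_fix (linMem M hM) one_ne_zero h
      rw [mem_mv, wT_symm_apply] at ha ⊢
      simpa using linMem M hM (-1) _ (hLo _ ha)
  have hA := self_mem_orbSet (R := R) A
  set A1 := mv (upT (1 : F)) A with hA1def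
  have hA1 : A1 ∈ orbSet R A := mv_mem_orbSet hA (upT_mem R (1 : F))
  have hUU : ∀ M : AddSubgroup (W × W), mv (upT (1 : F)) (mv (upT (1 : F)) M) = M := fun M => by
    rw [← mv_mul, upT_add, CharTwo.add_self_eq_zero, upT_zero, mv_one]
  by_contra hlt
  rw [hq, not_le] at hlt
  have two : ∀ M ∈ orbSet R A, M = A ∨ M = A1 := by
    intro M hM
    by_contra hcon
    obtain ⟨h1, h2'⟩ := not_or.mp hcon
    let f : Fin 4 → orbSet R A :=
      ![⟨A, hA⟩, ⟨A1, hA1⟩, ⟨M, hM⟩, ⟨_, mv_mem_orbSet hM (upT_mem R (1 : F))⟩]
    have n1 : A ≠ A1 := fun h => neU A hA h.symm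
    have n2 : mv (upT (1 : F)) M ≠ A := fun h => h2' (by rw [hA1def, ← h, hUU])
    have n3 : mv (upT (1 : F)) M ≠ A1 := fun h => h1 (by
      rw [← hUU M, h, hA1def, hUU])
    have hf : Function.Injective f := by
      intro i j h
      have h' := congrArg Subtype.val h
      fin_cases i <;> fin_cases j <;>
        first
        | rfl
        | simp [f, n1, n1.symm, h1, Ne.symm h1, h2', Ne.symm h2', n2, n2.symm, n3, n3.symm,
            neU M hM, (neU M hM).symm] at h'
    have := Nat.card_le_card_of_injective f hf
    rw [Nat.card_fin] at this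
    omega
  have mem1 : ∀ a : W × W, a ∈ A1 ↔ (a.1 + a.2, a.2) ∈ A := fun a => by
    rw [hA1def, mem_mv]
    simp [upT, LinearEquiv.coe_symm_mk']
  let C : Submodule F W :=
    { carrier := {c | (c, (0 : W)) ∈ A}
      zero_mem' := A.zero_mem
      add_mem' := fun {a b} ha hb => by simpa using A.add_mem ha hb
      smul_mem' := fun s c hc => by simpa using hl s _ hc }
  have hC : C = ⊥ := by
    by_contra hne
    have htop := eq_top_of_invariant hR hd hne fun z v hz hv c hc => by
      have hm : ((eich R z v).1 c, (0 : W)) ∈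
          mv ((eich R z v).1.prodCongr (eich R z v).1) A := by
        rw [mem_mv]; simp; exact hc
      rcases two _ (mv_mem_orbSet hA (diag_mem R hz hv)) with h | h
      · rw [h] at hm; exact hm
      · rw [h, mem1] at hm
        show ((eich R z v).1 c, (0 : W)) ∈ A
        simpa using hm
    exact hI A hA fun a _ => show a.2 ∈ C from htop ▸ trivial
  have hinj : Function.Injective fun a : A => a.1.2 := fun a b h => by
    have h' : a.1.1 - b.1.1 ∈ C := by
      have := A.sub_mem a.2 b.2
      show (a.1.1 - b.1.1, (0 : W)) ∈ A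
      convert! this using 1
      exact Prod.ext rfl (sub_eq_zero.mpr h).symm
    rw [hC, Submodule.mem_bot, sub_eq_zero] at h'
    exact Subtype.ext (Prod.ext h' h)
  have hsurj := ((Nat.bijective_iff_injective_and_card (fun a : A => a.1.2)).mpr ⟨hinj, hcard⟩).2
  choose m hm using hsurj
  have hmA : ∀ w, ((m w).1.1, w) ∈ A := fun w => by
    have := (m w).2
    rwa [show (m w).1 = ((m w).1.1, w) from Prod.ext rfl (hm w)] at this
  have uniq : ∀ a ∈ A, (m a.2).1.1 = a.1 := fun a ha =>
    congrArg (fun b : A => b.1.1) (hinj (a₁ := m a.2) (a₂ := ⟨a, ha⟩) (hm a.2))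
  let M : W →ₗ[F] W :=
    { toFun := fun w => (m w).1.1
      map_add' := fun v w => uniq _ (A.add_mem (hmA v) (hmA w))
      map_smul' := fun s w => uniq _ (hl s _ (hmA w)) }
  refine no_graph hR hq hk (M := M) (fun w => ?_) (fun u w => ?_) fun z v hz hv => ?_
  · have hT : mv (loT (1 : F)) A = A1 := (two _ (mv_mem_orbSet hA (loT_mem R (1 : F)))).resolve_left
      (neL A hA)
    have hb : loT (1 : F) (M w, w) ∈ A1 := by
      rw [← hT, mem_mv, LinearEquiv.symm_apply_apply]; exact hmA w
    rw [mem1] at hb
    simp [loT, sub_eq_add_neg, neg] at hb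
    have := uniq _ hb
    simp only at this
    rw [show M w + (w + M w) = w by
      rw [add_comm w (M w), ← add_assoc, show M w + M w = (2 : F) • M w by rw [two_smul], h2,
        zero_smul, zero_add]] at this
    have h3 : M (w + M w) = w := this
    rw [map_add] at h3
    calc M (M w) = M w + M (M w) + M w := by
          rw [add_right_comm, show M w + M w = (2 : F) • M w by rw [two_smul], h2, zero_smul,
            zero_add]
      _ = w + M w := by rw [h3]
      _ = _ := add_comm _ _
  · have h := hiso _ (hmA u) _ (hmA w)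
    show polar R (M u) w = polar R u (M w)
    rw [polar_comm R (M u) w]
    exact h
  · set g := (eich R z v).1
    have hmem : ∀ w, (g (M w), g w) ∈ mv (g.prodCongr g) A := fun w => by
      rw [mem_mv]; simp; exact hmA w
    rcases two _ (mv_mem_orbSet hA (diag_mem R hz hv)) with h | h
    · refine Or.inl fun w => ?_
      have := hmem w
      rw [h] at this
      exact (uniq _ this).symm
    · refine Or.inr fun w => ?_
      have := hmem w
      rw [h, mem1] at this
      have h3 : M (g w) = g (M w) + g w := uniq _ this
      rw [h3, add_assoc, show g w + g w = (2 : F) • g w by rw [two_smul], h2, zero_smul, add_zero]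

end Cfsg.Agent.MinIdxClassical
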