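import Cfsg.Agent.MinIdxClassical.LagrOrbit

/-!
Orbits of linear Lagrangian subgroups over the field with two elements (helper24).
-/

set_option autoImplicit false
set_option linter.unusedSectionVars false

namespace Cfsg.Agent.MinIdxClassical

open QuadraticMap Cfsg.Agent.UnitaryOrthogonal

variable {F : Type*} [Field F] [Finite F] {W : Type*} [AddCommGroup W] [Module F W] [Finite W]
variable {R : QuadraticForm F W}

/-- Every vector of value one orthogonal to a singular `z` has a partner. -/
def HasPartner (R : QuadraticForm F W) : Prop :=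
  ∀ z v, R z = 0 → z ≠ 0 → polar R z v = 0 → R v = 1 →
    ∃ v', polar R z v' = 0 ∧ R v' = 1 ∧ polar R v v' = 1

/-- Every singular vector orthogonal to `z` is a sum of two vectors of value one. -/
def SumOnes (R : QuadraticForm F W) : Prop :=
  ∀ z v, R z = 0 → z ≠ 0 → polar R z v = 0 → R v = 0 →
    (∃ c : F, v = c • z) ∨ ∃ u, polar R z u = 0 ∧ R u = 1 ∧ R (v + u) = 1

theorem eq_one_of_card_two (hq : Nat.card F = 2) {t : F} (h : t ≠ 0) : t = 1 := by
  haveI := Fintype.ofFinite F
  have h1 := FiniteField.pow_card_sub_one_eq_one t h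
  rw [← Nat.card_eq_fintype_card, hq] at h1
  simpa using h1

theorem diag_add {z v v' : W} (hz : R z = 0) (hv : polar R z v = 0) (hv' : polar R z v' = 0) :
    (eich R z (v + v')).1.prodCongr (eich R z (v + v')).1 =
      (eich R z v).1.prodCongr (eich R z v).1 * (eich R z v').1.prodCongr (eich R z v').1 := by
  rw [← eich_mul hz hv hv']
  ext a <;> simp [LinearEquiv.mul_apply]

theorem diag_mul (g h : orth R) :
    (g * h).1.prodCongr (g * h).1 = g.1.prodCongr g.1 * h.1.prodCongr h.1 := by
  ext a <;> simp [LinearEquiv.mul_apply]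

/-- **A linear Lagrangian over the field with two elements has an orbit of length at least four
unless it is a square or a tensor.** -/
theorem orbit_lagrangian_two (hR : PolarND R) (hd : 3 ≤ Module.finrank F W)
    (hq : Nat.card F = 2) (hP : HasPartner R) (hS : SumOnes R)
    {A : AddSubgroup (W × W)} (hl : Lin F A) (hcard : Nat.card A = Nat.card W)
    (hsq : ¬ IsSquare' F A) (hten : ¬ IsTensor F A) :
    Nat.card F + 2 ≤ Nat.card (orbSet R A) := by
  classical
  by_cases hI : ∃ M ∈ orbSet R A, Up M
  · exact orbit_of_up hR hd hl hcard hsq hten hI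
  simp only [not_exists, not_and] at hI
  haveI : Finite (AddSubgroup (W × W)) := Finite.of_injective _ SetLike.coe_injective
  have h2 : (2 : F) = 0 := by
    haveI := Fintype.ofFinite F
    have h := Nat.cast_card_eq_zero F
    rw [← Nat.card_eq_fintype_card, hq] at h
    exact_mod_cast h
  haveI : CharP F 2 := CharTwo.of_one_ne_zero_of_two_eq_zero one_ne_zero h2
  have linMem : ∀ M ∈ orbSet R A, Lin F M := by rintro _ ⟨Λ, rfl⟩; exact hl.mv _
  have neU : ∀ M ∈ orbSet R A, mv (upT (1 : F)) M ≠ M := fun M hM h =>
    hI M hM (up_of_fix (linMem M hM) one_ne_zero h)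
  have neL : ∀ M ∈ orbSet R A, mv (loT (1 : F)) M ≠ M := fun M hM h =>
    hI _ (mv_mem_orbSet hM (wT_mem (R := R))) fun a ha => by
      have hLo := lo_of_fix (linMem M hM) one_ne_zero h
      rw [mem_mv, wT_symm_apply] at ha ⊢
      simpa using linMem M hM (-1) _ (hLo _ ha)
  have hA := self_mem_orbSet (R := R) A
  set A1 := mv (upT (1 : F)) A with hA1def
  have hA1 : A1 ∈ orbSet R A := mv_mem_orbSet hA (upT_mem R (1 : F))
  have hUU : ∀ M : AddSubgroup (W × W), mv (upT (1 : F)) (mv (upT (1 : F)) M) = M := fun M => by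
    rw [← mv_mul, upT_add, CharTwo.add_self_eq_zero, upT_zero, mv_one]
  by_contra hlt
  rw [hq, not_le] at hlt
  -- the orbit has two members
  have two : ∀ M ∈ orbSet R A, M = A ∨ M = A1 := by
    intro M hM
    by_contra hcon
    obtain ⟨h1, h2'⟩ := not_or.mp hcon
    let f : Fin 4 → orbSet R A :=
      ![⟨A, hA⟩, ⟨A1, hA1⟩, ⟨M, hM⟩, ⟨_, mv_mem_orbSet hM (upT_mem R (1 : F))⟩]
    have n1 : A ≠ A1 := fun h => neU A hA h.symm
    have n2 : mv (upT (1 : F)) M ≠ A := fun h => h2' (by rw [hA1def, ← h, hUU])
    have n3 : mv (upT (1 : F)) M ≠ A1 := fun h => h1 (by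
      rw [← hUU M, h, hA1def, hUU])
    have hf : Function.Injective f := by
      intro i j h
      have h' := congrArg Subtype.val h
      fin_cases i <;> fin_cases j <;>
        first
        | rfl
        | simp [f, n1, n1.symm, h1, Ne.symm h1, h2', Ne.symm h2', n2, n2.symm, n3, n3.symm,
            neU M hM, (neU M hM).symm] at h'
    have := Nat.card_le_card_of_injective f hf
    rw [Nat.card_fin] at this
    omega
  -- fixing `A` is invariant under conjugation and multiplicative
  have cancel : ∀ {Λ : (W × W) ≃ₗ[F] (W × W)} {M N : AddSubgroup (W × W)},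
      mv Λ M = mv Λ N → M = N := by
    intro Λ M N h
    have := congrArg (mv Λ⁻¹) h
    rwa [← mv_mul, ← mv_mul, inv_mul_cancel, mv_one, mv_one] at this
  have other : ∀ {Λ : (W × W) ≃ₗ[F] (W × W)}, Λ ∈ pairGroup R → mv Λ A = A → mv Λ A1 = A1 := by
    intro Λ hΛ h
    rcases two _ (mv_mem_orbSet hA1 hΛ) with h' | h'
    · exfalso
      exact neU A hA (cancel (h'.trans h.symm))
    · exact h'
  have swap : ∀ {Λ : (W × W) ≃ₗ[F] (W × W)}, Λ ∈ pairGroup R → mv Λ A ≠ A →
      mv Λ A = A1 ∧ mv Λ A1 = A := by
    intro Λ hΛ h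
    have h1 := (two _ (mv_mem_orbSet hA hΛ)).resolve_left h
    refine ⟨h1, (two _ (mv_mem_orbSet hA1 hΛ)).resolve_right fun h' => ?_⟩
    exact neU A hA (cancel (h'.trans h1.symm))
  let D : W → W → (W × W) ≃ₗ[F] (W × W) := fun z v => (eich R z v).1.prodCongr (eich R z v).1
  let Fix : W → W → Prop := fun z v => mv (D z v) A = A
  have hDm : ∀ {z v}, R z = 0 → polar R z v = 0 → D z v ∈ pairGroup R := fun hz hv =>
    diag_mem R hz hv
  have fix_add : ∀ {z v v'}, R z = 0 → polar R z v = 0 → polar R z v' = 0 →
      (Fix z v ↔ Fix z v') → Fix z (v + v') := by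
    intro z v v' hz hv hv' h
    show mv (D z (v + v')) A = A
    rw [show D z (v + v') = D z v * D z v' from diag_add hz hv hv', mv_mul]
    by_cases h' : Fix z v'
    · rw [h']; exact h.mpr h'
    · rw [(swap (hDm hz hv') h').1]
      exact (swap (hDm hz hv) fun e => h' (h.mp e)).2
  have fix_conj : ∀ {g : orth R} {z v}, g.1.prodCongr g.1 ∈ pairGroup R → R z = 0 →
      polar R z v = 0 → (Fix (g.1 z) (g.1 v) ↔ Fix z v) := by
    intro g z v hg hz hv
    set Λ := g.1.prodCongr g.1
    have e : D (g.1 z) (g.1 v) * Λ = Λ * D z v := by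
      show (eich R (g.1 z) (g.1 v)).1.prodCongr (eich R (g.1 z) (g.1 v)).1 * _ = _
      rw [← conj_eich, ← diag_mul, ← diag_mul, inv_mul_cancel_right]
    have e' := congrArg (fun T => mv T A) e
    simp only [mv_mul] at e'
    have hm : D (g.1 z) (g.1 v) ∈ pairGroup R :=
      hDm (by rw [map_form, hz]) (by rw [map_polar, hv])
    by_cases hgA : mv Λ A = A
    · rw [hgA] at e'
      constructor <;> intro h
      · by_contra h'
        rw [(swap (hDm hz hv) h').1, other hg hgA] at e'
        exact neU A hA (e'.symm.trans h)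
      · show mv _ A = A
        rw [e', h, hgA]
    · obtain ⟨g1, g2⟩ := swap hg hgA
      rw [g1] at e'
      constructor <;> intro h
      · by_contra h'
        rw [(swap (hDm hz hv) h').1, g2, other hm h] at e'
        exact neU A hA e'
      · by_contra h'
        rw [h, g1, (swap hm h').2] at e'
        exact neU A hA e'.symm
  have fix_one : ∀ z v, R z = 0 → z ≠ 0 → polar R z v = 0 → R v = 1 → Fix z v := by
    intro z v hz hz0 hv hvQ
    obtain ⟨w, hw, hwQ, hvw⟩ := hP z v hz hz0 hv hvQ
    obtain ⟨z₁, hz₁, hzz₁⟩ := exists_pair hR.nonsing hz hz0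
    set α := polar R w z₁ with hα
    set β := polar R v z₁ with hβ
    set y := z₁ + α • v + β • w with hy
    have hz₁z : polar R z₁ z = 1 := by rw [polar_comm, hzz₁]
    have hwv : polar R w v = 1 := by rw [polar_comm]; exact hvw
    have hvv : polar R v v = 0 := by rw [polar_self_eq, h2, zero_mul]
    have hww : polar R w w = 0 := by rw [polar_self_eq, h2, zero_mul]
    have p1 : polar R z y = 1 := by simp [hy, polar_add_right, polar_smul_right, hzz₁, hv, hw]
    have p2 : polar R v y = 0 := by
      simp [hy, polar_add_right, polar_smul_right, hvv, hvw, ← hβ, CharTwo.add_self_eq_zero]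
    have p3 : polar R w y = 0 := by
      simp [hy, polar_add_right, polar_smul_right, hww, hwv, ← hα, CharTwo.add_self_eq_zero]
    set z' := y + R y • z with hz'
    have hz'Q : R z' = 0 := by
      simp [hz', form_add, form_smul, hz, polar_smul_right, polar_comm R y z, p1,
        CharTwo.add_self_eq_zero]
    set c := z + z' with hc
    have hzz' : polar R z z' = 1 := by
      simp [hz', polar_add_right, polar_smul_right, p1, polar_self_eq, hz]
    have hcQ : R c = 1 := by simp [hc, form_add, hz, hz'Q, hzz']
    have hcv : polar R v c = 0 := by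
      simp [hc, hz', polar_add_right, polar_smul_right, p2, polar_comm R v z, hv]
    have hcw : polar R w c = 0 := by
      simp [hc, hz', polar_add_right, polar_smul_right, p3, polar_comm R w z, hw]
    have pr : ∀ a b, R a = 1 → R b = 1 → polar R a b = 0 →
        (rf R a * rf R b).1.prodCongr (rf R a * rf R b).1 ∈ pairGroup R := by
      intro a b ha hb hab
      have hu : R (a + b) = 0 := by simp [form_add, ha, hb, hab, CharTwo.add_self_eq_zero]
      have hua : polar R (a + b) a = 0 := by
        simp [polar_add_left, polar_self_eq, h2, polar_comm R b a, hab]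
      have e := eich_eq_rf_mul_rf hu hua (by rw [ha]; exact one_ne_zero)
      rw [ha, one_smul, show a + (a + b) = b by
        rw [← add_assoc, show a + a = (2 : F) • a by rw [two_smul], h2, zero_smul, zero_add]] at e
      rw [← e]
      exact diag_mem R hu hua
    set g := rf R v * rf R w with hg
    have hgm : g.1.prodCongr g.1 ∈ pairGroup R := by
      rw [show g = (rf R v * rf R c) * (rf R c * rf R w) by
        rw [hg, mul_assoc, ← mul_assoc (rf R c), rf_mul_self, one_mul], diag_mul]
      exact mul_mem (pr v c hvQ hcQ hcv) (pr c w hcQ hwQ (by rw [polar_comm]; exact hcw))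
    have neg : ∀ x : W, -x = x := fun x => by
      rw [neg_eq_iff_add_eq_zero, show x + x = (2 : F) • x by rw [two_smul], h2, zero_smul]
    have gz : g.1 z = z := by
      simp [hg, rf_apply, polar_comm R w z, polar_comm R v z, hv, hw]
    have gv : g.1 v = w := by
      rw [hg, coe_mul_apply, rf_apply, rf_apply]
      simp [hwQ, hvQ, hwv, hvw, polar_sub_right, hvv]
      have d0 : ∀ x : W, x + x = 0 := fun x => by rw [← sub_neg_eq_add, neg, sub_self]
      linear_combination (norm := abel) d0 v - d0 w
    have gw : g.1 w = v + w := by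
      rw [hg, coe_mul_apply, rf_apply_self (by rw [hwQ]; exact one_ne_zero), neg, rf_apply]
      simp [hvQ, hvw, sub_eq_add_neg, neg, add_comm]
    have iff1 : Fix z w ↔ Fix z v := by
      have := fix_conj hgm hz hv
      rwa [gz, gv] at this
    have iff2 : Fix z (v + w) ↔ Fix z w := by
      have := fix_conj hgm hz hw
      rwa [gz, gw] at this
    exact iff1.mp (iff2.mp (fix_add hz hv hw iff1.symm))
  have fixAll : ∀ z v, R z = 0 → polar R z v = 0 → Fix z v := by
    intro z v hz hv
    have ftriv : ∀ {z v}, eich R z v = 1 → Fix z v := fun {z v} h => by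
      show mv ((eich R z v).1.prodCongr (eich R z v).1) A = A
      rw [h, show ((1 : orth R).1.prodCongr (1 : orth R).1) = 1 by ext a <;> simp, mv_one]
    by_cases hz0 : z = 0
    · subst hz0
      refine ftriv (orth_ext fun x => ?_)
      rw [eich_apply (QuadraticMap.map_zero R) (QuadraticMap.polar_zero_left R _)]
      simp
    by_cases hvQ : R v = 0
    · rcases hS z v hz hz0 hv hvQ with ⟨c, rfl⟩ | ⟨u, hu, huQ, hvu⟩
      · refine ftriv ?_
        have := eich_add_smul hz (QuadraticMap.polar_zero_right R z) c
        rwa [zero_add, eich_zero] at this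
      · have h1 := fix_one z u hz hz0 hu huQ
        have hvu' : polar R z (v + u) = 0 := by rw [polar_add_right, hv, hu, add_zero]
        have h2' := fix_one z (v + u) hz hz0 hvu' hvu
        have := fix_add hz hvu' hu (iff_of_true h2' h1)
        rwa [add_assoc, show u + u = (2 : F) • u by rw [two_smul], h2, zero_smul, add_zero] at this
    · exact fix_one z v hz hz0 hv (eq_one_of_card_two hq hvQ)
  have hinv : ∀ z v, R z = 0 → polar R z v = 0 → ∀ a ∈ A,
      ((eich R z v).1 a.1, (eich R z v).1 a.2) ∈ A := fun z v hz hv a ha => by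
    rw [← fixAll z v hz hv, mem_mv]
    simpa [D] using ha
  let C : Submodule F W :=
    { carrier := {c | (c, (0 : W)) ∈ A}
      zero_mem' := A.zero_mem
      add_mem' := fun {a b} ha hb => by simpa using A.add_mem ha hb
      smul_mem' := fun s c hc => by simpa using hl s _ hc }
  have hC : C = ⊥ := by
    by_contra hne
    have htop := eq_top_of_invariant hR hd hne fun z v hz hv c hc => by
      have := hinv z v hz hv _ hc
      show ((eich R z v).1 c, (0 : W)) ∈ A
      simpa using this
    exact hI A hA fun a _ => show a.2 ∈ C from htop ▸ trivial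
  have hinj : Function.Injective fun a : A => a.1.2 := fun a b h => by
    have h' : a.1.1 - b.1.1 ∈ C := by
      have := A.sub_mem a.2 b.2
      show (a.1.1 - b.1.1, (0 : W)) ∈ A
      convert! this using 1
      exact Prod.ext rfl (sub_eq_zero.mpr h).symm
    rw [hC, Submodule.mem_bot, sub_eq_zero] at h'
    exact Subtype.ext (Prod.ext h' h)
  have hsurj := ((Nat.bijective_iff_injective_and_card (fun a : A => a.1.2)).mpr ⟨hinj, hcard⟩).2
  obtain ⟨z, -, hz0, hz⟩ := OrthStab.exists_singular_mem (Q := R) ⊤ (by rwa [finrank_top])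
  obtain ⟨⟨⟨x, z₀⟩, hxA⟩, hxz⟩ := hsurj z
  simp only at hxz
  subst hxz
  -- the preimage of a singular vector is fixed by its root elements
  have hfx : ∀ v, polar R z₀ v = 0 → (eich R z₀ v).1 x = x := fun v hv => by
    have h := hinv z₀ v hz hv _ hxA
    have hz' : (eich R z₀ v).1 z₀ = z₀ := by
      rw [eich_apply hz hv]
      simp [polar_self_eq, hz, polar_comm R v z₀, hv]
    simp only [hz'] at h
    exact congrArg (fun a : A => a.1.1) (hinj (a₁ := ⟨_, h⟩) (a₂ := ⟨_, hxA⟩) rfl)
  obtain ⟨z', hz', hzz'⟩ := exists_pair hR.nonsing hz hz0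
  have hz'z : polar R z' z₀ = 1 := by rw [polar_comm]; exact hzz'
  have hx0 : polar R z₀ x = 0 := by
    by_contra hne
    have hP : 0 < Module.finrank F (OrthStab.perp₂ R z₀ z') := by
      haveI := Module.finite_of_finite (R := F) (M := W)
      have := OrthStab.finrank_perp₂ hz hz' hzz'; omega
    haveI := Module.nontrivial_of_finrank_pos hP
    obtain ⟨v, hv⟩ := exists_ne (0 : OrthStab.perp₂ R z₀ z')
    obtain ⟨hv1, hv2⟩ := OrthStab.mem_perp₂.mp v.2
    have h := hfx v hv1
    rw [eich_apply hz hv1] at h
    have e : polar R z₀ x • (v : W) =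
        (polar R (v : W) x + R (v : W) * polar R z₀ x) • z₀ := by
      linear_combination (norm := module) h
    have e2 := congrArg (polarBilin R z') e
    simp [hv2, hz'z] at e2
    rw [← e2, zero_smul, smul_eq_zero] at e
    exact hv (Subtype.ext (e.resolve_left hne))
  have hperp : ∀ v, polar R z₀ v = 0 → polar R v x = 0 := fun v hv => by
    have h := hfx v hv
    rw [eich_apply hz hv, hx0] at h
    simp at h
    exact h.resolve_right hz0
  have hx : x = polar R z' x • z₀ := by
    refine sub_eq_zero.mp (hR _ fun u => ?_)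
    have h := hperp (u - polar R z₀ u • z') (by simp [polar_sub_right, polar_smul_right, hzz'])
    simp [polar_sub_left, polar_smul_left] at h
    simp [polar_sub_left, polar_smul_left, polar_comm R x u, polar_comm R z₀ u] at h ⊢
    linear_combination h
  -- the element of order three
  have hT : mv (loT (1 : F)) A = A1 := by
    rcases two _ (mv_mem_orbSet hA (loT_mem R (1 : F))) with h | h
    · exact absurd h (neL A hA)
    · exact h
  have hb : loT (1 : F) (x, z₀) ∈ A1 := by
    rw [← hT, mem_mv, LinearEquiv.symm_apply_apply]; exact hxA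
  rw [hA1def, mem_mv] at hb
  simp [upT, loT, LinearEquiv.coe_symm_mk'] at hb
  have neg : ∀ y : W, -y = y := fun y => by
    rw [neg_eq_iff_add_eq_zero, show y + y = (2 : F) • y by rw [two_smul], h2, zero_smul]
  by_cases ht : polar R z' x = 0
  · rw [ht, zero_smul] at hx
    subst hx
    simp at hb
    have h := A.sub_mem hb hxA
    have : z₀ ∈ C := by
      show (z₀, (0 : W)) ∈ A
      simpa using h
    rw [hC, Submodule.mem_bot] at this
    exact hz0 this
  · rw [eq_one_of_card_two hq ht, one_smul] at hx
    subst hx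
    simp at hb
    have : x ∈ C := hb
    rw [hC, Submodule.mem_bot] at this
    exact hz0 this

end Cfsg.Agent.MinIdxClassical
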