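import Cfsg.Agent.MinIdxClassical.Realise
import Cfsg.Agent.MinIdxClassical.LagrPlus
import Mathlib.FieldTheory.Finite.Basic

/-!
The bound on the index coming from one line whose root group is not contained (helper24).
-/

set_option autoImplicit false
set_option linter.unusedSectionVars false

namespace Cfsg.Agent.MinIdxClassical

open QuadraticMap Cfsg.Agent.UnitaryOrthogonal

variable {F : Type*} [Field F] [Finite F]

/-- The scalar multiples of a proper non-zero additive subgroup. -/
theorem scalar_orbit {B : AddSubgroup F} (h0 : B ≠ ⊥) (h1 : B ≠ ⊤) :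
    (Nat.card F + 2) * Nat.card B ≤
      Nat.card (Set.range fun l : Fˣ => {c : F | (l⁻¹ : Fˣ) * c ∈ B}) * Nat.card F := by
  classical
  haveI := Fintype.ofFinite F
  obtain ⟨b, hb, hb0⟩ : ∃ b ∈ B, b ≠ 0 := by
    by_contra hcon
    simp only [not_exists, not_and, not_not] at hcon
    exact h0 ((AddSubgroup.eq_bot_iff_forall B).mpr hcon)
  obtain ⟨c, hc⟩ : ∃ c, c ∉ B := by
    by_contra hcon
    simp only [not_exists, not_not] at hcon
    exact h1 (eq_top_iff.mpr fun c _ => hcon c)
  let K : AddSubgroup F :=
    { carrier := {k | ∀ x ∈ B, k * x ∈ B}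
      zero_mem' := fun x _ => by rw [zero_mul]; exact B.zero_mem
      add_mem' := fun hk hk' x hx => by rw [add_mul]; exact B.add_mem (hk x hx) (hk' x hx)
      neg_mem' := fun hk x hx => by rw [neg_mul]; exact B.neg_mem (hk x hx) }
  set q := Nat.card F
  set u := Nat.card K
  have hub : u ≤ Nat.card B := Nat.card_le_card_of_injective (fun k : K => (⟨k * b, k.2 b hb⟩ : B))
    fun k k' h => Subtype.ext (mul_right_cancel₀ hb0 (congrArg Subtype.val h))
  have hKB : u * Nat.card B ≤ q := by
    rw [← Nat.card_prod]
    refine Nat.card_le_card_of_injective (fun p : K × B => (p.1 : F) * c + p.2) fun p p' h => ?_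
    have hk : p.1 = p'.1 := by
      by_contra hne
      have hk0 : ((p.1 - p'.1 : K) : F) ≠ 0 := by
        simpa [sub_eq_zero] using fun e => hne (Subtype.ext e)
      let m : B → B := fun x => ⟨((p.1 - p'.1 : K) : F) * x, (p.1 - p'.1).2 x x.2⟩
      have hm : Function.Injective m := fun x y e =>
        Subtype.ext (mul_left_cancel₀ hk0 (congrArg Subtype.val e))
      obtain ⟨x, hx⟩ := Finite.surjective_of_injective hm (p'.2 - p.2)
      have hxc : ((p.1 - p'.1 : K) : F) * x = ((p.1 - p'.1 : K) : F) * c := by
        have e : ((p.1 - p'.1 : K) : F) * x = (p'.2 : F) - p.2 := congrArg Subtype.val hx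
        rw [e, AddSubgroup.coe_sub]
        simp only at h
        linear_combination -h
      exact hc (mul_left_cancel₀ hk0 hxc ▸ x.2)
    refine Prod.ext hk ?_
    simpa [hk] using h
  have hu0 : 0 < u := Nat.card_pos
  set f : Fˣ → Set F := fun l => {c : F | (l⁻¹ : Fˣ) * c ∈ B}
  set N := Nat.card (Set.range f)
  have hfib : q - 1 ≤ N * (u - 1) := by
    have hK1 : (1 : F) ∈ K := fun x hx => by rwa [one_mul]
    have hu : Fintype.card {k : K // k ≠ 0} = u - 1 := by
      rw [Fintype.card_subtype_compl, Fintype.card_subtype_eq, ← Nat.card_eq_fintype_card]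
    have hN : N = (Finset.univ.image f).card := by
      rw [show N = Nat.card (Set.range f) from rfl, Nat.card_eq_fintype_card,
        ← Set.toFinset_card, Set.toFinset_range]
    rw [hN, mul_comm]
    calc q - 1 = (Finset.univ : Finset Fˣ).card := by
          rw [Finset.card_univ, ← Nat.card_eq_fintype_card, Nat.card_units]
      _ ≤ (u - 1) * (Finset.univ.image f).card := by
          refine Finset.card_le_mul_card_image _ _ fun s hs => ?_
          obtain ⟨l₀, -, rfl⟩ := Finset.mem_image.mp hs
          rw [← hu, ← Fintype.card_coe]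
          refine Fintype.card_le_of_injective (fun l => ⟨⟨(l₀⁻¹ * l.1 : Fˣ), fun x hx => ?_⟩,
            fun h => (l₀⁻¹ * l.1).ne_zero (congrArg Subtype.val h)⟩) fun l l' h => ?_
          · have he : f l.1 = f l₀ := (Finset.mem_filter.mp l.2).2
            have hm : (l.1 : F) * x ∈ f l.1 := by
              show ((l.1⁻¹ : Fˣ) : F) * ((l.1 : F) * x) ∈ B
              rwa [← mul_assoc, Units.inv_mul, one_mul]
            rw [he] at hm
            rw [Units.val_mul, mul_assoc]
            exact hm
          · exact Subtype.ext (mul_left_cancel (Units.ext (congrArg (fun k => (k.1 : F)) h)))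
  have hu2 : u * u ≤ q := (Nat.mul_le_mul_left u hub).trans hKB
  rcases Nat.lt_or_ge u 2 with h | h
  · have : u = 1 := by omega
    rw [this, Nat.sub_self, mul_zero] at hfib
    have : 1 < q := Finite.one_lt_card
    omega
  · have hu3 : 3 * u ≤ q + 2 := by nlinarith
    have key : (q + 2) * (u - 1) ≤ (q - 1) * u := by
      have h1 : 1 ≤ q := by omega
      zify [h1, (by omega : 1 ≤ u)]
      nlinarith
    have hfinal : (q + 2) * Nat.card B * (u - 1) ≤ N * q * (u - 1) := by
      calc (q + 2) * Nat.card B * (u - 1) = (q + 2) * (u - 1) * Nat.card B := by ring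
        _ ≤ (q - 1) * u * Nat.card B := Nat.mul_le_mul_right _ key
        _ = (q - 1) * (u * Nat.card B) := by ring
        _ ≤ (q - 1) * q := Nat.mul_le_mul_left _ hKB
        _ ≤ N * (u - 1) * q := Nat.mul_le_mul_right _ hfib
        _ = _ := by ring
    exact Nat.le_of_mul_le_mul_right hfinal (by omega)

variable {V : Type*} [AddCommGroup V] [Module F V] [Finite V] {Q : QuadraticForm F V}
variable {L : LineFrame Q}

theorem lin_of_card {A : AddSubgroup (L.W0 × L.W0)} (hR : PolarND L.form)
    (hA : ∀ a ∈ A, ∀ b ∈ A, bet L a b = 0) (hc : Nat.card A = Nat.card L.W0) : Lin F A := by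
  let S : Submodule F (L.W0 × L.W0) := Submodule.span F (A : Set (L.W0 × L.W0))
  have hS : ∀ a ∈ S, ∀ b ∈ S, bet L a b = 0 := by
    intro a ha b hb
    induction ha using Submodule.span_induction with
    | mem a ha =>
      induction hb using Submodule.span_induction with
      | mem b hb => exact hA a ha b hb
      | zero => simp [bet]
      | add b b' _ _ h h' =>
        simp only [bet, Prod.fst_add, Prod.snd_add, Submodule.coe_add, polar_add_left,
          polar_add_right] at h h' ⊢
        linear_combination h + h'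
      | smul s b _ h =>
        simp only [bet, Prod.smul_fst, Prod.smul_snd, Submodule.coe_smul, polar_smul_left,
          polar_smul_right, smul_eq_mul] at h ⊢
        linear_combination s * h
    | zero => simp [bet]
    | add a a' _ _ h h' =>
      simp only [bet, Prod.fst_add, Prod.snd_add, Submodule.coe_add, polar_add_left,
        polar_add_right] at h h' ⊢
      linear_combination h + h'
    | smul s a _ h =>
      simp only [bet, Prod.smul_fst, Prod.smul_snd, Submodule.coe_smul, polar_smul_left,
        polar_smul_right, smul_eq_mul] at h ⊢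
      linear_combination s * h
  have h := card_sq_le hR (B := ⊥) (bot_ne_top) (A := S.toAddSubgroup) fun a ha b hb => by
    rw [AddSubgroup.mem_bot]; exact hS a ha b hb
  have hle : A ≤ S.toAddSubgroup := Submodule.subset_span
  have he := AddSubgroup.eq_of_le_of_card_ge hle (by rw [hc]; exact Nat.mul_self_le_mul_self_iff.mp h)
  intro s a ha
  rw [he] at ha ⊢
  exact S.smul_mem s ha

/-- A proper non-zero square is moved. -/
theorem two_le_orbit {W : Type*} [AddCommGroup W] [Module F W] [Finite W]
    {R : QuadraticForm F W} (hR : PolarND R) (hd : 3 ≤ Module.finrank F W)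
    {A : AddSubgroup (W × W)} {C : Submodule F W} (hC : ∀ a, a ∈ A ↔ a.1 ∈ C ∧ a.2 ∈ C)
    (h0 : C ≠ ⊥) (h1 : C ≠ ⊤) : 2 ≤ Nat.card (orbSet R A) := by
  haveI : Finite (AddSubgroup (W × W)) := Finite.of_injective _ SetLike.coe_injective
  obtain ⟨z, v, c, hz, hv, hc, hne⟩ : ∃ z v c, R z = 0 ∧ polar R z v = 0 ∧ c ∈ C ∧
      (eich R z v).1 c ∉ C := by
    by_contra hcon
    simp only [not_exists, not_and, not_not] at hcon
    exact h1 (eq_top_of_invariant hR hd h0 fun z v hz hv c hc => hcon z v c hz hv hc)
  let f : Bool → orbSet R A := fun b => cond b ⟨A, self_mem_orbSet A⟩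
    ⟨_, mv_mem_orbSet (self_mem_orbSet A) (diag_mem R hz hv)⟩
  have hne' : mv ((eich R z v).1.prodCongr (eich R z v).1) A ≠ A := fun h => by
    have hm : ((eich R z v).1 c, (0 : W)) ∈ mv ((eich R z v).1.prodCongr (eich R z v).1) A := by
      rw [mem_mv, hC]; simp [hc]
    rw [h, hC] at hm
    exact hne hm.1
  have hf : Function.Injective f := by
    intro b b' h
    cases b <;> cases b' <;> simp [f, hne', Ne.symm hne'] at h ⊢
  have := Nat.card_le_card_of_injective f hf
  rwa [Nat.card_eq_fintype_card, Fintype.card_bool] at this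

/-- The trace on the Heisenberg group is a twisted tensor. -/
def Pinned (L : LineFrame Q) (H : Subgroup (orth Q)) : Prop :=
  cenB L H = ⊥ ∧ ∃ α β : F, (α ≠ 0 ∨ β ≠ 0) ∧
    (∀ a, a ∈ imA L H ↔ ∃ w : L.W0, a = (α • w, β • w)) ∧
    ∃ ψ : L.W0 →ₗ[F] F, ∀ w : L.W0, el L (α • w, β • w) (ψ w - α * β * Q (w : V)) ∈ H

/-- The trace is a square on a totally singular plane, in dimension eight. -/
def Exceptional (L : LineFrame Q) (H : Subgroup (orth Q)) : Prop :=
  cenB L H = ⊥ ∧ Module.finrank F L.W0 = 4 ∧ ∃ C : Submodule F L.W0, Module.finrank F C = 2 ∧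
    (∀ c ∈ C, Q (c : V) = 0) ∧ ∀ a, a ∈ imA L H ↔ a.1 ∈ C ∧ a.2 ∈ C

theorem card_orbit_tensor {W : Type*} [AddCommGroup W] [Module F W] [Finite W] [Nontrivial W]
    {R : QuadraticForm F W} {A : AddSubgroup (W × W)} {α β : F} (h : α ≠ 0 ∨ β ≠ 0)
    (hA : ∀ a, a ∈ A ↔ ∃ w : W, a = (α • w, β • w)) :
    Nat.card F + 1 ≤ Nat.card (orbSet R A) := by
  haveI : Finite (AddSubgroup (W × W)) := Finite.of_injective _ SetLike.coe_injective
  obtain ⟨M, hM, hMA⟩ : ∃ M ∈ orbSet R A, ∀ a : W × W, a ∈ M ↔ a.2 = 0 := by
    by_cases hβ : β = 0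
    · subst hβ
      have hα := h.resolve_right (by simp)
      refine ⟨A, self_mem_orbSet A, fun a => ?_⟩
      rw [hA]
      constructor
      · rintro ⟨w, rfl⟩; simp
      · intro ha; exact ⟨α⁻¹ • a.1, Prod.ext (by simp [smul_smul, hα]) (by simp [ha])⟩
    · refine ⟨mv (wT F W) (mv (upT (α / β)) A),
        mv_mem_orbSet (mv_mem_orbSet (self_mem_orbSet A) (upT_mem R _)) wT_mem, fun a => ?_⟩
      rw [mem_mv, mem_mv, wT_symm_apply, hA]
      simp only [upT, LinearEquiv.coe_symm_mk', Prod.ext_iff]
      constructor
      · rintro ⟨w, h1, h2⟩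
        rw [h2, smul_smul, div_mul_cancel₀ _ hβ] at h1
        simpa using h1
      · intro ha
        refine ⟨-(β⁻¹ • a.1), ?_, by simp [smul_smul, hβ]⟩
        simp [ha, smul_neg, smul_smul, div_eq_mul_inv]
  obtain ⟨w₀, hw₀⟩ := exists_ne (0 : W)
  let f : Option F → orbSet R A := fun o => o.elim ⟨_, mv_mem_orbSet hM (wT_mem (R := R))⟩
    fun s => ⟨_, mv_mem_orbSet hM (loT_mem R s)⟩
  have hmem : ∀ (s : F) (a : W × W), a ∈ mv (loT s) M ↔ a.2 + s • a.1 = 0 := fun s a => by
    rw [mem_mv, hMA]; rfl
  have hw : ∀ a : W × W, a ∈ mv (wT F W) M ↔ a.1 = 0 := fun a => by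
    rw [mem_mv, hMA, wT_symm_apply, neg_eq_zero]
  have hf : Function.Injective f := by
    intro o o' h
    have h' := SetLike.ext_iff.mp (congrArg Subtype.val h)
    cases o with
    | none =>
      cases o' with
      | none => rfl
      | some s =>
        exact absurd ((hmem s _).mp ((h' (0, w₀)).mp ((hw _).mpr rfl))) (by simp [hw₀])
    | some s =>
      have h2 := (h' (w₀, -(s • w₀))).mp ((hmem s _).mpr (by simp))
      cases o' with
      | none => exact absurd ((hw _).mp h2) hw₀
      | some s' =>
        have h3 := (hmem s' _).mp h2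
        rw [neg_add_eq_zero] at h3
        exact congrArg some (smul_left_injective F hw₀ h3)
  have := Nat.card_le_card_of_injective f hf
  rwa [Finite.card_option] at this

theorem two_mul_le_of_lt {a b : ℕ} {p N : ℕ} (hp : p.Prime) (hb : b = p ^ N) (ha : a ∣ b * b)
    (h : a < b) : 2 * a ≤ b := by
  subst hb
  rw [← pow_add] at ha
  obtain ⟨i, -, rfl⟩ := (Nat.dvd_prime_pow hp).mp ha
  have hi : i < N := (Nat.pow_lt_pow_iff_right hp.one_lt).mp h
  calc 2 * p ^ i ≤ p * p ^ i := Nat.mul_le_mul_right _ hp.two_le
    _ = p ^ (i + 1) := by rw [pow_succ']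
    _ ≤ p ^ N := Nat.pow_le_pow_right hp.pos hi

theorem arith_zero {k a q w o : ℕ} (h : o * (w ^ 2 * q) ≤ k * a) (hc : (q + 2) * a ≤ o * w)
    (ha : 0 < a) : (q + 2) * (q * w) ≤ k := by
  refine Nat.le_of_mul_le_mul_right ?_ ha
  calc (q + 2) * (q * w) * a = (q + 2) * a * (q * w) := by ring
    _ ≤ o * w * (q * w) := Nat.mul_le_mul_right _ hc
    _ = o * (w ^ 2 * q) := by ring
    _ ≤ k * a := h

theorem arith_pos {k a b s q w o : ℕ} (h : o * s * (w ^ 2 * q) ≤ k * (a * b))
    (hs : (q + 2) * b ≤ s * q) (hc : q * a ≤ o * w) (ha : 0 < a) (hb : 0 < b) :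
    (q + 2) * (q * w) ≤ k := by
  refine Nat.le_of_mul_le_mul_right ?_ (Nat.mul_pos ha hb)
  calc (q + 2) * (q * w) * (a * b) = (q + 2) * b * (q * a) * w := by ring
    _ ≤ s * q * (o * w) * w := Nat.mul_le_mul_right _ (Nat.mul_le_mul hs hc)
    _ = o * s * (w ^ 2 * q) := by ring
    _ ≤ k * (a * b) := h

variable {H : Subgroup (orth Q)}

/-- A twisted tensor with a non-linear twist gives one more orbit. -/
theorem tensor_bound (hR : PolarND L.form) (hd : 3 ≤ Module.finrank F L.W0) (hB : cenB L H = ⊥)
    {α β : F} (hne : α ≠ 0 ∨ β ≠ 0)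
    (hA : ∀ a, a ∈ imA L H ↔ ∃ w : L.W0, a = (α • w, β • w)) :
    (Nat.card F + 2) * (Nat.card F * Nat.card L.W0) ≤ H.relIndex (eichGroup Q) ∨
      Pinned L H := by
  classical
  haveI : Nontrivial L.W0 := Module.nontrivial_of_finrank_pos (R := F) (by omega)
  haveI : Finite (AddSubgroup (L.W0 × L.W0)) := Finite.of_injective _ SetLike.coe_injective
  have hin : Function.Injective fun w : L.W0 => (α • w, β • w) := fun w w' h => by
    rcases hne with h0 | h0
    · exact (smul_right_injective L.W0 h0) (congrArg Prod.fst h)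
    · exact (smul_right_injective L.W0 h0) (congrArg Prod.snd h)
  have uniq : ∀ {a c c'}, el L a c ∈ H → el L a c' ∈ H → c = c' := fun {a c c'} h h' => by
    have hm : c' - c ∈ cenB L H := by
      have h3 := mul_mem (inv_mem h) h'
      rw [el_inv, el_mul, neg_add_cancel] at h3
      show el L 0 _ ∈ H
      convert! h3 using 2
      simp; ring
    rw [hB, AddSubgroup.mem_bot, sub_eq_zero] at hm
    exact hm.symm
  choose φ hφ using fun w : L.W0 => (hA (α • w, β • w)).mpr ⟨w, rfl⟩
  let ψ : L.W0 →+ F := AddMonoidHom.mk' (fun w => φ w + α * β * Q (w : V)) fun v w => by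
    have h := mul_mem (hφ v) (hφ w)
    rw [el_mul, Prod.mk_add_mk, ← smul_add, ← smul_add] at h
    rw [uniq (hφ (v + w)) h, Submodule.coe_add, form_add]
    simp [polar_smul_left, polar_smul_right]
    ring
  have hψ : ∀ w : L.W0, el L (α • w, β • w) (ψ w - α * β * Q (w : V)) ∈ H := fun w => by
    simp only [ψ, AddMonoidHom.mk'_apply, add_sub_cancel_right]; exact hφ w
  by_cases hlin : ∀ z v : L.W0, L.form z = 0 → polar L.form z v = 0 →
      ∃ l : L.W0 →ₗ[F] F, ∀ w, ψ ((eich L.form z v).1 w) = ψ w + l w
  · refine Or.inr ⟨hB, α, β, hne, hA, ⟨⟨ψ, map_add ψ⟩, fun s w => ?_⟩, hψ⟩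
    show ψ (s • w) = s * ψ w
    let K : L.W0 →+ F := AddMonoidHom.mk' (fun w => ψ (s • w) - s * ψ w) fun v w => by
      rw [smul_add, map_add, map_add]; ring
    let C : Submodule F L.W0 :=
      { carrier := {w | ∀ t : F, K (t • w) = 0}
        zero_mem' := fun t => by rw [smul_zero, map_zero]
        add_mem' := fun {v w} hv hw t => by rw [smul_add, map_add, hv, hw, add_zero]
        smul_mem' := fun r w hw t => by rw [smul_smul]; exact hw _ }
    have hK : ∀ z v, L.form z = 0 → polar L.form z v = 0 → ∀ w,
        K ((eich L.form z v).1 w) = K w := fun z v hz hv w => by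
      obtain ⟨l, hl⟩ := hlin z v hz hv
      simp only [K, AddMonoidHom.mk'_apply]
      rw [← map_smul, hl, hl, l.map_smul, smul_eq_mul]
      ring
    have hmemC : ∀ z v, L.form z = 0 → polar L.form z v = 0 → ∀ w,
        (eich L.form z v).1 w - w ∈ C := fun z v hz hv w t => by
      rw [smul_sub, map_sub, ← map_smul, hK z v hz hv, sub_self]
    have hC : C ≠ ⊥ := by
      intro h0
      obtain ⟨z, -, hz0, hz⟩ :=
        OrthStab.exists_singular_mem (Q := L.form) ⊤ (by rwa [finrank_top])
      obtain ⟨z', hz', hzz'⟩ := exists_pair hR.nonsing hz hz0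
      have hP : 0 < Module.finrank F (OrthStab.perp₂ L.form z z') := by
        have := OrthStab.finrank_perp₂ hz hz' hzz'; omega
      haveI := Module.nontrivial_of_finrank_pos hP
      obtain ⟨v, hv⟩ := exists_ne (0 : OrthStab.perp₂ L.form z z')
      obtain ⟨hv1, hv2⟩ := OrthStab.mem_perp₂.mp v.2
      have h := hmemC z v hz hv1 z'
      rw [h0, Submodule.mem_bot, sub_eq_zero, eich_apply hz hv1, hzz',
        polar_comm L.form (v : L.W0) z', hv2] at h
      simp at h
      have e := congrArg (polarBilin L.form z') h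
      simp [polar_add_right, polar_sub_right, polar_smul_right, hv2, polar_self_eq, hz',
        polar_comm L.form z' z, hzz'] at e
      simp [e] at h
      exact hv h
    have htop := eq_top_of_invariant hR hd hC fun z v hz hv c hc t => by
      rw [← map_smul, hK z v hz hv]; exact hc t
    have h0 : w ∈ C := htop ▸ trivial
    have := h0 1
    simpa [K, sub_eq_zero] using this
  · left
    simp only [not_forall] at hlin
    obtain ⟨z, v, hz, hv, hno⟩ := hlin
    have hz' : Q (z : V) = 0 := hz
    have hv' : polar Q (z : V) (v : V) = 0 := hv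
    set g := eich Q (z : V) (v : V) with hgdef
    set Λ0 := (eich L.form z v).1.prodCongr (eich L.form z v).1
    have gW : ∀ w : L.W0, g.1 (w : V) = (((eich L.form z v).1 w : L.W0) : V) := fun w => by
      rw [hgdef, eich_apply hz' hv', eich_apply hz hv]
      simp [LineFrame.polar_form, LineFrame.form]
    have gu : ∀ γ δ : F, g.1 (γ • L.x + δ • L.y) = γ • L.x + δ • L.y := fun γ δ => by
      rw [map_add, map_smul, map_smul, hgdef, eich_apply hz' hv', eich_apply hz' hv',
        polar_comm Q (z : V), LineFrame.px, polar_comm Q (v : V), LineFrame.px,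
        polar_comm Q (z : V), LineFrame.py, polar_comm Q (v : V), LineFrame.py]
      simp
    have hg : Acts L g Λ0 1 := acts_of_line (eich_mem_eichGroup _ _) (α := 1) (β := 0) (γ := 0)
      (δ := 1) (by simpa using gu 1 0) (by simpa using gu 0 1) (eich L.form z v).1
      (fun w => ⟨0, 0, by rw [gW]; simp⟩) _ (fun a => by ext <;> simp [Λ0]) _ (by simp)
    have hgA : mv Λ0 (imA L H) = imA L H := by
      ext a
      rw [mem_mv, hA, hA]
      refine ⟨fun ⟨w, hw⟩ => ⟨(eich L.form z v).1 w, ?_⟩,
        fun ⟨w, hw⟩ => ⟨(eich L.form z v).1.symm w, ?_⟩⟩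
      · have := congrArg Λ0 hw
        rw [LinearEquiv.apply_symm_apply] at this
        simpa [Λ0] using this
      · rw [hw, LinearEquiv.symm_apply_eq]; simp [Λ0]
    have hex : ¬ ∃ x ∈ heis L, ∀ y ∈ heis L, g⁻¹ * y * g ∈ H ↔ x * y * x⁻¹ ∈ H := by
      rintro ⟨_, ⟨b, e, rfl⟩, hxe⟩
      refine hno ⟨{
        toFun := fun w => polar Q (β • (((eich L.form z v).1 w : L.W0) : V)) (b.1 : V) -
          polar Q (b.2 : V) (α • (((eich L.form z v).1 w : L.W0) : V))
        map_add' := fun w w' => by
          simp [polar_smul_left, polar_smul_right, polar_add_left, polar_add_right]; ring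
        map_smul' := fun s w => by
          simp [polar_smul_left, polar_smul_right]; ring }, fun w => ?_⟩
      set gw := (eich L.form z v).1 w
      set y := el L (α • gw, β • gw) (ψ w - α * β * Q (gw : V))
      have hconj : g * el L (α • w, β • w) (ψ w - α * β * Q (w : V)) * g⁻¹ = y := by
        have e1 : ∀ (u : L.W0) (c : F), el L (α • u, β • u) (c - α * β * Q (u : V)) =
            eich Q (α • L.x + β • L.y) (u : V) * el L 0 c := fun u c => by
          rw [eich_line_perp, el_mul, add_zero]
          congr 1
          simp; ring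
        rw [e1, show ∀ p r : orth Q, g * (p * r) * g⁻¹ = g * p * g⁻¹ * (g * r * g⁻¹) from
          fun p r => by group, conj_eich, gu, gW, hg.2.2, Units.val_one, one_mul, ← e1]
      have hy : g⁻¹ * y * g ∈ H := by
        rw [← hconj]; simpa [mul_assoc] using hψ w
      have h2 := (hxe y ⟨_, _, rfl⟩).mp hy
      simp only [y, el_inv, el_mul] at h2
      rw [show b + (α • gw, β • gw) + -b = (α • gw, β • gw) by abel] at h2
      have h3 := uniq (hψ gw) h2
      simp [polar_add_left, polar_neg_right, polar_smul_left, polar_smul_right] at h3 ⊢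
      linear_combination h3
    set O := orbSet L.form (imA L H)
    have rep : ∀ M : O, ∃ g' Λ', Acts L g' Λ' 1 ∧ M.1 = mv Λ' (imA L H) ∧
        (M.1 = imA L H → g' = 1) := by
      rintro ⟨_, ⟨Λ', rfl⟩⟩
      by_cases hM : mv Λ'.1 (imA L H) = imA L H
      · exact ⟨1, LinearEquiv.refl F _, Acts.one, hM.trans (mv_one (F := F) _).symm, fun _ => rfl⟩
      · obtain ⟨g', hg'⟩ := realise Λ'.2
        exact ⟨g', Λ'.1, hg', rfl, fun h => absurd h hM⟩
    choose g' Λ' hg' hM' h1' using rep
    let gi : Option O → orth Q := fun o => o.elim g g'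
    have key := count_bound (L := L) (H := H) gi
      (fun o => by cases o with
        | none => exact hg.1
        | some M => exact (hg' M).1)
      (fun o => by cases o with
        | none => exact hg.normal
        | some M => exact (hg' M).normal)
      (fun o o' x hx h => by
        cases o with
        | none =>
          cases o' with
          | none => rfl
          | some M =>
            exfalso
            have hM : M.1 = imA L H := by
              rw [hM']
              refine Eq.trans ?_ hgA
              ext a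
              rw [mem_mv, mem_mv]
              exact ((trace_eq hg (hg' M) hx h).1 a).symm
            refine hex ⟨x, hx, fun y hy => ?_⟩
            have := h y hy
            simp only [gi, Option.elim_none, Option.elim_some, h1' M hM, inv_one, one_mul,
              mul_one] at this
            exact this
        | some M =>
          cases o' with
          | none =>
            exfalso
            have hM : M.1 = imA L H := by
              rw [hM']
              refine Eq.trans ?_ hgA
              ext a
              rw [mem_mv, mem_mv]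
              exact (trace_eq (hg' M) hg hx h).1 a
            refine hex ⟨x⁻¹, inv_mem hx, fun y hy => ?_⟩
            have := h (x⁻¹ * y * x) (mul_mem (mul_mem (inv_mem hx) hy) hx)
            simp only [gi, Option.elim_none, Option.elim_some, h1' M hM, inv_one, one_mul,
              mul_one] at this
            rw [show x * (x⁻¹ * y * x) * x⁻¹ = y by group] at this
            rw [inv_inv]
            exact this.symm
          | some M' =>
            refine congrArg some (Subtype.ext ?_)
            rw [hM', hM']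
            ext a
            rw [mem_mv, mem_mv]
            exact (trace_eq (hg' M) (hg' M') hx h).1 a)
    rw [Finite.card_option, hB, AddSubgroup.card_bot, mul_one] at key
    have hcard : Nat.card (imA L H) = Nat.card L.W0 := by
      symm
      refine Nat.card_eq_of_bijective (fun w => ⟨(α • w, β • w), (hA _).mpr ⟨w, rfl⟩⟩)
        ⟨fun w w' h => hin (congrArg Subtype.val h), fun a => ?_⟩
      obtain ⟨w, hw⟩ := (hA _).mp a.2
      exact ⟨w, Subtype.ext hw.symm⟩
    have : Nat.card F + 1 ≤ Nat.card O := card_orbit_tensor (R := L.form) hne hA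
    exact arith_zero key (by rw [hcard]; exact Nat.mul_le_mul_right _ (by omega)) Nat.card_pos

/-- **The line bound.** -/
theorem line_bound (hQ : PolarND Q) (hn : 7 ≤ Module.finrank F V) (hB : cenB L H ≠ ⊤) :
    (Nat.card F + 2) * Nat.card F ^ (Module.finrank F V - 3) ≤ H.relIndex (eichGroup Q) ∨
      Pinned L H ∨ Exceptional L H := by
  classical
  haveI := Module.finite_of_finite (R := F) (M := V)
  have hR := L.polarND_form hQ
  have hn4 := L.finrank_W0
  have hd : 3 ≤ Module.finrank F L.W0 := by omega
  haveI : Nontrivial L.W0 := Module.nontrivial_of_finrank_pos (R := F) (by omega)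
  haveI : Finite (AddSubgroup (L.W0 × L.W0)) := Finite.of_injective _ SetLike.coe_injective
  set q := Nat.card F with hqdef
  set w := Nat.card L.W0 with hwdef
  set d := Module.finrank F L.W0 with hddef
  have hw : w = q ^ d := Module.natCard_eq_pow_finrank
  have hq : 1 < q := Finite.one_lt_card
  suffices (q + 2) * (q * w) ≤ H.relIndex (eichGroup Q) ∨ Pinned L H ∨ Exceptional L H by
    refine this.imp_left (le_trans (Nat.mul_le_mul_left _ ?_))
    rw [hw, ← pow_succ']
    exact Nat.pow_le_pow_right (by omega) (by omega)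
  set A := imA L H with hAdef
  set O := orbSet L.form A
  have hbet : ∀ a ∈ A, ∀ b ∈ A, polar L.form b.2 a.1 - polar L.form a.2 b.1 ∈ cenB L H :=
    fun a ha b hb => bet_mem ha hb
  have hAw : Nat.card A ≤ w := Nat.mul_self_le_mul_self_iff.mp (card_sq_le hR hB hbet)
  let Bs := Set.range fun l : Fˣ => {c : F | (l⁻¹ : Fˣ) * c ∈ cenB L H}
  have key : Nat.card O * Nat.card Bs * (w ^ 2 * q) ≤
      H.relIndex (eichGroup Q) * (Nat.card A * Nat.card (cenB L H)) := by
    rw [← Nat.card_prod]
    have hrep : ∀ M : O, ∃ g Λ, Acts L g Λ 1 ∧ M.1 = mv Λ A := by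
      rintro ⟨_, ⟨Λ, rfl⟩⟩
      obtain ⟨g, hg⟩ := realise Λ.2
      exact ⟨g, Λ.1, hg, rfl⟩
    choose g Λ hg hM using hrep
    choose l hl using fun S : Bs => S.2
    choose gD ΛD hD using fun S : Bs => scale_realised hR hd (l S)
    refine index_bound (L := L) (H := H) (fun p : O × Bs => gD p.2 * g p.1)
      (fun p => (Λ p.1).trans (ΛD p.2)) (fun p => l p.2 * 1) (fun p => (hD p.2).mul (hg p.1))
      fun p p' h1 h2 => ?_
    have e2 : p.2 = p'.2 := Subtype.ext (by
      rw [← hl p.2, ← hl p'.2]
      ext c
      have := h2 c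
      rwa [mul_one, mul_one] at this)
    refine Prod.ext (Subtype.ext ?_) e2
    rw [hM, hM]
    ext a
    have := h1 ((ΛD p.2) a)
    rw [LinearEquiv.trans_symm, LinearEquiv.trans_symm, LinearEquiv.trans_apply,
      LinearEquiv.trans_apply, ← e2, LinearEquiv.symm_apply_apply] at this
    exact this
  have hA0 : 0 < Nat.card A := Nat.card_pos
  -- a square with a short orbit is small
  have small : Nat.card O < q → q * Nat.card A ≤ w ∧
      (q + 2) * Nat.card A ≤ Nat.card O * w := by
    intro ho
    obtain ⟨C, hC⟩ := square_of_short ho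
    have hiso : ∀ x ∈ C, ∀ y ∈ C, polar L.form x y = 0 := by
      intro x hx y hy
      by_contra hne
      refine hB (eq_top_iff.mpr fun c _ => ?_)
      have := hbet ((c / polar L.form x y) • y, 0) ((hC _).mpr ⟨C.smul_mem _ hy, C.zero_mem⟩)
        (0, x) ((hC _).mpr ⟨C.zero_mem, hx⟩)
      simpa [polar_smul_right, div_mul_cancel₀ _ hne] using this
    have hdim : 2 * Module.finrank F C ≤ d := by
      have hle : C ≤ OrthStab.perpOf L.form C := fun x hx =>
        OrthStab.mem_perpOf.mpr fun y hy => hiso x hx y hy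
      have := Submodule.finrank_mono hle
      have := OrthStab.finrank_perpOf hR C
      omega
    have hlt : 2 * Module.finrank F C < d := by
      refine lt_of_le_of_ne hdim fun he => ?_
      exact absurd (q_le_orbit_square hR hd hC hiso he) (not_le.mpr ho)
    have hcardA : Nat.card A = q ^ (2 * Module.finrank F C) := by
      rw [two_mul, pow_add, hqdef, ← Module.natCard_eq_pow_finrank (K := F) (V := C),
        ← Nat.card_prod]
      exact Nat.card_congr
        { toFun := fun a => (⟨a.1.1, ((hC _).mp a.2).1⟩, ⟨a.1.2, ((hC _).mp a.2).2⟩)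
          invFun := fun p => ⟨(p.1, p.2), (hC _).mpr ⟨p.1.2, p.2.2⟩⟩
          left_inv := fun a => rfl
          right_inv := fun p => rfl }
    have h1 : q * Nat.card A ≤ w := by
      rw [hcardA, hw, ← pow_succ']; exact Nat.pow_le_pow_right (by omega) hlt
    refine ⟨h1, ?_⟩
    have ho1 : 0 < Nat.card O := by
      haveI : Nonempty O := ⟨⟨A, self_mem_orbSet A⟩⟩
      exact Nat.card_pos
    by_cases hC0 : C = ⊥
    · rw [hcardA, hC0, finrank_bot, mul_zero, pow_zero, mul_one]
      refine le_trans ?_ (Nat.le_mul_of_pos_left _ ho1)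
      calc q + 2 ≤ q * q := by nlinarith
        _ = q ^ 2 := (sq q).symm
        _ ≤ w := hw ▸ Nat.pow_le_pow_right (by omega) (by omega)
    · have hC1 : C ≠ ⊤ := fun h => by rw [h, finrank_top] at hlt; omega
      have := two_le_orbit hR hd hC hC0 hC1
      calc (q + 2) * Nat.card A ≤ 2 * (q * Nat.card A) := by nlinarith
        _ ≤ Nat.card O * w := Nat.mul_le_mul this h1
  by_cases hB0 : cenB L H = ⊥
  · rw [hB0, AddSubgroup.card_bot, mul_one] at key
    haveI : Nonempty Bs := ⟨⟨_, 1, rfl⟩⟩
    have key' : Nat.card O * (w ^ 2 * q) ≤ H.relIndex (eichGroup Q) * Nat.card A := by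
      refine le_trans (Nat.mul_le_mul_right _ ?_) key
      exact Nat.le_mul_of_pos_right _ Nat.card_pos
    rcases Nat.lt_or_ge (Nat.card O) q with ho | ho
    · exact Or.inl (arith_zero key' (small ho).2 hA0)
    rcases lt_or_eq_of_le hAw with hlt | heq
    · refine Or.inl (arith_zero key' ?_ hA0)
      haveI := Fintype.ofFinite F
      obtain ⟨r, hp, hr⟩ := FiniteField.card F (ringChar F)
      have h2 : 2 * Nat.card A ≤ w := two_mul_le_of_lt hp
        (by rw [hw, hqdef, Nat.card_eq_fintype_card, hr, ← pow_mul])
        (by rw [hwdef, ← Nat.card_prod]; exact AddSubgroup.card_addSubgroup_dvd_card A) hlt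
      calc (q + 2) * Nat.card A ≤ q * (2 * Nat.card A) := by nlinarith
        _ ≤ Nat.card O * w := Nat.mul_le_mul ho h2
    · have hz : ∀ a ∈ A, ∀ b ∈ A, bet L a b = 0 := fun a ha b hb => by
        have := bet_mem ha hb
        rwa [hB0, AddSubgroup.mem_bot] at this
      have hl : Lin F A := lin_of_card hR hz heq
      by_cases ht : IsTensor F A
      · obtain ⟨α, β, hne, hA⟩ := ht
        exact (tensor_bound hR hd hB0 hne hA).imp_right Or.inl
      suffices q + 2 ≤ Nat.card O ∨ Exceptional L H by
        refine this.imp (fun h => arith_zero key' ?_ hA0) Or.inr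
        exact Nat.mul_le_mul h hAw
      by_cases hsq : IsSquare' F A
      · obtain ⟨C, hC⟩ := hsq
        have hiso : ∀ x ∈ C, ∀ y ∈ C, polar L.form x y = 0 := by
          intro x hx y hy
          have := hz (y, 0) ((hC _).mpr ⟨hy, C.zero_mem⟩) (0, x) ((hC _).mpr ⟨C.zero_mem, hx⟩)
          simpa [bet, LineFrame.polar_form] using this
        have hdim : 2 * Module.finrank F C = d := by
          have hcA : Nat.card A = Nat.card C * Nat.card C := by
            rw [← Nat.card_prod]
            exact Nat.card_congr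
              { toFun := fun a => (⟨a.1.1, ((hC _).mp a.2).1⟩, ⟨a.1.2, ((hC _).mp a.2).2⟩)
                invFun := fun p => ⟨(p.1, p.2), (hC _).mpr ⟨p.1.2, p.2.2⟩⟩
                left_inv := fun a => rfl
                right_inv := fun p => rfl }
          rw [Module.natCard_eq_pow_finrank (K := F) (V := C), ← pow_add, heq, hw, ← hqdef] at hcA
          rw [two_mul]
          exact (Nat.pow_right_injective hq hcA).symm
        by_cases hexc : d = 4 ∧ ∀ c ∈ C, L.form c = 0
        · exact Or.inr ⟨hB0, hexc.1, C, by omega, hexc.2, hC⟩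
        · refine Or.inl (orbit_square hR hd hq hC hiso hdim fun h4 => ?_)
          by_contra hcon
          simp only [not_exists, not_and, not_not] at hcon
          exact hexc ⟨h4, hcon⟩
      · rcases Nat.lt_or_ge q 3 with h3 | h3
        · have hq2 : q = 2 := by omega
          refine Or.inl ?_
          by_cases hk : RankOK L.form
          · exact orbit_lagrangian_two hR hd hq2 (hasPartner hR hq2 hk) (sumOnes hR hq2 hk) hl heq
              hsq ht
          · exact orbit_lagrangian_plus hR hd hq2 hk hl
              (fun a ha b hb => sub_eq_zero.mp (hz a ha b hb)) heq hsq ht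
        · exact Or.inl (orbit_lagrangian hR hd h3 hl heq hsq ht)
  · left
    have hs := scalar_orbit hB0 hB
    refine arith_pos key hs ?_ hA0 Nat.card_pos
    rcases Nat.lt_or_ge (Nat.card O) q with ho | ho
    · haveI : Nonempty O := ⟨⟨A, self_mem_orbSet A⟩⟩
      exact (small ho).1.trans (Nat.le_mul_of_pos_left _ Nat.card_pos)
    · exact Nat.mul_le_mul ho hAw

end Cfsg.Agent.MinIdxClassical
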