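import Cfsg.Agent.MinIdxClassical.Line
import Cfsg.Agent.MinIdxClassical.Geometry

/-!
A subgroup of small index of an orthogonal group fixes a point of the ambient space (helper24).
-/

set_option autoImplicit false
set_option linter.unusedSectionVars false

namespace Cfsg.Agent.MinIdxClassical

open QuadraticMap Cfsg.Agent.UnitaryOrthogonal

variable {F : Type*} [Field F] [Finite F] {V : Type*} [AddCommGroup V] [Module F V] [Finite V]
variable {Q : QuadraticForm F V}

/-- The root group of the line is contained in `H`. -/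
def Full' (H : Subgroup (orth Q)) (a b : V) : Prop := ∀ c : F, eich Q a (c • b) ∈ H

/-- No totally singular plane in a frame's orthogonal of dimension at most four. -/
def NoPlane (Q : QuadraticForm F V) : Prop :=
  ∀ L : LineFrame Q, Module.finrank F L.W0 ≤ 4 → ∀ z w : L.W0, L.form z = 0 → z ≠ 0 →
    polar L.form z w = 0 → L.form w = 0 → w ∈ F ∙ z

theorem NoPlane.rankOK (h : NoPlane Q) (L : LineFrame Q) : RankOK L.form := by
  by_cases h5 : 5 ≤ Module.finrank F L.W0
  · exact Or.inl h5
  · refine Or.inr fun z w h1 h2 h3 h4 => ?_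
    obtain ⟨c, hc⟩ := Submodule.mem_span_singleton.mp (h L (by omega) z w h1 h2 h3 h4)
    exact ⟨c, hc.symm⟩

theorem NoPlane.not_exceptional (h : NoPlane Q) (L : LineFrame Q) (H : Subgroup (orth Q)) :
    ¬ Exceptional L H := by
  rintro ⟨-, hd, C, hC, hs, -⟩
  haveI := Module.finite_of_finite (R := F) (M := L.W0)
  have hne : C ≠ ⊥ := fun h0 => by rw [h0, finrank_bot] at hC; omega
  obtain ⟨z, hz, hz0⟩ := C.ne_bot_iff.mp hne
  have hle : C ≤ F ∙ z := fun w hw => by
    refine h L (by omega) z w (hs z hz) hz0 ?_ (hs w hw)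
    exact OrthStab.polar_eq_zero_of_singular (Q := L.form) (S := C) hs hz hw
  have := Submodule.finrank_mono hle
  rw [hC, finrank_span_singleton hz0] at this
  omega

theorem IsLine.coeff {a b : V} (h : IsLine Q a b) {s t : F} (he : s • a + t • b = 0) :
    s = 0 ∧ t = 0 := by
  have ht : t = 0 := by
    by_contra ht
    refine h.2.2.2.2 (Submodule.mem_span_singleton.mpr ⟨-(t⁻¹ * s), ?_⟩)
    linear_combination (norm := skip) (-t⁻¹) • he
    match_scalars <;> field_simp <;> ring
  subst ht
  simp at he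
  exact ⟨he.resolve_right h.2.2.2.1, rfl⟩

theorem IsLine.comb {a b : V} (h : IsLine Q a b) (γ δ : F) :
    Q (γ • a + δ • b) = 0 := by
  simp [form_add, form_smul, h.1, h.2.1, polar_smul_left, polar_smul_right, h.2.2.1]

theorem Full'.comb (hQ : PolarND Q) {H : Subgroup (orth Q)} {a b : V} (hl : IsLine Q a b)
    (h : Full' H a b) (γ δ e f : F) : Full' H (γ • a + δ • b) (e • a + f • b) := by
  obtain ⟨L, rfl, rfl⟩ := exists_frame hQ hl
  intro c
  rw [smul_add, smul_smul, smul_smul, eich_line_center, el_central]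
  exact h _

theorem cenB_eq_top {L : LineFrame Q} {H : Subgroup (orth Q)} :
    cenB L H = ⊤ ↔ Full' H L.x L.y := by
  constructor
  · intro h c
    rw [← el_central]
    have : c ∈ cenB L H := h ▸ trivial
    exact this
  · intro h
    refine eq_top_iff.mpr fun c _ => ?_
    show el L 0 c ∈ H
    rw [el_central]; exact h c

/-- What a pinned line says about the planes through it. -/
theorem key_of_pinned (hQ : PolarND Q) {H : Subgroup (orth Q)}
    (hpin : ∀ L : LineFrame Q, cenB L H ≠ ⊤ → Pinned L H) {a b : V} (hl : IsLine Q a b)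
    (hf : ¬ Full' H a b) :
    ∃ α β : F, (α ≠ 0 ∨ β ≠ 0) ∧ ∀ w, Q w = 0 → polar Q a w = 0 → polar Q b w = 0 →
      w ∉ Submodule.span F {a, b} →
      (∀ γ δ e f : F, Full' H (γ • a + δ • b) (w + e • a + f • b) → γ * β = δ * α) ∧
      ∃ e f : F, Full' H (α • a + β • b) (w + e • a + f • b) := by
  obtain ⟨L, rfl, rfl⟩ := exists_frame hQ hl
  obtain ⟨-, α, β, hne, hA, ψ, hψ⟩ := hpin L fun h => hf (cenB_eq_top.mp h)
  refine ⟨α, β, hne, fun w hw h1 h2 hn => ?_⟩
  set e0 := polar Q L.x' w
  set f0 := polar Q L.y' w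
  set w0 := w - e0 • L.x - f0 • L.y with hw0
  have hmem : w0 ∈ L.W0 := L.mem_W0.mpr (by
    simp [hw0, polar_sub_right, polar_smul_right, polar_self_eq, L.qx, L.qy, h1, h2, L.xy,
      L.xx', L.yy', L.yx', polar_comm Q L.y L.x, polar_comm Q L.x' L.x, polar_comm Q L.y' L.y,
      polar_comm Q L.x' L.y, polar_comm Q L.y' L.x, L.xy', e0, f0])
  have hw00 : w0 ≠ 0 := fun h => hn (Submodule.mem_span_pair.mpr ⟨e0, f0, by
    rw [hw0, sub_sub, sub_eq_zero] at h; exact h.symm⟩)
  have hqw : Q w0 = 0 := by
    simp [hw0, sub_eq_add_neg, ← neg_smul, form_add, form_smul, hw, L.qx, L.qy, polar_add_left,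
      polar_add_right, polar_smul_left, polar_smul_right, polar_comm Q w L.x, h1,
      polar_comm Q w L.y, h2, L.xy]
  have ew : ∀ c e f : F, c • (w + e • L.x + f • L.y) =
      c • w0 + ((c * (e0 + e)) • L.x + (c * (f0 + f)) • L.y) := fun c e f => by
    rw [hw0]; module
  have hel : ∀ γ δ c e f : F, eich Q (γ • L.x + δ • L.y) (c • (w + e • L.x + f • L.y)) =
      el L (γ • (c • ⟨w0, hmem⟩ : L.W0), δ • (c • ⟨w0, hmem⟩ : L.W0))
        (γ * (c * (f0 + f)) - δ * (c * (e0 + e))) := by
    intro γ δ c e f
    have hu := hl.comb γ δ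
    rw [ew, ← eich_mul hu ?_ ?_, eich_line_center]
    · rw [show c • w0 = ((c • ⟨w0, hmem⟩ : L.W0) : V) from rfl, eich_line_perp, el_mul, add_zero]
      simp [form_smul, hqw]
    · simp [polar_add_left, polar_smul_left, polar_smul_right, LineFrame.px ⟨w0, hmem⟩,
        LineFrame.py ⟨w0, hmem⟩]
    · simp [polar_add_left, polar_add_right, polar_smul_left, polar_smul_right, L.xy,
        polar_comm Q L.y L.x, polar_self_eq, L.qx, L.qy]
  constructor
  · intro γ δ e f hF
    have h := hF 1
    rw [hel, one_smul] at h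
    obtain ⟨w', hw'⟩ := (hA _).mp ⟨_, h⟩
    obtain ⟨h1', h2'⟩ := Prod.ext_iff.mp hw'
    simp only at h1' h2'
    have : (γ * β - δ * α) • (⟨w0, hmem⟩ : L.W0) = 0 := by
      linear_combination (norm := module) β • h1' - α • h2'
    rw [smul_eq_zero, sub_eq_zero] at this
    exact this.resolve_right fun h => hw00 (congrArg Subtype.val h)
  · set ψw := ψ ⟨w0, hmem⟩
    obtain ⟨E, G, hEG⟩ : ∃ E G : F, α * G - β * E = ψw := by
      rcases hne with h | h
      · exact ⟨0, ψw / α, by rw [mul_zero, sub_zero, mul_div_cancel₀ _ h]⟩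
      · exact ⟨-(ψw / β), 0, by rw [mul_zero, zero_sub, mul_neg, neg_neg, mul_div_cancel₀ _ h]⟩
    refine ⟨E - e0, G - f0, fun c => ?_⟩
    rw [hel]
    have := hψ (c • ⟨w0, hmem⟩)
    convert! this using 2
    rw [map_smul, smul_eq_mul, Submodule.coe_smul, form_smul,
      show Q ((⟨w0, hmem⟩ : L.W0) : V) = 0 from hqw]
    linear_combination c * hEG

/-- The points on the contained root groups. -/
def pts (H : Subgroup (orth Q)) : Set V :=
  {p | ∃ b, IsLine Q p b ∧ Full' H p b}

/-- A vector orthogonal to three given ones. -/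
theorem exists_connecting (hQ : PolarND Q) (hn : 7 ≤ Module.finrank F V) {p u b : V}
    (hp : Q p = 0) (hp0 : p ≠ 0) (hu : Q u = 0) (hb : Q b = 0) (hpu : polar Q p u = 0)
    (hpb : polar Q p b = 0) (hub : polar Q u b ≠ 0) :
    ∃ w, Q w = 0 ∧ polar Q p w = 0 ∧ polar Q u w = 0 ∧ polar Q b w = 0 ∧
      w ∉ Submodule.span F {p, u} := by
  haveI := Module.finite_of_finite (R := F) (M := V)
  set b' := (polar Q u b)⁻¹ • b with hb'
  have hb'Q : Q b' = 0 := by simp [hb', form_smul, hb]
  have hub' : polar Q u b' = 1 := by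
    rw [hb', polar_smul_right, smul_eq_mul, inv_mul_cancel₀ hub]
  have hpm : p ∈ OrthStab.perp₂ Q u b' := OrthStab.mem_perp₂.mpr ⟨by rw [polar_comm]; exact hpu,
    by simp [hb', polar_smul_left, polar_comm Q b p, hpb]⟩
  have hP := OrthStab.polarND_perp₂ hQ hu hb'Q hub'
  obtain ⟨p', hp', hpp'⟩ := exists_pair hP.nonsing
    (show (Q.comp (OrthStab.perp₂ Q u b').subtype) ⟨p, hpm⟩ = 0 from hp)
    (fun h => hp0 (congrArg Subtype.val h))
  have h1 := OrthStab.finrank_perp₂ hu hb'Q hub'
  have h2 := OrthStab.finrank_perp₂ (Q := Q.comp (OrthStab.perp₂ Q u b').subtype)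
    (show (Q.comp (OrthStab.perp₂ Q u b').subtype) ⟨p, hpm⟩ = 0 from hp) hp' hpp'
  obtain ⟨w, hw, hw0, hwQ⟩ := OrthStab.exists_singular_mem
    (Q := Q.comp (OrthStab.perp₂ Q u b').subtype)
    (OrthStab.perp₂ (Q.comp (OrthStab.perp₂ Q u b').subtype) ⟨p, hpm⟩ p') (by omega)
  obtain ⟨w1, w2⟩ := OrthStab.mem_perp₂.mp hw
  obtain ⟨w3, w4⟩ := OrthStab.mem_perp₂.mp w.2
  refine ⟨w, hwQ, w1, w3, ?_, fun hm => ?_⟩
  · have e : ∀ x, polar Q b' x = (polar Q u b)⁻¹ * polar Q b x := fun x => by
      rw [hb', polar_smul_left, smul_eq_mul]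
    rw [e] at w4
    exact (mul_eq_zero.mp w4).resolve_left (inv_ne_zero hub)
  · obtain ⟨s, t, hst⟩ := Submodule.mem_span_pair.mp hm
    obtain ⟨p3, p4⟩ := OrthStab.mem_perp₂.mp p'.2
    have e4 : polar Q b' (w : V) = 0 := w4
    have e2 : polar Q (p' : V) (w : V) = 0 := w2
    have e5 : polar Q p (p' : V) = 1 := hpp'
    rw [← hst] at e4 e2
    have q1 : polar Q b' p = 0 := (OrthStab.mem_perp₂.mp hpm).2
    have q2 : polar Q b' u = 1 := by rw [polar_comm]; exact hub'
    simp [polar_add_right, polar_smul_right, q1, q2] at e4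
    simp [e4, polar_add_right, polar_smul_right, polar_comm Q (p' : V) p, e5] at e2
    refine hw0 (Subtype.ext ?_)
    rw [← hst, e2, e4, zero_smul, zero_smul, add_zero]
    rfl

variable {H : Subgroup (orth Q)}

theorem geomHyp_pts (hQ : PolarND Q) (hn : 7 ≤ Module.finrank F V)
    (hpin : ∀ L : LineFrame Q, cenB L H ≠ ⊤ → Pinned L H) :
    GeomHyp Q (pts H) ∧ ∀ a b, IsLine Q a b → ¬ Full' H a b →
      ∃ p, Q p = 0 ∧ p ≠ 0 ∧ p ∉ pts H := by
  -- every point of a pinned line other than the centre is outside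
  have outside : ∀ a b, IsLine Q a b → ¬ Full' H a b → ∀ α β : F, (α ≠ 0 ∨ β ≠ 0) →
      (∀ w, Q w = 0 → polar Q a w = 0 → polar Q b w = 0 → w ∉ Submodule.span F {a, b} →
        (∀ γ δ e f : F, Full' H (γ • a + δ • b) (w + e • a + f • b) → γ * β = δ * α) ∧
        ∃ e f : F, Full' H (α • a + β • b) (w + e • a + f • b)) →
      ∀ γ δ : F, γ * β ≠ δ * α → γ • a + δ • b ∉ pts H := by
    rintro a b hl hf α β hne hkey γ δ hgd ⟨c, hlc, hfc⟩
    set p := γ • a + δ • b with hp
    set u := α • a + β • b with hu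
    have hpQ : Q p = 0 := hl.comb γ δ
    have huQ : Q u = 0 := hl.comb α β
    have hp0 := hlc.2.2.2.1
    have hpu : polar Q p u = 0 := by
      simp [hp, hu, polar_add_left, polar_add_right, polar_smul_left, polar_smul_right,
        polar_self_eq, hl.1, hl.2.1, hl.2.2.1, polar_comm Q b a]
    have hm : γ * β - δ * α ≠ 0 := sub_ne_zero.mpr hgd
    have ha' : a = (β / (γ * β - δ * α)) • p + (-δ / (γ * β - δ * α)) • u := by
      have e : (γ * β - δ * α) • a = β • p + (-δ) • u := by rw [hp, hu]; module
      conv_lhs => rw [← inv_smul_smul₀ hm a, e]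
      module
    have hb' : b = (-α / (γ * β - δ * α)) • p + (γ / (γ * β - δ * α)) • u := by
      have e : (γ * β - δ * α) • b = (-α) • p + γ • u := by rw [hp, hu]; module
      conv_lhs => rw [← inv_smul_smul₀ hm b, e]
      module
    -- lines through `p` in a plane on the line are not contained
    have inPlane : ∀ w, Q w = 0 → polar Q p w = 0 → polar Q u w = 0 →
        w ∉ Submodule.span F {p, u} →
        (∀ s : F, ¬ Full' H p (w + s • u)) ∧ ∃ e f : F, Full' H u (w + e • a + f • b) := by
      intro w hw hpw huw hwn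
      have haw : polar Q a w = 0 := by
        rw [ha', polar_add_left, polar_smul_left, polar_smul_left, hpw, huw]; simp
      have hbw : polar Q b w = 0 := by
        rw [hb', polar_add_left, polar_smul_left, polar_smul_left, hpw, huw]; simp
      have hspan : w ∉ Submodule.span F {a, b} := by
        intro h
        apply hwn
        obtain ⟨s, t, rfl⟩ := Submodule.mem_span_pair.mp h
        rw [ha', hb']
        exact Submodule.add_mem _ (Submodule.smul_mem _ _ (Submodule.mem_span_pair.mpr ⟨_, _, rfl⟩))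
          (Submodule.smul_mem _ _ (Submodule.mem_span_pair.mpr ⟨_, _, rfl⟩))
      refine ⟨fun s hs => ?_, (hkey w hw haw hbw hspan).2⟩
      refine hgd ((hkey w hw haw hbw hspan).1 γ δ (s * α) (s * β) ?_)
      have e : w + (s * α) • a + (s * β) • b = w + s • u := by rw [hu]; module
      rw [e]; exact hs
    by_cases huc : polar Q u c = 0
    · by_cases hcs : c ∈ Submodule.span F {p, u}
      · obtain ⟨s, t, rfl⟩ := Submodule.mem_span_pair.mp hcs
        have ht : t ≠ 0 := fun h => hlc.2.2.2.2 (by
          rw [h, zero_smul, add_zero]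
          exact Submodule.smul_mem _ _ (Submodule.mem_span_singleton_self p))
        apply hf
        have h := hfc.comb hQ hlc (β / (γ * β - δ * α) + (-(-δ / (γ * β - δ * α)) * t⁻¹) * s)
          ((-δ / (γ * β - δ * α)) * t⁻¹)
          ((-α / (γ * β - δ * α)) + (-(γ / (γ * β - δ * α)) * t⁻¹) * s)
          ((γ / (γ * β - δ * α)) * t⁻¹)
        convert! h using 1
        · conv_lhs => rw [ha']
          match_scalars <;> field_simp <;> ring
        · conv_lhs => rw [hb']
          match_scalars <;> field_simp <;> ring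
      · exact (inPlane c hlc.2.1 hlc.2.2.1 huc hcs).1 0 (by simpa using hfc)
    · obtain ⟨w, hw, hpw, huw, hcw, hwn⟩ :=
        exists_connecting hQ hn hpQ hp0 huQ hlc.2.1 hpu hlc.2.2.1 huc
      obtain ⟨hno, -⟩ := inPlane w hw hpw huw hwn
      have hlM : IsLine Q p w := ⟨hpQ, hw, hpw, hp0, fun h => hwn (by
        obtain ⟨s, hs⟩ := Submodule.mem_span_singleton.mp h
        exact Submodule.mem_span_pair.mpr ⟨s, 0, by rw [zero_smul, add_zero]; exact hs⟩)⟩
      have hfM : ¬ Full' H p w := fun h => hno 0 (by simpa using h)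
      obtain ⟨α', β', hne', hkey'⟩ := key_of_pinned hQ hpin hlM hfM
      have hun : u ∉ Submodule.span F {p, w} := by
        intro h
        obtain ⟨s, t, hst⟩ := Submodule.mem_span_pair.mp h
        by_cases ht : t = 0
        · rw [ht, zero_smul, add_zero] at hst
          have h0 : (s * γ - α) • a + (s * δ - β) • b = 0 := by
            rw [hp, hu] at hst
            linear_combination (norm := module) hst
          obtain ⟨h1, h2⟩ := hl.coeff h0
          exact hgd (by linear_combination δ * h1 - γ * h2)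
        · refine hwn (Submodule.mem_span_pair.mpr ⟨-(t⁻¹ * s), t⁻¹, ?_⟩)
          show -(t⁻¹ * s) • p + t⁻¹ • u = w
          linear_combination (norm := skip) (-t⁻¹) • hst
          match_scalars <;> field_simp <;> ring
      have hu' := hkey' u huQ (by exact hpu) (by rw [polar_comm]; exact huw) hun
      have hβ' : β' ≠ 0 := by
        intro h0
        have hα' := hne'.resolve_right (by simp [h0])
        obtain ⟨e, f, hef⟩ := hu'.2
        rw [h0, zero_smul, add_zero] at hef
        by_cases hf0 : f = 0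
        · -- the line itself would be contained
          rw [hf0, zero_smul, add_zero] at hef
          apply hf
          have hl2 : IsLine Q (α' • p) (u + e • p) := by
            refine ⟨by simp [form_smul, hpQ], by
              simp [form_add, form_smul, huQ, hpQ, polar_smul_right, polar_comm Q u p, hpu],
              by simp [polar_add_right, polar_smul_left, polar_smul_right, hpu, polar_self_eq, hpQ],
              smul_ne_zero hα' hp0, fun h => ?_⟩
            obtain ⟨s, hs⟩ := Submodule.mem_span_singleton.mp h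
            exact hun (Submodule.mem_span_pair.mpr ⟨s * α' - e, 0, by
              rw [zero_smul, add_zero, sub_smul, mul_smul, hs, add_sub_cancel_right]⟩)
          have h := hef.comb hQ hl2
            ((β / (γ * β - δ * α) - (-δ / (γ * β - δ * α)) * e) / α') (-δ / (γ * β - δ * α))
            (((-α / (γ * β - δ * α)) - (γ / (γ * β - δ * α)) * e) / α') (γ / (γ * β - δ * α))
          convert! h using 1
          · conv_lhs => rw [ha']
            match_scalars <;> field_simp <;> ring
          · conv_lhs => rw [hb']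
            match_scalars <;> field_simp <;> ring
        · have hl2 : IsLine Q (α' • p) (u + e • p + f • w) := by
            refine ⟨by simp [form_smul, hpQ], by
              simp [form_add, form_smul, huQ, hpQ, hw, polar_add_left, polar_smul_left,
                polar_smul_right, polar_comm Q u p, hpu, hpw, huw], by
              simp [polar_add_right, polar_smul_left, polar_smul_right, hpu, hpw, polar_self_eq,
                hpQ], smul_ne_zero hα' hp0, fun h => ?_⟩
            obtain ⟨s, hs⟩ := Submodule.mem_span_singleton.mp h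
            exact hun (Submodule.mem_span_pair.mpr ⟨s * α' - e, -f, by
              linear_combination (norm := module) hs⟩)
          have h := hef.comb hQ hl2 α'⁻¹ 0 (-(e / (f * α'))) f⁻¹
          refine hno f⁻¹ ?_
          convert! h using 1
          · rw [zero_smul, add_zero, smul_smul, inv_mul_cancel₀ hα', one_smul]
          · match_scalars <;> field_simp <;> ring
      by_cases hcM : c ∈ Submodule.span F {p, w}
      · obtain ⟨s, t, hst⟩ := Submodule.mem_span_pair.mp hcM
        apply huc
        rw [← hst, polar_add_right, polar_smul_right, polar_smul_right, huw, polar_comm Q u p, hpu]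
        simp
      · have h3 := (hkey' c hlc.2.1 hlc.2.2.1 (by rw [polar_comm]; exact hcw) hcM).1 1 0 0 0
          (by simpa using hfc)
        simp at h3
        exact hβ' h3
  have center : ∀ a b, IsLine Q a b → ¬ Full' H a b → ∀ α β : F, (α ≠ 0 ∨ β ≠ 0) →
      (∀ w, Q w = 0 → polar Q a w = 0 → polar Q b w = 0 → w ∉ Submodule.span F {a, b} →
        (∀ γ δ e f : F, Full' H (γ • a + δ • b) (w + e • a + f • b) → γ * β = δ * α) ∧
        ∃ e f : F, Full' H (α • a + β • b) (w + e • a + f • b)) →
      α • a + β • b ∈ pts H := by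
    intro a b hl hf α β hne hkey
    obtain ⟨L, rfl, rfl⟩ := exists_frame hQ hl
    have hR := L.polarND_form hQ
    have hd := L.finrank_W0
    obtain ⟨w, -, hw0, hwQ⟩ := OrthStab.exists_singular_mem (Q := L.form) ⊤
      (by rw [finrank_top]; omega)
    have hwn : (w : V) ∉ Submodule.span F {L.x, L.y} := by
      intro h
      obtain ⟨s, t, hst⟩ := Submodule.mem_span_pair.mp h
      have h1 : polar Q L.x' (w : V) = 0 := LineFrame.px' w
      have h2 : polar Q L.y' (w : V) = 0 := LineFrame.py' w
      rw [← hst] at h1 h2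
      simp [polar_add_right, polar_smul_right, polar_comm Q L.x' L.x, L.xx',
        polar_comm Q L.x' L.y, L.yx', polar_comm Q L.y' L.x, L.xy', polar_comm Q L.y' L.y,
        L.yy'] at h1 h2
      refine hw0 (Subtype.ext ?_)
      rw [← hst, h1, h2, zero_smul, zero_smul, add_zero]; rfl
    obtain ⟨e, f, hef⟩ := (hkey w hwQ (LineFrame.px w) (LineFrame.py w) hwn).2
    have hu0 : α • L.x + β • L.y ≠ 0 := fun h => by
      obtain ⟨h1, h2⟩ := hl.coeff h
      exact hne.elim (fun h' => h' h1) (fun h' => h' h2)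
    refine ⟨(w : V) + e • L.x + f • L.y, ⟨hl.comb α β, ?_, ?_, hu0, fun h => hwn ?_⟩, hef⟩
    · simp [form_add, form_smul, show Q (w : V) = 0 from hwQ, L.qx, L.qy, polar_add_left,
        polar_smul_left, polar_smul_right, L.xy, polar_comm Q (w : V) L.x, LineFrame.px,
        polar_comm Q (w : V) L.y, LineFrame.py]
    · simp [polar_add_left, polar_add_right, polar_smul_left, polar_smul_right, polar_self_eq,
        L.qx, L.qy, L.xy, polar_comm Q L.y L.x, LineFrame.px, LineFrame.py]
    · obtain ⟨s, hs⟩ := Submodule.mem_span_singleton.mp h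
      exact Submodule.mem_span_pair.mpr ⟨s * α - e, s * β - f, by
        linear_combination (norm := module) hs⟩
  have full_all : ∀ a b, IsLine Q a b → Full' H a b → ∀ s t : F, s ≠ 0 ∨ t ≠ 0 →
      s • a + t • b ∈ pts H := by
    intro a b hl hf s t hst
    by_cases hs : s = 0
    · have ht := hst.resolve_left (by simp [hs])
      refine ⟨a, ?_, ?_⟩
      · rw [hs, zero_smul, zero_add]
        refine IsLine.symm ⟨hl.1, by simp [form_smul, hl.2.1],
          by simp [polar_smul_right, hl.2.2.1], hl.2.2.2.1, fun h => hl.2.2.2.2 ?_⟩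
        have := Submodule.smul_mem _ t⁻¹ h
        rwa [smul_smul, inv_mul_cancel₀ ht, one_smul] at this
      · have h := hf.comb hQ hl s t 1 0
        simpa using h
    · refine ⟨b, ⟨hl.comb s t, hl.2.1, ?_, fun h => hs (hl.coeff h).1, fun h => hl.2.2.2.2 ?_⟩, ?_⟩
      · simp [polar_add_left, polar_smul_left, hl.2.2.1, polar_self_eq, hl.2.1]
      · obtain ⟨r, hr⟩ := Submodule.mem_span_singleton.mp h
        have h0 : (r * s) • a + (r * t - 1) • b = 0 := by
          linear_combination (norm := module) hr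
        obtain ⟨h1, h2⟩ := hl.coeff h0
        rw [(mul_eq_zero.mp h1).resolve_right hs, zero_mul, zero_sub, neg_eq_zero] at h2
        exact absurd h2 one_ne_zero
      · have h := hf.comb hQ hl s t 0 1
        simpa using h
  refine ⟨⟨?_, ?_, ?_, ?_⟩, ?_⟩
  · rintro x ⟨b, hl, -⟩; exact ⟨hl.1, hl.2.2.2.1⟩
  · rintro x ⟨b, hl, hf⟩ c hc
    have := full_all x b hl hf c 0 (Or.inl hc)
    rwa [zero_smul, add_zero] at this
  · intro a b ha hb hl
    by_cases hf : Full' H a b
    · exact full_all a b hl hf
    · exfalso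
      obtain ⟨α, β, hne, hkey⟩ := key_of_pinned hQ hpin hl hf
      by_cases hβ : β = 0
      · refine outside a b hl hf α β hne hkey 0 1 ?_ (by simpa using hb)
        simpa [hβ] using (hne.resolve_right (by simp [hβ])).symm
      · exact outside a b hl hf α β hne hkey 1 0 (by simpa using hβ) (by simpa using ha)
  · intro a b hl
    by_cases hf : Full' H a b
    · exact ⟨1, 0, full_all a b hl hf 1 0 (Or.inl one_ne_zero)⟩
    · obtain ⟨α, β, hne, hkey⟩ := key_of_pinned hQ hpin hl hf
      exact ⟨α, β, center a b hl hf α β hne hkey⟩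
  · intro a b hl hf
    obtain ⟨α, β, hne, hkey⟩ := key_of_pinned hQ hpin hl hf
    by_cases hβ : β = 0
    · refine ⟨b, hl.2.1, hl.symm.2.2.2.1, ?_⟩
      have := outside a b hl hf α β hne hkey 0 1
        (by simpa [hβ] using (hne.resolve_right (by simp [hβ])).symm)
      simpa using this
    · refine ⟨a, hl.1, hl.2.2.2.1, ?_⟩
      have := outside a b hl hf α β hne hkey 1 0 (by simpa using hβ)
      simpa using this

/-- All lines pinned: a vector is fixed up to scalars. -/
theorem exists_fixed_point (hQ : PolarND Q) (hn : 7 ≤ Module.finrank F V)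
    (hH : ¬ eichGroup Q ≤ H) (hpin : ∀ L : LineFrame Q, cenB L H ≠ ⊤ → Pinned L H) :
    ∃ v, v ≠ 0 ∧ ∀ g ∈ H, g.1 v ∈ F ∙ v := by
  obtain ⟨hX, hout⟩ := geomHyp_pts hQ hn hpin
  obtain ⟨a, b, hl, hf⟩ : ∃ a b, IsLine Q a b ∧ ¬ Full' H a b := by
    by_contra hcon
    simp only [not_exists, not_and, not_not] at hcon
    refine hH (OrthStab.eichGroup_le_of_singular hQ (by omega) fun u z hu hz huz => ?_)
    by_cases hzu : z ∈ F ∙ u
    · obtain ⟨c, rfl⟩ := Submodule.mem_span_singleton.mp hzu
      have := eich_add_smul hu (polar_zero_right (Q := Q) u) c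
      rw [zero_add, eich_zero] at this
      rw [this]; exact one_mem _
    by_cases hu0 : u = 0
    · subst hu0
      have : eich Q (0 : V) z = 1 := orth_ext fun v => by
        rw [eich_apply hu huz]; simp
      rw [this]; exact one_mem _
    have := hcon u z ⟨hu, hz, huz, hu0, hzu⟩ 1
    rwa [one_smul] at this
  obtain ⟨p, hp, hp0, hpX⟩ := hout a b hl hf
  obtain ⟨v, hv0, hv, hv'⟩ := exists_normal hQ hn hX hp hp0 hpX
  refine ⟨v, hv0, fun g hg => normal_stable hQ hn hv0 hv hv' fun x hx => ?_⟩
  obtain ⟨y, hly, hfy⟩ := hx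
  refine ⟨g.1 y, ⟨by rw [map_form]; exact hly.1, by rw [map_form]; exact hly.2.1,
    by rw [map_polar]; exact hly.2.2.1, by
      simpa using hly.2.2.2.1, fun h => hly.2.2.2.2 ?_⟩, fun c => ?_⟩
  · obtain ⟨r, hr⟩ := Submodule.mem_span_singleton.mp h
    exact Submodule.mem_span_singleton.mpr ⟨r, g.1.injective (by rw [map_smul]; exact hr)⟩
  · rw [← map_smul, ← conj_eich]
    exact mul_mem (mul_mem hg (hfy c)) (inv_mem hg)

/-- **A subgroup of small index fixes a point.** -/
theorem index_bound_or_fixed (hQ : PolarND Q) (hn : 7 ≤ Module.finrank F V) (hno : NoPlane Q)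
    (hH : ¬ eichGroup Q ≤ H) :
    (Nat.card F + 2) * Nat.card F ^ (Module.finrank F V - 3) ≤ H.relIndex (eichGroup Q) ∨
      ∃ v, v ≠ 0 ∧ ∀ g ∈ H, g.1 v ∈ F ∙ v := by
  by_cases h : (Nat.card F + 2) * Nat.card F ^ (Module.finrank F V - 3) ≤ H.relIndex (eichGroup Q)
  · exact Or.inl h
  refine Or.inr (exists_fixed_point hQ hn hH fun L hB => ?_)
  rcases line_bound hQ hn hB with h' | h' | h'
  · exact absurd h' h
  · exact h'
  · exact absurd h' (hno.not_exceptional L H)

end Cfsg.Agent.MinIdxClassical
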