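import Cfsg.Agent.MinIdxClassical.Main

/-!
Two kinds of traces on lines cannot occur together for a subgroup of small index (helper24).
-/

set_option autoImplicit false
set_option linter.unusedSectionVars false

namespace Cfsg.Agent.MinIdxClassical

open QuadraticMap Cfsg.Agent.UnitaryOrthogonal

/-- The conjugate of a subgroup. -/
def conjH {G : Type*} [Group G] (g : G) (H : Subgroup G) : Subgroup G where
  carrier := {y | g⁻¹ * y * g ∈ H}
  one_mem' := by
    show g⁻¹ * 1 * g ∈ H
    rw [mul_one, inv_mul_cancel]; exact one_mem H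
  mul_mem' := fun {a b} ha hb => by
    show g⁻¹ * (a * b) * g ∈ H
    have := mul_mem (s := H) ha hb
    simpa [mul_assoc] using this
  inv_mem' := fun {a} ha => by
    show g⁻¹ * a⁻¹ * g ∈ H
    have ha' : g⁻¹ * a * g ∈ H := ha
    have := inv_mem ha'
    simpa [mul_assoc] using this

theorem mem_conjH {G : Type*} [Group G] {g y : G} {H : Subgroup G} :
    y ∈ conjH g H ↔ g⁻¹ * y * g ∈ H := Iff.rfl

/-- Separate orbits of a subgroup on cosets add up. -/
theorem card_sum_relIndex_le {G : Type*} [Group G] [Finite G] {ι : Type*} [Fintype ι]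
    {E H Qs : Subgroup G} (g : ι → G) (hg : ∀ i, g i ∈ E) (hQ : Qs ≤ E)
    (hdist : ∀ i j, ∀ x ∈ Qs, (∀ y ∈ Qs, (g i)⁻¹ * y * g i ∈ H ↔
      (g j)⁻¹ * (x * y * x⁻¹) * g j ∈ H) → i = j) :
    ∑ i, (conjH (g i) H).relIndex Qs ≤ H.relIndex E := by
  let f : (Σ i, Qs ⧸ (conjH (g i) H).subgroupOf Qs) → E ⧸ H.subgroupOf E := fun p =>
    Quotient.liftOn' p.2
      (fun q => ((⟨q.1 * g p.1, mul_mem (hQ q.2) (hg _)⟩ : E) : E ⧸ H.subgroupOf E)) (by
        intro a b hab
        rw [QuotientGroup.leftRel_apply, Subgroup.mem_subgroupOf, mem_conjH] at hab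
        rw [QuotientGroup.eq, Subgroup.mem_subgroupOf]
        simpa [mul_assoc] using hab)
  have hf : Function.Injective f := by
    rintro ⟨i, qi⟩ ⟨j, qj⟩ he
    induction qi using QuotientGroup.induction_on with | H a => ?_
    induction qj using QuotientGroup.induction_on with | H b => ?_
    have hh : (a.1 * g i)⁻¹ * (b.1 * g j) ∈ H := by
      have := QuotientGroup.eq.mp he
      rwa [Subgroup.mem_subgroupOf] at this
    set h := (a.1 * g i)⁻¹ * (b.1 * g j) with hhdef
    have key : i = j := hdist i j ((b.1)⁻¹ * a.1) (mul_mem (inv_mem b.2) a.2) fun y _ => by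
      have e : (g j)⁻¹ * ((b.1)⁻¹ * a.1 * y * ((b.1)⁻¹ * a.1)⁻¹) * g j =
          h⁻¹ * ((g i)⁻¹ * y * g i) * h := by
        rw [hhdef]; group
      rw [e]
      refine ⟨fun hy => mul_mem (mul_mem (inv_mem hh) hy) hh, fun hy => ?_⟩
      simpa [mul_assoc] using mul_mem (mul_mem hh hy) (inv_mem hh)
    subst key
    refine Sigma.ext rfl (heq_of_eq (QuotientGroup.eq.mpr ?_))
    rw [Subgroup.mem_subgroupOf, mem_conjH]
    simpa [hhdef, mul_assoc] using hh
  have := Nat.card_le_card_of_injective f hf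
  rwa [Nat.card_sigma] at this

variable {F : Type*} [Field F] {V : Type*} [AddCommGroup V] [Module F V]
variable {Q : QuadraticForm F V}

theorem imA_conjH {L : LineFrame Q} {H : Subgroup (orth Q)} {g : orth Q}
    {Λ : (L.W0 × L.W0) ≃ₗ[F] (L.W0 × L.W0)} (hg : Acts L g Λ 1) :
    imA L (conjH g H) = mv Λ (imA L H) ∧ cenB L (conjH g H) = cenB L H := by
  constructor
  · ext a
    rw [mem_mv]
    constructor
    · rintro ⟨c, hc⟩
      obtain ⟨c', hc'⟩ := hg.inv.2.1 a c
      rw [inv_inv] at hc'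
      exact ⟨c', hc' ▸ hc⟩
    · rintro ⟨c, hc⟩
      obtain ⟨c', hc'⟩ := hg.2.1 (Λ.symm a) c
      rw [LinearEquiv.apply_symm_apply] at hc'
      exact ⟨c', by rw [mem_conjH, ← hc']; simpa [mul_assoc] using hc⟩
  · ext c
    show g⁻¹ * el L 0 c * g ∈ H ↔ el L 0 c ∈ H
    have := hg.inv.2.2 c
    rw [inv_inv, inv_one, Units.val_one, one_mul] at this
    rw [this]

theorem imA_heis {L : LineFrame Q} {H₁ H₂ : Subgroup (orth Q)} {x : orth Q} (hx : x ∈ heis L)
    (h : ∀ y ∈ heis L, y ∈ H₁ ↔ x * y * x⁻¹ ∈ H₂) : imA L H₁ = imA L H₂ := by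
  obtain ⟨b, e, rfl⟩ := hx
  ext a
  constructor
  · rintro ⟨c, hc⟩
    have h2 := (h _ ⟨a, c, rfl⟩).mp hc
    rw [el_inv, el_mul, el_mul, show b + a + -b = a by abel] at h2
    exact ⟨_, h2⟩
  · rintro ⟨c, hc⟩
    have h1 : (el L b e)⁻¹ * el L a c * el L b e ∈ heis L := by
      rw [el_inv, el_mul, el_mul]; exact ⟨_, _, rfl⟩
    have h2 := (h _ h1).mpr (by
      rw [show el L b e * ((el L b e)⁻¹ * el L a c * el L b e) * (el L b e)⁻¹ = el L a c by group]
      exact hc)
    rw [el_inv, el_mul, el_mul, show -b + a + b = a by abel] at h2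
    exact ⟨_, h2⟩

variable [Finite F] [Finite V]

theorem relIndex_heis_mul (L : LineFrame Q) (H : Subgroup (orth Q)) :
    H.relIndex (heis L) * (Nat.card (imA L H) * Nat.card (cenB L H)) =
      Nat.card L.W0 ^ 2 * Nat.card F := by
  haveI : Finite (orth Q) := orth_finite
  rw [← card_heis L, ← card_inter L H, Subgroup.relIndex,
    ← Nat.card_congr (Subgroup.subgroupOfEquivOfLe (inf_le_right : H ⊓ heis L ≤ heis L)).toEquiv,
    Subgroup.inf_subgroupOf_right, mul_comm, Subgroup.card_mul_index]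

/-- **Both kinds of traces give a large index.** -/
theorem mixed_bound {L : LineFrame Q} {H : Subgroup (orth Q)} (hd : 3 ≤ Module.finrank F L.W0)
    (hp : Pinned L H) {g : orth Q} (hg : g ∈ eichGroup Q) (he : Exceptional L (conjH g H)) :
    (Nat.card F + 2) * (Nat.card F * Nat.card L.W0) ≤ H.relIndex (eichGroup Q) := by
  classical
  haveI : Finite (orth Q) := orth_finite
  haveI := Module.finite_of_finite (R := F) (M := L.W0)
  haveI : Nontrivial L.W0 := Module.nontrivial_of_finrank_pos (R := F) (by omega)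
  haveI : Finite (AddSubgroup (L.W0 × L.W0)) := Finite.of_injective _ SetLike.coe_injective
  obtain ⟨hB, α, β, hne, hA, -⟩ := hp
  obtain ⟨hB', hd4, C, hC, -, hA'⟩ := he
  set O := orbSet L.form (imA L H)
  have rep : ∀ M : O, ∃ g' Λ', Acts L g' Λ' 1 ∧ Λ' ∈ pairGroup L.form ∧
      M.1 = mv Λ' (imA L H) := by
    rintro ⟨_, ⟨Λ', rfl⟩⟩
    obtain ⟨g', hg'⟩ := realise Λ'.2
    exact ⟨g', Λ'.1, hg', Λ'.2, rfl⟩
  choose g' Λ' hg' hΛ' hM' using rep
  haveI : Fintype O := Fintype.ofFinite O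
  let gi : Option O → orth Q := fun o => o.elim g g'
  have htr : ∀ {i j : Option O} {x : orth Q}, x ∈ heis L → (∀ y ∈ heis L,
      (gi i)⁻¹ * y * gi i ∈ H ↔ (gi j)⁻¹ * (x * y * x⁻¹) * gi j ∈ H) →
      imA L (conjH (gi i) H) = imA L (conjH (gi j) H) := fun hx h => imA_heis hx h
  have ho : ∀ M : O, imA L (conjH (gi (some M)) H) = M.1 := fun M =>
    ((imA_conjH (hg' M)).1).trans (hM' M).symm
  have hten : ∀ M : O, IsTensor F M.1 := fun M => by
    rw [hM' M]; exact (tensor_mv_iff (hΛ' M) _).mpr ⟨α, β, hne, hA⟩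
  have hno : ∀ M : O, M.1 ≠ imA L (conjH g H) := by
    intro M e
    obtain ⟨α', β', hne', hT⟩ := hten M
    rw [e] at hT
    have hall : C = ⊤ := eq_top_iff.mpr fun w _ => by
      obtain ⟨h1, h2⟩ := (hA' _).mp ((hT (α' • w, β' • w)).mpr ⟨w, rfl⟩)
      rcases hne' with h | h
      · exact (C.smul_mem_iff h).mp h1
      · exact (C.smul_mem_iff h).mp h2
    rw [hall, finrank_top, hd4] at hC
    omega
  have key := card_sum_relIndex_le (E := eichGroup Q) (H := H) (Qs := heis L) gi
    (fun o => by cases o with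
      | none => exact hg
      | some M => exact (hg' M).1) heis_le (fun i j x hx h => by
      have e := htr hx h
      cases i with
      | none =>
        cases j with
        | none => rfl
        | some M => exact absurd ((ho M).symm.trans e.symm) (hno M)
      | some M =>
        cases j with
        | none => exact absurd ((ho M).symm.trans e) (hno M)
        | some M' => rw [ho, ho] at e; rw [Subtype.ext e])
  have hcard : Nat.card (imA L H) = Nat.card L.W0 := by
    symm
    refine Nat.card_eq_of_bijective (fun w => ⟨(α • w, β • w), (hA _).mpr ⟨w, rfl⟩⟩)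
      ⟨fun w w' h => ?_, fun a => ?_⟩
    · have h' : (α • w, β • w) = (α • w', β • w') := congrArg Subtype.val h
      rcases hne with h0 | h0
      · exact smul_right_injective L.W0 h0 (congrArg Prod.fst h')
      · exact smul_right_injective L.W0 h0 (congrArg Prod.snd h')
    · obtain ⟨w, hw⟩ := (hA _).mp a.2
      exact ⟨w, Subtype.ext hw.symm⟩
  have hterm : ∀ o : Option O, (conjH (gi o) H).relIndex (heis L) = Nat.card L.W0 * Nat.card F := by
    intro o
    have h := relIndex_heis_mul L (conjH (gi o) H)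
    have hcards : Nat.card (imA L (conjH (gi o) H)) = Nat.card L.W0 ∧
        cenB L (conjH (gi o) H) = ⊥ := by
      cases o with
      | none =>
        refine ⟨?_, hB'⟩
        rw [Module.natCard_eq_pow_finrank (K := F) (V := L.W0), hd4,
          show (4 : ℕ) = 2 + 2 from rfl, pow_add, ← hC,
          ← Module.natCard_eq_pow_finrank (K := F) (V := C), ← Nat.card_prod]
        exact Nat.card_congr
          { toFun := fun a => (⟨a.1.1, ((hA' _).mp a.2).1⟩, ⟨a.1.2, ((hA' _).mp a.2).2⟩)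
            invFun := fun p => ⟨(p.1, p.2), (hA' _).mpr ⟨p.1.2, p.2.2⟩⟩
            left_inv := fun a => rfl
            right_inv := fun p => rfl }
      | some M =>
        refine ⟨?_, (imA_conjH (hg' M)).2.trans hB⟩
        rw [show gi (some M) = g' M from rfl, (imA_conjH (hg' M)).1, ← hcard]
        exact Nat.card_congr ((Λ' M).symm.toEquiv.subtypeEquiv fun a => Iff.rfl)
    rw [hcards.1, hcards.2, AddSubgroup.card_bot, mul_one] at h
    refine Nat.eq_of_mul_eq_mul_right (Nat.card_pos (α := L.W0)) ?_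
    rw [h]; ring
  rw [Finset.sum_congr rfl (fun o _ => hterm o), Finset.sum_const, smul_eq_mul, Finset.card_univ,
    Fintype.card_option, ← Nat.card_eq_fintype_card] at key
  refine le_trans ?_ key
  have := card_orbit_tensor (R := L.form) hne hA
  have h1 : Nat.card F + 2 ≤ Nat.card O + 1 := by
    have h' : Nat.card F + 1 ≤ Nat.card O := this
    omega
  calc (Nat.card F + 2) * (Nat.card F * Nat.card L.W0)
      ≤ (Nat.card O + 1) * (Nat.card F * Nat.card L.W0) := Nat.mul_le_mul_right _ h1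
    _ = _ := by ring

/-- The image of a frame. -/
def LineFrame.map (L : LineFrame Q) (g : orth Q) : LineFrame Q where
  x := g.1 L.x
  y := g.1 L.y
  x' := g.1 L.x'
  y' := g.1 L.y'
  qx := by rw [map_form]; exact L.qx
  qy := by rw [map_form]; exact L.qy
  qx' := by rw [map_form]; exact L.qx'
  qy' := by rw [map_form]; exact L.qy'
  xy := by rw [map_polar]; exact L.xy
  xy' := by rw [map_polar]; exact L.xy'
  yx' := by rw [map_polar]; exact L.yx'
  x'y' := by rw [map_polar]; exact L.x'y'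
  xx' := by rw [map_polar]; exact L.xx'
  yy' := by rw [map_polar]; exact L.yy'

theorem frame_ext {L L' : LineFrame Q} (h1 : L.x = L'.x) (h2 : L.y = L'.y) (h3 : L.x' = L'.x')
    (h4 : L.y' = L'.y') : L = L' := by
  cases L; cases L'
  simp only at h1 h2 h3 h4
  subst h1 h2 h3 h4
  rfl

theorem mem_map_W0 (L : LineFrame Q) (g : orth Q) (w : L.W0) : g.1 (w : V) ∈ (L.map g).W0 :=
  (L.map g).mem_W0.mpr ⟨(map_polar g _ _).trans (LineFrame.px w),
    (map_polar g _ _).trans (LineFrame.px' w), (map_polar g _ _).trans (LineFrame.py w),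
    (map_polar g _ _).trans (LineFrame.py' w)⟩

/-- The isomorphism of the orthogonals. -/
noncomputable def mapW (L : LineFrame Q) (g : orth Q) : L.W0 ≃ₗ[F] (L.map g).W0 where
  toFun w := ⟨g.1 (w : V), mem_map_W0 L g w⟩
  invFun w := ⟨g.1.symm (w : V), L.mem_W0.mpr (by
    have e : ∀ a : V, polar Q a (g.1.symm (w : V)) = polar Q (g.1 a) (w : V) := fun a => by
      rw [← map_polar g a, LinearEquiv.apply_symm_apply]
    simp only [e]
    exact ⟨LineFrame.px w, LineFrame.px' w, LineFrame.py w, LineFrame.py' w⟩)⟩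
  map_add' a b := Subtype.ext (map_add g.1 _ _)
  map_smul' c a := Subtype.ext (map_smul g.1 c _)
  left_inv w := Subtype.ext (by simp)
  right_inv w := Subtype.ext (by simp)

theorem el_map (L : LineFrame Q) (g : orth Q) (a : L.W0 × L.W0) (c : F) :
    el (L.map g) (mapW L g a.1, mapW L g a.2) c = g * el L a c * g⁻¹ := by
  simp only [el]
  rw [show ∀ p r s : orth Q, g * (p * r * s) * g⁻¹ = g * p * g⁻¹ * (g * r * g⁻¹) * (g * s * g⁻¹) from
    fun p r s => by group, conj_eich, conj_eich, conj_eich, map_smul]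
  rfl

theorem cenB_map (L : LineFrame Q) (g : orth Q) (H : Subgroup (orth Q)) :
    cenB (L.map g) H = cenB L (conjH g⁻¹ H) := by
  ext c
  show el (L.map g) 0 c ∈ H ↔ g⁻¹⁻¹ * el L 0 c * g⁻¹ ∈ H
  rw [inv_inv, ← el_map]
  simp only [Prod.fst_zero, Prod.snd_zero, map_zero]
  rfl

theorem imA_map (L : LineFrame Q) (g : orth Q) (H : Subgroup (orth Q)) (a : L.W0 × L.W0) :
    a ∈ imA L (conjH g⁻¹ H) ↔ (mapW L g a.1, mapW L g a.2) ∈ imA (L.map g) H := by
  refine exists_congr fun c => ?_
  rw [mem_conjH, inv_inv, el_map]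

theorem exceptional_map (L : LineFrame Q) (g : orth Q) {H : Subgroup (orth Q)}
    (h : Exceptional (L.map g) H) : Exceptional L (conjH g⁻¹ H) := by
  obtain ⟨hB, hd, C, hC, hs, hA⟩ := h
  refine ⟨(cenB_map L g H).symm.trans hB, (mapW L g).finrank_eq.trans hd,
    C.comap (mapW L g).toLinearMap, ?_, fun c hc => ?_, fun a => (imA_map L g H a).trans (hA _)⟩
  · rw [← hC]
    exact LinearEquiv.finrank_eq ((mapW L g).ofSubmodule' C)
  · have := hs _ hc
    simp only [mapW] at this
    simpa using this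

theorem relIndex_conjH (g : orth Q) (H : Subgroup (orth Q)) :
    (conjH g H).relIndex (eichGroup Q) = H.relIndex (eichGroup Q) := by
  have e : conjH g H = H.comap (MulAut.conj g⁻¹).toMonoidHom := by
    ext y
    simp [mem_conjH]
  rw [e, Subgroup.relIndex_comap]
  congr 1
  ext y
  constructor
  · rintro ⟨z, hz, rfl⟩
    exact eichGroup_normal.conj_mem z hz g⁻¹
  · intro hy
    exact ⟨g * y * g⁻¹, eichGroup_normal.conj_mem y hy g, by simp [mul_assoc]⟩

theorem lift_perp {a b : V} (ha : Q a = 0) (hb : Q b = 0)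
    {g : orth (Q.comp (OrthStab.perp₂ Q a b).subtype)}
    (hg : g ∈ eichGroup (Q.comp (OrthStab.perp₂ Q a b).subtype)) :
    ∃ G ∈ eichGroup Q, G.1 a = a ∧ G.1 b = b ∧
      ∀ v : OrthStab.perp₂ Q a b, G.1 (v : V) = (g.1 v : V) := by
  unfold eichGroup at hg
  induction hg using Subgroup.closure_induction with
  | mem x hx =>
    obtain ⟨u, z, hu, hz, rfl⟩ := hx
    have hu' : Q (u : V) = 0 := hu
    have hz' : polar Q (u : V) (z : V) = 0 := hz
    obtain ⟨u1, u2⟩ := OrthStab.mem_perp₂.mp u.2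
    obtain ⟨z1, z2⟩ := OrthStab.mem_perp₂.mp z.2
    refine ⟨eich Q (u : V) (z : V), eich_mem_eichGroup _ _, ?_, ?_, fun v => ?_⟩
    · rw [eich_apply hu' hz', polar_comm Q (u : V), u1, polar_comm Q (z : V), z1]; simp
    · rw [eich_apply hu' hz', polar_comm Q (u : V), u2, polar_comm Q (z : V), z2]; simp
    · rw [eich_apply hu' hz', eich_apply hu hz]
      rfl
  | one => exact ⟨1, one_mem _, rfl, rfl, fun v => rfl⟩
  | mul x y _ _ hx hy =>
    obtain ⟨G, hG, G1, G2, G3⟩ := hx
    obtain ⟨K, hK, K1, K2, K3⟩ := hy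
    refine ⟨G * K, mul_mem hG hK, ?_, ?_, fun v => ?_⟩
    · rw [coe_mul_apply, K1, G1]
    · rw [coe_mul_apply, K2, G2]
    · rw [coe_mul_apply, K3, G3]; rfl
  | inv x _ hx =>
    obtain ⟨G, hG, G1, G2, G3⟩ := hx
    refine ⟨G⁻¹, inv_mem hG, ?_, ?_, fun v => ?_⟩
    · nth_rewrite 1 [← G1]; exact coe_inv_apply_apply G a
    · nth_rewrite 1 [← G2]; exact coe_inv_apply_apply G b
    · refine G.1.injective ?_
      rw [coe_apply_inv_apply, G3, coe_apply_inv_apply]

theorem pair_transitive (hQ : PolarND Q) (h5 : 5 ≤ Module.finrank F V) {a b a' b' : V}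
    (ha : Q a = 0) (hb : Q b = 0) (hab : polar Q a b = 1) (ha' : Q a' = 0) (hb' : Q b' = 0)
    (hab' : polar Q a' b' = 1) : ∃ g ∈ eichGroup Q, g.1 a = a' ∧ g.1 b = b' := by
  have ne : ∀ {u v : V}, polar Q u v = 1 → u ≠ 0 := fun h h0 => by
    rw [h0, polar_zero_left] at h; exact zero_ne_one h
  obtain ⟨g, hg, hga⟩ := OrthStab.exists_eich_map_of_form_eq hQ h5 (ne hab) (ne hab')
    (ha.trans ha'.symm)
  set c := g.1 b
  have hc : Q c = 0 := by rw [map_form]; exact hb
  have hac : polar Q a' c = 1 := by rw [← hga, map_polar]; exact hab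
  set w := b' - c - polar Q c b' • a' with hw
  have hw1 : polar Q a' w = 0 := by
    simp [hw, polar_sub_right, polar_smul_right, hab', hac, polar_self_eq, ha']
  refine ⟨eich Q a' w * g, mul_mem (eich_mem_eichGroup _ _) hg, ?_, ?_⟩
  · rw [coe_mul_apply, hga, eich_apply ha' hw1, polar_self_eq, ha', polar_comm Q w a', hw1]
    simp
  · rw [coe_mul_apply]
    show (eich Q a' w).1 c = b'
    have hwc : polar Q w c = 0 := by
      simp [hw, polar_sub_left, polar_smul_left, hac, polar_self_eq, hc, polar_comm Q b' c]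
    have hQw : Q w = -polar Q c b' := by
      rw [hw, sub_eq_add_neg, sub_eq_add_neg, form_add, form_add, ← neg_smul, form_smul, ha', hb',
        QuadraticMap.map_neg, hc]
      simp [polar_add_left, polar_smul_right, polar_comm Q b' a', hab', polar_comm Q c a', hac,
        polar_comm Q b' c]
    rw [eich_apply ha' hw1, hac, hwc, hQw]
    rw [hw]
    module

/-- Root elements act transitively on frames. -/
theorem frame_transitive (hQ : PolarND Q) (hn : 7 ≤ Module.finrank F V) (L L' : LineFrame Q) :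
    ∃ g ∈ eichGroup Q, L.map g = L' := by
  haveI := Module.finite_of_finite (R := F) (M := V)
  obtain ⟨g, hg, g1, g2⟩ := pair_transitive hQ (by omega) L.qx L.qx' L.xx' L'.qx L'.qx' L'.xx'
  have hy : g.1 L.y ∈ OrthStab.perp₂ Q L'.x L'.x' := by
    rw [OrthStab.mem_perp₂, ← g1, ← g2, map_polar, map_polar]
    exact ⟨L.xy, by rw [polar_comm]; exact L.yx'⟩
  have hy' : g.1 L.y' ∈ OrthStab.perp₂ Q L'.x L'.x' := by
    rw [OrthStab.mem_perp₂, ← g1, ← g2, map_polar, map_polar]
    exact ⟨L.xy', L.x'y'⟩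
  have hP := OrthStab.polarND_perp₂ hQ L'.qx L'.qx' L'.xx'
  have hdim := OrthStab.finrank_perp₂ L'.qx L'.qx' L'.xx'
  obtain ⟨k, hk, k1, k2⟩ := pair_transitive hP (by omega)
    (a := ⟨g.1 L.y, hy⟩) (b := ⟨g.1 L.y', hy'⟩)
    (a' := ⟨L'.y, OrthStab.mem_perp₂.mpr ⟨L'.xy, by rw [polar_comm]; exact L'.yx'⟩⟩)
    (b' := ⟨L'.y', OrthStab.mem_perp₂.mpr ⟨L'.xy', L'.x'y'⟩⟩)
    (by show Q (g.1 L.y) = 0; rw [map_form]; exact L.qy)
    (by show Q (g.1 L.y') = 0; rw [map_form]; exact L.qy')
    (by show polar Q (g.1 L.y) (g.1 L.y') = 1; rw [map_polar]; exact L.yy')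
    L'.qy L'.qy' L'.yy'
  obtain ⟨G, hG, G1, G2, G3⟩ := lift_perp L'.qx L'.qx' hk
  refine ⟨G * g, mul_mem hG hg, frame_ext ?_ ?_ ?_ ?_⟩
  · show (G * g).1 L.x = _
    rw [coe_mul_apply, g1, G1]
  · show (G * g).1 L.y = _
    rw [coe_mul_apply, G3 ⟨_, hy⟩, k1]
  · show (G * g).1 L.x' = _
    rw [coe_mul_apply, g2, G2]
  · show (G * g).1 L.y' = _
    rw [coe_mul_apply, G3 ⟨_, hy'⟩, k2]

/-- **In small index no line is pinned or some point is fixed.** -/
theorem no_pinned_or_fixed (hQ : PolarND Q) (hn : 7 ≤ Module.finrank F V) {H : Subgroup (orth Q)}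
    (hH : ¬ eichGroup Q ≤ H)
    (hk : H.relIndex (eichGroup Q) < (Nat.card F + 2) * Nat.card F ^ (Module.finrank F V - 3)) :
    (∃ v, v ≠ 0 ∧ ∀ g ∈ H, g.1 v ∈ F ∙ v) ∨
      ((∀ L : LineFrame Q, ¬ Pinned L H) ∧ ∃ L : LineFrame Q, Exceptional L H) := by
  have hcases : ∀ L : LineFrame Q, cenB L H ≠ ⊤ → Pinned L H ∨ Exceptional L H := fun L hB => by
    rcases line_bound hQ hn hB with h | h
    · omega
    · exact h
  by_cases hex : ∃ L : LineFrame Q, Exceptional L H
  swap
  · exact Or.inl (exists_fixed_point hQ hn hH fun L hB =>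
      (hcases L hB).resolve_right fun h => hex ⟨L, h⟩)
  refine Or.inr ⟨fun L hp => ?_, hex⟩
  obtain ⟨L2, h2⟩ := hex
  obtain ⟨g, hg, rfl⟩ := frame_transitive hQ hn L L2
  haveI := Module.finite_of_finite (R := F) (M := V)
  have hdW := L.finrank_W0
  have h := mixed_bound (L := L) (by omega) hp (inv_mem hg) (exceptional_map L g h2)
  have hw : Nat.card F ^ (Module.finrank F V - 3) ≤ Nat.card F * Nat.card L.W0 := by
    rw [Module.natCard_eq_pow_finrank (K := F) (V := L.W0), ← pow_succ']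
    exact Nat.pow_le_pow_right Nat.card_pos (by omega)
  exact absurd ((Nat.mul_le_mul_left _ hw).trans h) (not_le.mpr hk)

end Cfsg.Agent.MinIdxClassical
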