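import Cfsg.Agent.MinIdxClassical.Main
import Cfsg.Agent.MaxSub.OrthVectorGL

/-!
Orbits of lines and the transfer to `PΩ` (helper24).
-/

set_option autoImplicit false
set_option linter.unusedSectionVars false

namespace Cfsg.Agent.MinIdxClassical

open QuadraticMap Cfsg.Agent.UnitaryOrthogonal

section Lines

variable {F : Type*} [Field F] [Finite F] {V : Type*} [AddCommGroup V] [Module F V] [Finite V]
variable {Q : QuadraticForm F V}

/-- The stabiliser of the line of a vector. -/
def lineStab (Q : QuadraticForm F V) (v : V) : Subgroup (orth Q) where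
  carrier := {g | F ∙ g.1 v = F ∙ v}
  one_mem' := rfl
  mul_mem' := by
    intro g h (hg : F ∙ g.1 v = F ∙ v) (hh : F ∙ h.1 v = F ∙ v)
    show F ∙ g.1 (h.1 v) = F ∙ v
    have := congrArg (Submodule.map g.1.toLinearMap) hh
    rw [Submodule.map_span, Submodule.map_span, Set.image_singleton, Set.image_singleton] at this
    exact this.trans hg
  inv_mem' := by
    intro g (hg : F ∙ g.1 v = F ∙ v)
    show F ∙ g⁻¹.1 v = F ∙ v
    have := congrArg (Submodule.map g⁻¹.1.toLinearMap) hg
    rw [Submodule.map_span, Submodule.map_span, Set.image_singleton, Set.image_singleton] at this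
    simpa using this.symm

theorem mem_lineStab {g : orth Q} {v : V} (hv : v ≠ 0) :
    g ∈ lineStab Q v ↔ g.1 v ∈ F ∙ v := by
  refine ⟨fun (h : F ∙ g.1 v = F ∙ v) => h ▸ Submodule.mem_span_singleton_self _, fun h => ?_⟩
  obtain ⟨t, ht⟩ := Submodule.mem_span_singleton.mp h
  have ht0 : t ≠ 0 := fun h0 => hv (g.1.injective (by rw [map_zero, ← ht, h0, zero_smul]))
  show F ∙ g.1 v = F ∙ v
  rw [← ht, Submodule.span_singleton_smul_eq (Ne.isUnit ht0)]

/-- The lines of value `c`. -/
def lines (Q : QuadraticForm F V) (c : F) : Set (Submodule F V) :=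
  {l | ∃ w, w ≠ 0 ∧ Q w = c ∧ F ∙ w = l}

/-- The number of vectors of value `c` on one of these lines. -/
noncomputable def mult (c : F) : ℕ := Nat.card {t : F // t ≠ 0 ∧ t * t * c = c}

theorem card_vectors (Q : QuadraticForm F V) (c : F) :
    Nat.card {w : V // w ≠ 0 ∧ Q w = c} = Nat.card (lines Q c) * mult c := by
  classical
  choose rep hrep using fun l : lines Q c => l.2
  rw [mult, ← Nat.card_prod]
  symm
  refine Nat.card_eq_of_bijective (fun p => ⟨p.2.1 • rep p.1, smul_ne_zero p.2.2.1 (hrep p.1).1,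
    by rw [form_smul, (hrep p.1).2.1, p.2.2.2]⟩) ⟨?_, ?_⟩
  · intro p p' h
    have h' : p.2.1 • rep p.1 = p'.2.1 • rep p'.1 := congrArg Subtype.val h
    have hl : p.1 = p'.1 := by
      apply Subtype.ext
      rw [← (hrep p.1).2.2, ← (hrep p'.1).2.2,
        ← Submodule.span_singleton_smul_eq (Ne.isUnit p.2.2.1) (rep p.1), h',
        Submodule.span_singleton_smul_eq (Ne.isUnit p'.2.2.1)]
    refine Prod.ext hl (Subtype.ext ?_)
    rw [← hl] at h'
    exact smul_left_injective F (hrep p.1).1 h'
  · rintro ⟨w, hw0, hwQ⟩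
    set l : lines Q c := ⟨F ∙ w, w, hw0, hwQ, rfl⟩
    obtain ⟨h0, hQr, hr⟩ := hrep l
    have : w ∈ F ∙ rep l := by rw [hr]; exact Submodule.mem_span_singleton_self w
    obtain ⟨t, ht⟩ := Submodule.mem_span_singleton.mp this
    refine ⟨(l, ⟨t, fun h => hw0 (by rw [← ht, h, zero_smul]), ?_⟩), Subtype.ext ht⟩
    rw [← ht, form_smul, hQr] at hwQ
    exact hwQ

theorem mult_zero : mult (0 : F) = Nat.card F - 1 := by
  classical
  haveI := Fintype.ofFinite F
  rw [mult, ← Nat.card_units]
  exact Nat.card_congr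
    { toFun := fun t => Units.mk0 t.1 t.2.1
      invFun := fun t => ⟨t, t.ne_zero, by simp⟩
      left_inv := fun t => rfl
      right_inv := fun t => Units.ext rfl }

theorem mult_two (h2 : (2 : F) = 0) {c : F} (hc : c ≠ 0) : mult c = 1 := by
  rw [mult, Nat.card_eq_one_iff_unique]
  refine ⟨⟨fun s t => Subtype.ext ?_⟩, ⟨⟨1, one_ne_zero, by simp⟩⟩⟩
  have e : ∀ r : {t : F // t ≠ 0 ∧ t * t * c = c}, r.1 = 1 := fun r => by
    have h1 : r.1 * r.1 = 1 := by
      have := r.2.2
      field_simp at this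
      linear_combination this
    have h3 : (r.1 - 1) * (r.1 - 1) = 0 := by linear_combination h1 - r.1 * h2 + h2
    exact sub_eq_zero.mp (mul_self_eq_zero.mp h3)
  rw [e s, e t]

theorem mult_odd (h2 : (2 : F) ≠ 0) {c : F} (hc : c ≠ 0) : mult c = 2 := by
  classical
  rw [mult, ← Nat.card_congr (Equiv.ofBijective
    (fun b : Bool => cond b (⟨1, one_ne_zero, by simp⟩ : {t : F // t ≠ 0 ∧ t * t * c = c})
      ⟨-1, by simp, by simp⟩) ⟨?_, ?_⟩), Nat.card_eq_fintype_card, Fintype.card_bool]
  · intro a b h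
    have hne : (1 : F) ≠ -1 := fun e => h2 (by linear_combination e)
    cases a <;> cases b <;> simp [hne, hne.symm] at h ⊢
  · intro r
    have h1 : r.1 * r.1 = 1 := by
      have := r.2.2
      field_simp at this
      linear_combination this
    rcases mul_self_eq_one_iff.1 h1 with e | e
    · exact ⟨true, Subtype.ext e.symm⟩
    · exact ⟨false, Subtype.ext e.symm⟩

theorem mult_le_two {c : F} (hc : c ≠ 0) : mult c ≤ 2 := by
  by_cases h2 : (2 : F) = 0
  · rw [mult_two h2 hc]; omega
  · rw [mult_odd h2 hc]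

theorem relIndex_lineStab (hQ : PolarND Q) (h5 : 5 ≤ Module.finrank F V) {v : V} (hv : v ≠ 0) :
    (lineStab Q v).relIndex (eichGroup Q) = Nat.card (lines Q (Q v)) := by
  haveI : Finite (orth Q) := orth_finite
  rw [Subgroup.relIndex, Subgroup.index]
  have hwd : ∀ g h : eichGroup Q, g⁻¹ * h ∈ (lineStab Q v).subgroupOf (eichGroup Q) ↔
      (F ∙ g.1.1 v = F ∙ h.1.1 v) := by
    intro g h
    rw [Subgroup.mem_subgroupOf]
    show F ∙ (g.1⁻¹).1 (h.1.1 v) = F ∙ v ↔ _
    constructor
    · intro e
      have := congrArg (Submodule.map g.1.1.toLinearMap) e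
      rw [Submodule.map_span, Submodule.map_span, Set.image_singleton, Set.image_singleton] at this
      simpa using this.symm
    · intro e
      have := congrArg (Submodule.map (g.1⁻¹).1.toLinearMap) e
      rw [Submodule.map_span, Submodule.map_span, Set.image_singleton, Set.image_singleton] at this
      simpa using this.symm
  refine Nat.card_eq_of_bijective (Quotient.lift
    (fun g : eichGroup Q => (⟨F ∙ g.1.1 v, g.1.1 v, by simpa using hv, map_form _ _, rfl⟩ :
      lines Q (Q v))) fun g h e => Subtype.ext ((hwd g h).mp (QuotientGroup.leftRel_apply.mp e)))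
    ⟨?_, ?_⟩
  · intro a b h
    induction a using Quotient.inductionOn with | _ g => ?_
    induction b using Quotient.inductionOn with | _ g' => ?_
    exact Quotient.sound (QuotientGroup.leftRel_apply.mpr
      ((hwd g g').mpr (congrArg Subtype.val h)))
  · rintro ⟨_, w, hw0, hwQ, rfl⟩
    obtain ⟨g, hg, hgw⟩ := OrthStab.exists_eich_map_of_form_eq hQ h5 hv hw0 hwQ.symm
    exact ⟨Quotient.mk _ ⟨g, hg⟩, Subtype.ext (by show F ∙ g.1 v = _; rw [hgw])⟩

/-- **The lower bound from a fixed point.** -/
theorem card_lines_le (hQ : PolarND Q) (h5 : 5 ≤ Module.finrank F V) {H : Subgroup (orth Q)}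
    {v : V} (hv : v ≠ 0) (h : ∀ g ∈ H, g.1 v ∈ F ∙ v) :
    Nat.card (lines Q (Q v)) ≤ H.relIndex (eichGroup Q) := by
  rw [← relIndex_lineStab hQ h5 hv]
  haveI : Finite (orth Q) := orth_finite
  refine Subgroup.relIndex_le_of_le_left (fun g hg => (mem_lineStab hv).mpr (h g hg)) ?_
  rw [Subgroup.relIndex]
  exact Subgroup.index_ne_zero_of_finite

/-- **Minimal index for the group generated by root elements.** -/
theorem minIndex (hQ : PolarND Q) (hn : 7 ≤ Module.finrank F V) (hno : NoPlane Q) {N : ℕ}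
    (hN : N ≤ (Nat.card F + 2) * Nat.card F ^ (Module.finrank F V - 3))
    (hlines : ∀ c, N * mult c ≤ Nat.card {w : V // w ≠ 0 ∧ Q w = c})
    {H : Subgroup (orth Q)} (hH : ¬ eichGroup Q ≤ H) : N ≤ H.relIndex (eichGroup Q) := by
  rcases index_bound_or_fixed hQ hn hno hH with h | ⟨v, hv, hfix⟩
  · exact hN.trans h
  · refine le_trans ?_ (card_lines_le hQ (by omega) hv hfix)
    have h := hlines (Q v)
    rw [card_vectors] at h
    have hpos : 0 < mult (Q v) := by
      haveI : Nonempty {t : F // t ≠ 0 ∧ t * t * Q v = Q v} := ⟨⟨1, one_ne_zero, by simp⟩⟩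
      exact Nat.card_pos
    exact Nat.le_of_mul_le_mul_right h hpos

/-- A central element fixes every singular line. -/
theorem central_apply (hQ : PolarND Q) (h5 : 5 ≤ Module.finrank F V) {z : orth Q}
    (hz : ∀ g ∈ eichGroup Q, g * z = z * g) {u : V} (hu : Q u = 0) (hu0 : u ≠ 0) :
    ∃ t : F, z.1 u = t • u := by
  haveI := Module.finite_of_finite (R := F) (M := V)
  set x := z.1 u
  have hfx : ∀ v, polar Q u v = 0 → (eich Q u v).1 x = x := fun v hv => by
    have e := congrArg (fun g : orth Q => g.1 u) (hz _ (eich_mem_eichGroup u v))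
    simp only [coe_mul_apply] at e
    rw [eich_apply hu hv u, polar_self_eq, hu, polar_comm Q v u, hv] at e
    simpa using e
  obtain ⟨u', hu', huu'⟩ := exists_pair hQ.nonsing hu hu0
  have hx0 : polar Q u x = 0 := by
    by_contra hne
    have := OrthStab.finrank_perp₂ hu hu' huu'
    haveI := Module.nontrivial_of_finrank_pos (R := F) (M := OrthStab.perp₂ Q u u') (by omega)
    obtain ⟨v, hv⟩ := exists_ne (0 : OrthStab.perp₂ Q u u')
    obtain ⟨hv1, hv2⟩ := OrthStab.mem_perp₂.mp v.2
    have h := hfx v hv1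
    rw [eich_apply hu hv1] at h
    have e : polar Q u x • (v : V) = (polar Q (v : V) x + Q (v : V) * polar Q u x) • u := by
      linear_combination (norm := module) h
    have e2 := congrArg (polarBilin Q u') e
    simp [hv2, show polar Q u' u = 1 by rw [polar_comm]; exact huu'] at e2
    rw [← e2, zero_smul, smul_eq_zero] at e
    exact hv (Subtype.ext (e.resolve_left hne))
  refine ⟨polar Q u' x, sub_eq_zero.mp (hQ _ fun y => ?_)⟩
  have h := hfx (y - polar Q u y • u') (by simp [polar_sub_right, polar_smul_right, huu'])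
  rw [eich_apply hu (by simp [polar_sub_right, polar_smul_right, huu']), hx0] at h
  simp [hu0, polar_sub_left, polar_smul_left] at h
  simp [polar_sub_left, polar_smul_left, polar_comm Q x y, polar_comm Q u y] at h ⊢
  linear_combination h

end Lines

section Transfer

variable {F : Type*} [Field F] [Finite F] {ι : Type} [Fintype ι] [DecidableEq ι]
variable {Q : QuadraticForm F (ι → F)}

open OrthStab in
/-- `Ω` is the group generated by root elements. -/
noncomputable def omegaEquiv (hnd : PolarND Q) (h5 : 5 ≤ Module.finrank F (ι → F)) :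
    Cfsg.Omega F ⇑Q ≃* eichGroup Q where
  toFun g := ⟨toOrth g.1, (mem_omega_iff hnd h5 g.1).mp g.2⟩
  invFun g := ⟨(isometryGroupEquiv Q (f := ⇑Q) (fun _ => rfl)).symm g.1,
    (mem_omega_iff hnd h5 _).mpr (by simp [toOrth])⟩
  left_inv g := Subtype.ext (by simp [toOrth])
  right_inv g := Subtype.ext (by simp [toOrth])
  map_mul' g h := Subtype.ext (by simp [toOrth])

theorem index_ge_transfer (hnd : PolarND Q) (h5 : 5 ≤ Module.finrank F (ι → F)) {N : ℕ}
    (h : ∀ H : Subgroup (orth Q), ¬ eichGroup Q ≤ H → N ≤ H.relIndex (eichGroup Q))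
    (H : Subgroup (Cfsg.POmega F ⇑Q)) (hH : H ≠ ⊤) : N ≤ H.index := by
  set π := QuotientGroup.mk' (Subgroup.center (Cfsg.Omega F ⇑Q))
  have hπ : Function.Surjective π := QuotientGroup.mk'_surjective _
  set H2 := (H.comap π).comap (omegaEquiv hnd h5).symm.toMonoidHom with hH2
  have hsurj : Function.Surjective (omegaEquiv hnd h5).symm.toMonoidHom :=
    (omegaEquiv hnd h5).symm.surjective
  have hidx : H2.index = H.index := by
    rw [hH2, Subgroup.index_comap_of_surjective _ hsurj, Subgroup.index_comap_of_surjective _ hπ]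
  have hne : H2 ≠ ⊤ := fun e => hH (eq_top_iff.mpr fun x _ => by
    obtain ⟨y, rfl⟩ := hπ x
    obtain ⟨g, rfl⟩ := hsurj y
    have : g ∈ H2 := e ▸ trivial
    exact this)
  set H3 := H2.map (eichGroup Q).subtype
  have e : H3.subgroupOf (eichGroup Q) = H2 :=
    Subgroup.comap_map_eq_self_of_injective (Subgroup.subtype_injective _) H2
  have := h H3 fun hle => hne (by rw [← e, Subgroup.subgroupOf_eq_top]; exact hle)
  rwa [Subgroup.relIndex, e, hidx] at this

theorem exists_index_transfer (hnd : PolarND Q) (h5 : 5 ≤ Module.finrank F (ι → F))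
    (K : Subgroup (orth Q))
    (hK : ∀ z ∈ eichGroup Q, (∀ g ∈ eichGroup Q, g * z = z * g) → z ∈ K) :
    ∃ H : Subgroup (Cfsg.POmega F ⇑Q), H.index = K.relIndex (eichGroup Q) := by
  set π := QuotientGroup.mk' (Subgroup.center (Cfsg.Omega F ⇑Q))
  set K2 := (K.subgroupOf (eichGroup Q)).comap (omegaEquiv hnd h5).toMonoidHom with hK2
  refine ⟨K2.map π, ?_⟩
  rw [Subgroup.index_map_eq K2 (QuotientGroup.mk'_surjective _) (by
      rw [QuotientGroup.ker_mk']
      intro z hz
      rw [hK2, Subgroup.mem_comap, Subgroup.mem_subgroupOf]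
      refine hK _ (omegaEquiv hnd h5 z).2 fun g hg => ?_
      obtain ⟨g0, hg0⟩ := (omegaEquiv hnd h5).surjective ⟨g, hg⟩
      have := congrArg (fun x => (omegaEquiv hnd h5 x).1)
        (Subgroup.mem_center_iff.mp hz g0)
      simp only [map_mul, Subgroup.coe_mul, hg0] at this
      exact this), hK2,
    Subgroup.index_comap_of_surjective _ (omegaEquiv hnd h5).surjective, Subgroup.relIndex]

end Transfer

/-- The stabiliser of a hyperbolic vector contains the centre for small fields. -/
theorem central_mem_lineStab {F : Type*} [Field F] [Finite F] {V : Type*} [AddCommGroup V]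
    [Module F V] [Finite V] {Q : QuadraticForm F V} (hQ : PolarND Q)
    (h5 : 5 ≤ Module.finrank F V) {c : F} (hc : c = 0 ∨ ∀ t : F, t ≠ 0 → t * t = 1) :
    ∃ v, v ≠ 0 ∧ Q v = c ∧
      ∀ z ∈ eichGroup Q, (∀ g ∈ eichGroup Q, g * z = z * g) → z ∈ lineStab Q v := by
  obtain ⟨u, -, hu0, hu⟩ := OrthStab.exists_singular_mem (Q := Q) ⊤ (by rw [finrank_top]; omega)
  obtain ⟨u', hu', huu'⟩ := exists_pair hQ.nonsing hu hu0
  have hu'0 : u' ≠ 0 := fun h => by rw [h, polar_zero_right] at huu'; exact zero_ne_one huu'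
  have hv : u + c • u' ≠ 0 := fun h => by
    have := congrArg (fun x => polar Q u' x) h
    simp [polar_add_right, polar_smul_right, polar_comm Q u' u, huu', polar_self_eq, hu',
      polar_zero_right] at this
  refine ⟨_, hv, by simp [form_add, form_smul, hu, hu', polar_smul_right, huu'], fun z _ hz => ?_⟩
  rw [mem_lineStab hv]
  obtain ⟨s, hs⟩ := central_apply hQ h5 hz hu hu0
  obtain ⟨t, ht⟩ := central_apply hQ h5 hz hu' hu'0
  rw [map_add, map_smul, hs, ht, Submodule.mem_span_singleton]
  refine ⟨s, ?_⟩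
  rcases hc with rfl | hc
  · simp
  · have h1 := map_polar z u u'
    rw [hs, ht, polar_smul_left, polar_smul_right, huu', smul_eq_mul, smul_eq_mul, mul_one] at h1
    have hs0 : s ≠ 0 := fun h => by rw [h, zero_mul] at h1; exact zero_ne_one h1
    have : t = s := mul_left_cancel₀ hs0 (h1.trans (hc s hs0).symm)
    subst this
    module

end Cfsg.Agent.MinIdxClassical
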