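import Mathlib

/-!
Actions of an elementary abelian group of order 64, the radical of the Lagrangian parabolic of
`Sp₆(2)`, on at most 27 points with the symmetry of `GL₃(2)` (helper24).
-/

set_option autoImplicit false
set_option linter.unusedSectionVars false

namespace Cfsg.Agent.MinIdxClassical.Six

open Finset

/-- Pairing of six bit masks. -/
def dot6 (l s : Fin 64) : Bool :=
  Nat.testBit (l.val &&& s.val) 0 ^^ Nat.testBit (l.val &&& s.val) 1 ^^
    Nat.testBit (l.val &&& s.val) 2 ^^ Nat.testBit (l.val &&& s.val) 3 ^^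
    Nat.testBit (l.val &&& s.val) 4 ^^ Nat.testBit (l.val &&& s.val) 5

/-- The sign character. -/
def sgn6 (l s : Fin 64) : ℤ := if dot6 l s then -1 else 1

theorem testBit_xor6 (a b : Fin 64) {i : ℕ} (hi : i < 6) :
    Nat.testBit (a ^^^ b).val i = (Nat.testBit a.val i ^^ Nat.testBit b.val i) := by
  rw [Fin.xor_val]
  refine (Nat.testBit_mod_two_pow _ 6 i).trans ?_
  simp [hi, Nat.testBit_xor]

theorem xor4 : ∀ p q r s : Bool, ((p ^^ q) ^^ (r ^^ s)) = ((p ^^ r) ^^ (q ^^ s)) := by decide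

theorem xor12 (a b c d e f a' b' c' d' e' f' : Bool) :
    ((((((a ^^ a') ^^ (b ^^ b')) ^^ (c ^^ c')) ^^ (d ^^ d')) ^^ (e ^^ e')) ^^ (f ^^ f')) =
      ((((((a ^^ b) ^^ c) ^^ d) ^^ e) ^^ f) ^^ (((((a' ^^ b') ^^ c') ^^ d') ^^ e') ^^ f')) := by
  rw [xor4 a a' b b', xor4 (a ^^ b) (a' ^^ b') c c', xor4 ((a ^^ b) ^^ c) _ d d',
    xor4 (((a ^^ b) ^^ c) ^^ d) _ e e', xor4 ((((a ^^ b) ^^ c) ^^ d) ^^ e) _ f f']

theorem dot6_xor (l a b : Fin 64) : dot6 l (a ^^^ b) = (dot6 l a ^^ dot6 l b) := by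
  simp only [dot6, Nat.testBit_and, testBit_xor6 a b (by decide : 0 < 6),
    testBit_xor6 a b (by decide : 1 < 6), testBit_xor6 a b (by decide : 2 < 6),
    testBit_xor6 a b (by decide : 3 < 6), testBit_xor6 a b (by decide : 4 < 6),
    testBit_xor6 a b (by decide : 5 < 6), Bool.and_xor_distrib_left]
  exact xor12 _ _ _ _ _ _ _ _ _ _ _ _

theorem dot6_comm : ∀ a b : Fin 64, dot6 a b = dot6 b a := fun a b => by
  simp [dot6, Nat.land_comm]

theorem xor_dot6 (l a b : Fin 64) : dot6 (a ^^^ b) l = (dot6 a l ^^ dot6 b l) := by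
  rw [dot6_comm, dot6_xor, dot6_comm l a, dot6_comm l b]
theorem xor_self6 : ∀ a : Fin 64, a ^^^ a = 0 := by decide +kernel
theorem xor_xor6 : ∀ a b : Fin 64, a ^^^ (a ^^^ b) = b := by decide +kernel
theorem dot6_zero : ∀ l : Fin 64, dot6 l 0 = false := by decide +kernel
theorem zero_dot6 : ∀ l : Fin 64, dot6 0 l = false := by decide +kernel
theorem sum_sgn6 : ∀ s : Fin 64, ∑ l, sgn6 l s = if s = 0 then 64 else 0 := by decide +kernel

/-- The orbit of the first two generators on masks. -/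
def tau1 (l : Fin 64) : Fin 64 :=
  Fin.ofNat 64 (([2, 4, 11, 32, 8, 48].zipIdx.map fun p : Fin 64 × ℕ =>
    if dot6 l p.1 then 2 ^ p.2 else 0).sum)

/-- The second generator on masks. -/
def tau2 (l : Fin 64) : Fin 64 :=
  Fin.ofNat 64 (([1, 11, 4, 8, 16, 48].zipIdx.map fun p : Fin 64 × ℕ =>
    if dot6 l p.1 then 2 ^ p.2 else 0).sum)

/-- Iterated image under both generators. -/
def reach : ℕ → List (Fin 64) → List (Fin 64)
  | 0, L => L
  | n + 1, L => reach n (L ++ L.map tau1 ++ L.map tau2).dedup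

def sqL : List (Fin 64) := [1, 2, 3, 4, 5, 6, 7]
def lpL : List (Fin 64) :=
  [8, 9, 10, 16, 17, 20, 24, 25, 30, 32, 34, 36, 40, 42, 45, 48, 51, 52, 57, 58, 60]
def coneL : List (Fin 64) := [11, 21, 31, 38, 47, 55, 63]
def conicL : List (Fin 64) :=
  [12, 13, 14, 15, 18, 19, 22, 23, 26, 27, 28, 29, 33, 35, 37, 39, 41, 43, 44, 46, 49, 50, 53, 54,
    56, 59, 61, 62]

theorem classes : ∀ l : Fin 64,
    l = 0 ∨ l ∈ sqL ∨ l ∈ lpL ∨ l ∈ coneL ∨ l ∈ conicL := by decide +kernel

theorem reach_sq : ∀ l ∈ sqL, l ∈ reach 4 [1] := by decide +kernel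
theorem reach_lp : ∀ l ∈ lpL, l ∈ reach 7 [8] := by decide +kernel
theorem reach_cone : ∀ l ∈ coneL, l ∈ reach 5 [11] := by decide +kernel
theorem reach_conic : ∀ l ∈ conicL, l ∈ reach 7 [12] := by decide +kernel

theorem tau1_inj : ∀ a b : Fin 64, tau1 a = tau1 b → a = b := by decide +kernel
theorem tau2_inj : ∀ a b : Fin 64, tau2 a = tau2 b → a = b := by decide +kernel

theorem lp_triple : ∀ a ∈ lpL, ∀ b ∈ lpL, a ^^^ b ∈ lpL → ∀ c ∈ lpL, c ≠ a → c ≠ b → c ≠ a ^^^ b →
    a ^^^ c ∈ lpL → b ^^^ c ∈ lpL → a ^^^ (b ^^^ c) ∈ lpL → a = b := by decide +kernel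

theorem cone_alone : ∀ c ∈ coneL, ∀ l, l ∈ sqL ∨ l ∈ coneL → l ≠ c →
    ¬ (c ^^^ l = 0 ∨ c ^^^ l ∈ sqL ∨ c ^^^ l ∈ coneL) := by decide +kernel

theorem sq_key : ∀ j < 9, ∀ a < 15, ∀ b < 14,
    (j ∣ 64 ∧ 2 ≤ j ∧ j ≤ a ∧ 7 * a = b * (j - 1)) → j = 8 := by decide +kernel

theorem sq_dot_eight : ∀ l : Fin 64, l = 0 ∨ l ∈ sqL → dot6 l 8 = false := by decide +kernel

variable {α : Type*} [Fintype α] [DecidableEq α] (ρ : Fin 64 → Equiv.Perm α)

/-- The stabiliser of a point. -/
def stab6 (x : α) : Finset (Fin 64) := univ.filter fun s => ρ s x = x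

/-- The masks orthogonal to the stabiliser of a point. -/
def ann6 (x : α) : Finset (Fin 64) := univ.filter fun l => ∀ s, ρ s x = x → dot6 l s = false

/-- The orbit of a point. -/
def orb6 (x : α) : Finset α := univ.image fun s => ρ s x

variable {ρ} (hρ : ∀ a b, ρ (a ^^^ b) = ρ a * ρ b)

include hρ in
theorem rho_zero : ρ 0 = 1 := by
  have h := hρ 0 0
  rw [xor_self6] at h
  exact right_eq_mul.mp h

include hρ in
theorem rho_comm (a b : Fin 64) (x : α) : ρ a (ρ b x) = ρ b (ρ a x) := by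
  rw [← Equiv.Perm.mul_apply, ← hρ, Fin.xor_comm a b, hρ, Equiv.Perm.mul_apply]

include hρ in
theorem stab6_xor {x : α} {a b : Fin 64} (ha : ρ a x = x) (hb : ρ b x = x) :
    ρ (a ^^^ b) x = x := by
  rw [hρ, Equiv.Perm.mul_apply, hb, ha]

include hρ in
theorem ann_stab (x : α) (s : Fin 64) : ∑ l ∈ ann6 ρ x, sgn6 l s * (stab6 ρ x).card =
    if ρ s x = x then 64 else 0 := by
  have h1 : ∀ l, ∑ u ∈ stab6 ρ x, sgn6 l u = if l ∈ ann6 ρ x then ((stab6 ρ x).card : ℤ) else 0 := by
    intro l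
    split_ifs with hl
    · rw [card_eq_sum_ones, Nat.cast_sum]
      refine sum_congr rfl fun u hu => ?_
      rw [sgn6, (mem_filter.mp hl).2 u (mem_filter.mp hu).2]
      simp
    · simp only [ann6, mem_filter, mem_univ, true_and, not_forall, Bool.not_eq_false] at hl
      obtain ⟨t, ht, htl⟩ := hl
      have e : ∑ u ∈ stab6 ρ x, sgn6 l u = ∑ u ∈ stab6 ρ x, -sgn6 l u := by
        refine sum_nbij' (fun u => t ^^^ u) (fun u => t ^^^ u) ?_ ?_ (fun u _ => xor_xor6 t u)
          (fun u _ => xor_xor6 t u) fun u _ => ?_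
        · intro u hu
          simp only [stab6, coe_filter, mem_univ, true_and, Set.mem_setOf_eq] at hu ⊢
          exact mem_filter.mpr ⟨mem_univ _, stab6_xor hρ ht (mem_filter.mp hu).2⟩
        · intro u hu
          simp only [stab6, coe_filter, mem_univ, true_and, Set.mem_setOf_eq] at hu ⊢
          exact mem_filter.mpr ⟨mem_univ _, stab6_xor hρ ht (mem_filter.mp hu).2⟩
        · simp only [sgn6, dot6_xor, htl]
          cases dot6 l u <;> simp
      rw [sum_neg_distrib] at e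
      omega
  have h2 : ∀ l u, sgn6 l (s ^^^ u) = sgn6 l s * sgn6 l u := fun l u => by
    simp only [sgn6, dot6_xor]
    cases dot6 l s <;> cases dot6 l u <;> simp
  calc ∑ l ∈ ann6 ρ x, sgn6 l s * (stab6 ρ x).card
      = ∑ l, sgn6 l s * ∑ u ∈ stab6 ρ x, sgn6 l u := by
        rw [← sum_subset (subset_univ (ann6 ρ x)) fun l _ hl => by simp [h1, hl]]
        exact sum_congr rfl fun l hl => by simp [h1, hl]
    _ = ∑ u ∈ stab6 ρ x, ∑ l, sgn6 l (s ^^^ u) := by
        rw [sum_comm]; simp only [mul_sum, h2]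
    _ = if s ∈ stab6 ρ x then (64 : ℤ) else 0 := by
        simp only [sum_sgn6]
        have e : ∀ u, (s ^^^ u = 0) ↔ u = s := fun u =>
          ⟨fun h => by have := xor_xor6 s u; rw [h, Fin.xor_zero] at this; exact this.symm,
            fun h => h ▸ xor_self6 _⟩
        simp only [e, sum_ite_eq']
    _ = _ := by simp [stab6]

include hρ in
theorem card_orb6 (x : α) : (orb6 ρ x).card = (ann6 ρ x).card := by
  have hT : 0 < (stab6 ρ x).card :=
    card_pos.mpr ⟨0, mem_filter.mpr ⟨mem_univ _, by rw [rho_zero hρ]; rfl⟩⟩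
  have h0 := ann_stab hρ x 0
  simp only [sgn6, dot6_zero, rho_zero hρ, Equiv.Perm.one_apply, sum_const, nsmul_eq_mul] at h0
  simp at h0
  have h0' : (ann6 ρ x).card * (stab6 ρ x).card = 64 := by exact_mod_cast h0
  have h1 : ∀ y ∈ orb6 ρ x,
      ((univ : Finset (Fin 64)).filter fun s => ρ s x = y).card = (stab6 ρ x).card := by
    intro y hy
    obtain ⟨a, -, rfl⟩ := mem_image.mp hy
    refine card_nbij' (fun u => a ^^^ u) (fun u => a ^^^ u) ?_ ?_ (fun u _ => xor_xor6 a u)
      (fun u _ => xor_xor6 a u)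
    · intro u hu
      simp only [stab6, coe_filter, mem_univ, true_and, Set.mem_setOf_eq] at hu ⊢
      rw [hρ, Equiv.Perm.mul_apply, hu, ← Equiv.Perm.mul_apply, ← hρ, xor_self6, rho_zero hρ]
      rfl
    · intro u hu
      simp only [stab6, coe_filter, mem_univ, true_and, Set.mem_setOf_eq] at hu ⊢
      rw [hρ, Equiv.Perm.mul_apply, hu]
  have h2 := card_eq_sum_card_image (fun s => ρ s x) (univ : Finset (Fin 64))
  rw [show (univ : Finset (Fin 64)).image (fun s => ρ s x) = orb6 ρ x from rfl, sum_congr rfl h1,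
    sum_const, smul_eq_mul, card_univ, Fintype.card_fin] at h2
  exact Nat.eq_of_mul_eq_mul_right hT (h2.symm.trans h0'.symm)

include hρ in
theorem moved_iff (x : α) (s : Fin 64) : ρ s x ≠ x ↔ ∃ l ∈ ann6 ρ x, dot6 l s = true := by
  refine ⟨fun h => ?_, fun ⟨l, hl, hd⟩ h => by simp [(mem_filter.mp hl).2 s h] at hd⟩
  by_contra hcon
  simp only [not_exists, not_and, Bool.not_eq_true] at hcon
  have h0 := ann_stab hρ x s
  rw [if_neg h] at h0
  have hT : 0 < (stab6 ρ x).card :=
    card_pos.mpr ⟨0, mem_filter.mpr ⟨mem_univ _, by rw [rho_zero hρ]; rfl⟩⟩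
  have hD : 0 < (ann6 ρ x).card :=
    card_pos.mpr ⟨0, mem_filter.mpr ⟨mem_univ _, fun u _ => zero_dot6 u⟩⟩
  rw [sum_congr rfl fun l hl => show sgn6 l s * ((stab6 ρ x).card : ℤ) = (stab6 ρ x).card by
    simp [sgn6, hcon l hl]] at h0
  simp only [sum_const, nsmul_eq_mul] at h0
  have : (ann6 ρ x).card * (stab6 ρ x).card = 0 := by exact_mod_cast h0
  exact (Nat.mul_pos hD hT).ne' this

include hρ in
theorem ann6_orb {x y : α} (hy : y ∈ orb6 ρ x) : ann6 ρ y = ann6 ρ x := by
  obtain ⟨a, -, rfl⟩ := mem_image.mp hy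
  refine filter_congr fun l _ => forall_congr' fun s => imp_congr_left ?_
  rw [rho_comm hρ]
  exact (ρ a).injective.eq_iff

theorem zero_mem_ann6 (x : α) : (0 : Fin 64) ∈ ann6 ρ x :=
  mem_filter.mpr ⟨mem_univ _, fun u _ => zero_dot6 u⟩

theorem xor_mem_ann6 {x : α} {a b : Fin 64} (ha : a ∈ ann6 ρ x) (hb : b ∈ ann6 ρ x) :
    a ^^^ b ∈ ann6 ρ x :=
  mem_filter.mpr ⟨mem_univ _, fun u hu => by
    rw [xor_dot6, (mem_filter.mp ha).2 u hu, (mem_filter.mp hb).2 u hu]; rfl⟩

variable (ρ) in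
/-- Points of orbit length `j` seeing the mask `l`. -/
def X6 (j : ℕ) (l : Fin 64) : Finset α := univ.filter fun x => (ann6 ρ x).card = j ∧ l ∈ ann6 ρ x

include hρ in
theorem le_card_X6 {j : ℕ} {l : Fin 64} (h : (X6 ρ j l).Nonempty) : j ≤ (X6 ρ j l).card := by
  obtain ⟨x, hx⟩ := h
  obtain ⟨-, hj, hl⟩ := mem_filter.mp hx
  rw [← hj, ← card_orb6 hρ]
  exact card_le_card fun y hy => mem_filter.mpr ⟨mem_univ _, by rw [ann6_orb hρ hy, card_orb6 hρ],
    by rw [ann6_orb hρ hy]; exact hl⟩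

include hρ in
theorem add_card_le {x y : α} (h : ann6 ρ x ≠ ann6 ρ y) :
    (ann6 ρ x).card + (ann6 ρ y).card ≤ Fintype.card α := by
  rw [← card_orb6 hρ, ← card_orb6 hρ, ← card_union_of_disjoint]
  · exact card_le_univ _
  · exact disjoint_left.mpr fun z hz hz' => h ((ann6_orb hρ hz).symm.trans (ann6_orb hρ hz'))

/-- A symmetry of the action. -/
def Sym6 (ρ : Fin 64 → Equiv.Perm α) (τ : Fin 64 → Fin 64) : Prop :=
  ∃ (γ : Equiv.Perm α) (σ : Fin 64 → Fin 64), Function.Surjective σ ∧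
    (∀ s, γ * ρ s = ρ (σ s) * γ) ∧ ∀ l s, dot6 (τ l) s = dot6 l (σ s)

theorem X6_sym {τ : Fin 64 → Fin 64} (hτ : Function.Injective τ) (h : Sym6 ρ τ) (j : ℕ)
    (l : Fin 64) : (X6 ρ j (τ l)).card = (X6 ρ j l).card := by
  obtain ⟨γ, σ, hσ, hγ, hd⟩ := h
  have e : ∀ x m, m ∈ ann6 ρ (γ x) ↔ τ m ∈ ann6 ρ x := by
    intro x m
    simp only [ann6, mem_filter, mem_univ, true_and]
    have hs : ∀ s, ρ (σ s) (γ x) = γ x ↔ ρ s x = x := fun s => by
      rw [← Equiv.Perm.mul_apply, ← hγ, Equiv.Perm.mul_apply]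
      exact γ.injective.eq_iff
    constructor
    · intro hm s hsx
      rw [hd]; exact hm _ ((hs s).mpr hsx)
    · intro hm t ht
      obtain ⟨s, rfl⟩ := hσ t
      rw [← hd]; exact hm _ ((hs s).mp ht)
  have hc : ∀ x, (ann6 ρ (γ x)).card = (ann6 ρ x).card := fun x => by
    rw [← card_map ⟨τ, hτ⟩]
    congr 1
    ext m
    simp only [mem_map, Function.Embedding.coeFn_mk]
    constructor
    · rintro ⟨a, ha, rfl⟩; exact (e x a).mp ha
    · intro hm
      obtain ⟨a, rfl⟩ := (Finite.injective_iff_surjective.mp hτ) m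
      exact ⟨a, (e x a).mpr hm, rfl⟩
  refine card_nbij' (fun x => γ x) (fun x => γ.symm x) ?_ ?_ (fun x _ => γ.symm_apply_apply x)
    (fun x _ => γ.apply_symm_apply x)
  · intro x hx
    simp only [X6, coe_filter, mem_univ, true_and, Set.mem_setOf_eq] at hx ⊢
    exact ⟨(hc x).trans hx.1, (e x l).mpr hx.2⟩
  · intro x hx
    simp only [X6, coe_filter, mem_univ, true_and, Set.mem_setOf_eq] at hx ⊢
    have h1 := hc (γ.symm x)
    have h2 := e (γ.symm x) l
    rw [γ.apply_symm_apply] at h1 h2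
    exact ⟨h1.symm.trans hx.1, h2.mp hx.2⟩

theorem X6_reach {j : ℕ} (h1 : Sym6 ρ tau1) (h2 : Sym6 ρ tau2) : ∀ (n : ℕ) (L : List (Fin 64))
    (c : ℕ), (∀ l ∈ L, (X6 ρ j l).card = c) → ∀ l ∈ reach n L, (X6 ρ j l).card = c
  | 0, L, c, h => h
  | n + 1, L, c, h => X6_reach h1 h2 n _ c fun l hl => by
      simp only [List.mem_dedup, List.mem_append, List.mem_map] at hl
      rcases hl with (hl | ⟨a, ha, rfl⟩) | ⟨a, ha, rfl⟩
      · exact h l hl
      · exact (X6_sym tau1_inj h1 j a).trans (h a ha)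
      · exact (X6_sym tau2_inj h2 j a).trans (h a ha)

theorem cover (C : List (Fin 64)) {c j b : ℕ}
    (hc : ∀ l ∈ C, (X6 ρ j l).card = c)
    (hb : ∀ x, (ann6 ρ x).card = j → (C.toFinset.filter (· ∈ ann6 ρ x)).card ≤ b) :
    C.toFinset.card * c ≤ b * (univ.filter fun x => (ann6 ρ x).card = j).card := by
  calc C.toFinset.card * c = ∑ l ∈ C.toFinset, (X6 ρ j l).card := by
        rw [sum_congr rfl fun l hl => hc l (List.mem_toFinset.mp hl), sum_const, smul_eq_mul]
    _ = ∑ x ∈ univ.filter (fun x => (ann6 ρ x).card = j),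
          (C.toFinset.filter (· ∈ ann6 ρ x)).card := by
        simp only [X6, card_filter]
        rw [sum_comm]
        simp only [sum_filter]
        exact sum_congr rfl fun x _ => by split_ifs <;> simp [*]
    _ ≤ _ := by
        rw [mul_comm b]
        exact (sum_le_sum fun x hx => hb x (mem_filter.mp hx).2).trans (by simp [sum_const])

include hρ in
theorem small_class {C : List (Fin 64)} {r : Fin 64} {n : ℕ} (h1 : Sym6 ρ tau1) (h2 : Sym6 ρ tau2)
    (hr : r ∈ C) (hC : ∀ l ∈ C, l ∈ reach n [r]) {x : α} {l : Fin 64} (hl : l ∈ C)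
    (hlx : l ∈ ann6 ρ x) {b : ℕ}
    (hb : ∀ y, (ann6 ρ y).card = (ann6 ρ x).card → (C.toFinset.filter (· ∈ ann6 ρ y)).card ≤ b) :
    (∀ m ∈ C, (X6 ρ (ann6 ρ x).card m).Nonempty) ∧
      C.toFinset.card * (ann6 ρ x).card ≤ b * Fintype.card α := by
  set j := (ann6 ρ x).card
  have hall : ∀ m ∈ C, (X6 ρ j m).card = (X6 ρ j r).card := fun m hm =>
    X6_reach h1 h2 n [r] _ (by simp) m (hC m hm)
  have hx : (X6 ρ j l).Nonempty := ⟨x, mem_filter.mpr ⟨mem_univ _, rfl, hlx⟩⟩
  have hle := le_card_X6 hρ hx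
  have hj : 0 < j := card_pos.mpr ⟨0, zero_mem_ann6 x⟩
  refine ⟨fun m hm => card_pos.mp (by rw [hall m hm, ← hall l hl]; omega), ?_⟩
  refine le_trans (Nat.mul_le_mul_left _ hle) ((cover C (fun m hm => (hall m hm).trans (hall l hl).symm)
    hb).trans (Nat.mul_le_mul_left _ (card_le_univ _)))

/-- The only possible shape: seven pairs indexed by cones, an octet, fixed points. -/
theorem shape (hρ : ∀ a b, ρ (a ^^^ b) = ρ a * ρ b) (hk : Fintype.card α ≤ 27)
    (h1 : Sym6 ρ tau1) (h2 : Sym6 ρ tau2) (h8 : ρ 8 ≠ 1) :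
    (∀ x, ann6 ρ x = {0} ∨ (∃ c ∈ coneL, ann6 ρ x = {0, c}) ∨ ann6 ρ x = insert 0 sqL.toFinset) ∧
      (∀ c ∈ coneL, (univ.filter fun x => c ∈ ann6 ρ x).card = 2) ∧
      ((univ.filter fun x => ann6 ρ x = insert 0 sqL.toFinset).card = 0 ∨
        (univ.filter fun x => ann6 ρ x = insert 0 sqL.toFinset).card = 8 ∧
          22 ≤ Fintype.card α) := by
  have hbound : ∀ (C : List (Fin 64)), (0 : Fin 64) ∉ C → ∀ (j : ℕ) (y : α),
      (ann6 ρ y).card = j → (C.toFinset.filter (· ∈ ann6 ρ y)).card ≤ j - 1 := by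
    intro C hC j y hj
    rw [← hj, ← card_erase_of_mem (zero_mem_ann6 y)]
    refine card_le_card fun l hl => ?_
    obtain ⟨hl1, hl2⟩ := mem_filter.mp hl
    exact mem_erase.mpr ⟨fun h => hC (h ▸ List.mem_toFinset.mp hl1), hl2⟩
  have horb : ∀ x, (ann6 ρ x).card ≤ 27 := fun x => by
    rw [← card_orb6 hρ]; exact (card_le_univ _).trans hk
  have hdvd : ∀ x, (ann6 ρ x).card ∣ 64 := fun x => by
    have h0 := ann_stab hρ x 0
    simp only [sgn6, dot6_zero, rho_zero hρ, Equiv.Perm.one_apply] at h0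
    simp at h0
    exact ⟨(stab6 ρ x).card, by exact_mod_cast h0.symm⟩
  -- no conic
  have noConic : ∀ x, ∀ l ∈ conicL, l ∉ ann6 ρ x := by
    intro x l hl hlx
    have := (small_class hρ h1 h2 (r := 12) (by decide) reach_conic hl hlx
      fun y hy => hbound conicL (by decide) _ y hy).2
    rw [show conicL.toFinset.card = 28 from by decide +kernel] at this
    have : 0 < (ann6 ρ x).card := card_pos.mpr ⟨0, zero_mem_ann6 x⟩
    have : ((ann6 ρ x).card - 1) * Fintype.card α ≤ ((ann6 ρ x).card - 1) * 27 :=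
      Nat.mul_le_mul_left _ hk
    omega
  -- no line pair
  have noLP : ∀ x, ∀ l ∈ lpL, l ∉ ann6 ρ x := by
    intro x l hl hlx
    obtain ⟨hne, hle⟩ := small_class hρ h1 h2 (r := 8) (by decide) reach_lp hl hlx
      fun y hy => hbound lpL (by decide) _ y hy
    have hlp : lpL.toFinset.card = 21 := by decide +kernel
    rw [hlp] at hle
    have hle' : 21 * (ann6 ρ x).card ≤ ((ann6 ρ x).card - 1) * 27 :=
      hle.trans (Nat.mul_le_mul_left _ hk)
    have key : ∀ j ≤ 27, j ∣ 64 → 21 * j ≤ (j - 1) * 27 → j = 8 ∨ j = 16 := by decide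
    rcases key _ (horb x) (hdvd x) hle' with hj | hj
    · refine absurd (small_class hρ h1 h2 (r := 8) (b := 6) (by decide) reach_lp hl hlx
        fun y hy => ?_).2 (by rw [hlp, hj]; omega)
      rw [hj] at hy
      by_contra hb
      have hsub : (ann6 ρ y).erase 0 ⊆ lpL.toFinset := by
        intro m hm
        have hc7 : (lpL.toFinset.filter (· ∈ ann6 ρ y)).card =
            ((ann6 ρ y).erase 0).card := by
          have := hbound lpL (by decide) _ y hy
          rw [card_erase_of_mem (zero_mem_ann6 y)]; omega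
        have hs : lpL.toFinset.filter (· ∈ ann6 ρ y) ⊆ (ann6 ρ y).erase 0 := fun l hl => by
          obtain ⟨hl1, hl2⟩ := mem_filter.mp hl
          exact mem_erase.mpr ⟨fun h => absurd (h ▸ List.mem_toFinset.mp hl1 : (0 : Fin 64) ∈ lpL)
            (by decide), hl2⟩
        rw [← eq_of_subset_of_card_le hs hc7.ge] at hm
        exact (mem_filter.mp hm).1
      have hin : ∀ m ∈ ann6 ρ y, m ≠ 0 → m ∈ lpL := fun m hm h0 =>
        List.mem_toFinset.mp (hsub (mem_erase.mpr ⟨h0, hm⟩))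
      have hx0 : ∀ {p q : Fin 64}, p ≠ q → p ^^^ q ≠ 0 := fun {p q} hpq h =>
        hpq (by have := xor_xor6 p q; rwa [h, Fin.xor_zero] at this)
      obtain ⟨a, ha, ha0⟩ := exists_mem_ne (by omega : 1 < (ann6 ρ y).card) 0
      obtain ⟨b', hb', hb'n⟩ := exists_mem_notMem_of_card_lt_card
        (s := ({0, a} : Finset (Fin 64))) (t := ann6 ρ y)
        (lt_of_le_of_lt card_le_two (by omega))
      obtain ⟨c, hc, hcn⟩ := exists_mem_notMem_of_card_lt_card
        (s := ({0, a, b', a ^^^ b'} : Finset (Fin 64))) (t := ann6 ρ y)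
        (lt_of_le_of_lt card_le_four (by omega))
      simp only [mem_insert, mem_singleton, not_or] at hb'n hcn
      refine hb'n.2 (lp_triple a (hin a ha ha0) b' (hin b' hb' hb'n.1)
        (hin _ (xor_mem_ann6 ha hb') (hx0 (Ne.symm hb'n.2))) c (hin c hc hcn.1) hcn.2.1 hcn.2.2.1
        hcn.2.2.2 (hin _ (xor_mem_ann6 ha hc) (hx0 (Ne.symm hcn.2.1)))
        (hin _ (xor_mem_ann6 hb' hc) (hx0 (Ne.symm hcn.2.2.1)))
        (hin _ (xor_mem_ann6 ha (xor_mem_ann6 hb' hc)) fun h => ?_)).symm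
      have h' := xor_xor6 a (b' ^^^ c)
      rw [h, Fin.xor_zero] at h'
      exact hcn.2.2.2 (by rw [h', Fin.xor_comm (b' ^^^ c) b', xor_xor6])
    · obtain ⟨m, hm, hmx⟩ : ∃ m ∈ lpL, m ∉ ann6 ρ x := by
        by_contra hcon
        simp only [not_exists, not_and, not_not] at hcon
        have := card_le_card (fun m hm => hcon m (List.mem_toFinset.mp hm) :
          lpL.toFinset ⊆ ann6 ρ x)
        omega
      obtain ⟨y, hy⟩ := hne m hm
      obtain ⟨-, hy1, hy2⟩ := mem_filter.mp hy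
      have := add_card_le hρ (x := x) (y := y) fun e => hmx (e ▸ hy2)
      omega
  have hsqc : ∀ x, ∀ l ∈ ann6 ρ x, l = 0 ∨ l ∈ sqL ∨ l ∈ coneL := fun x l hl => by
    rcases classes l with h | h | h | h | h
    · exact Or.inl h
    · exact Or.inr (Or.inl h)
    · exact absurd hl (noLP x l h)
    · exact Or.inr (Or.inr h)
    · exact absurd hl (noConic x l h)
  have hcone : ∀ x, ∀ c ∈ coneL, c ∈ ann6 ρ x → ann6 ρ x = {0, c} := by
    intro x c hc hcx
    ext l
    simp only [mem_insert, mem_singleton]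
    refine ⟨fun hl => ?_, fun h => h.elim (fun h => h ▸ zero_mem_ann6 x) (fun h => h ▸ hcx)⟩
    rcases hsqc x l hl with h | h
    · exact Or.inl h
    · refine Or.inr (not_not.mp fun hne => cone_alone c hc l h hne ?_)
      exact hsqc x _ (xor_mem_ann6 hcx hl)
  -- the cones occur
  obtain ⟨x0, hx0⟩ : ∃ x, ρ 8 x ≠ x := by
    by_contra hcon
    simp only [not_exists, not_not] at hcon
    exact h8 (Equiv.ext hcon)
  obtain ⟨l0, hl0, hl0d⟩ := (moved_iff hρ x0 8).mp hx0
  have hl0c : l0 ∈ coneL := by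
    rcases hsqc x0 l0 hl0 with h | h | h
    · rw [sq_dot_eight l0 (Or.inl h)] at hl0d; simp at hl0d
    · rw [sq_dot_eight l0 (Or.inr h)] at hl0d; simp at hl0d
    · exact h
  have hX : ∀ c ∈ coneL, (univ.filter fun x => c ∈ ann6 ρ x) = X6 ρ 2 c := fun c hc => by
    ext x
    simp only [X6, mem_filter, mem_univ, true_and, iff_and_self]
    intro h
    rw [hcone x c hc h, card_pair]
    intro e; subst e; revert hc; decide
  have hall : ∀ c ∈ coneL, (X6 ρ 2 c).card = (X6 ρ 2 11).card := fun c hc =>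
    X6_reach h1 h2 5 [11] _ (by simp) c (reach_cone c hc)
  have hp2 : 2 ≤ (X6 ρ 2 11).card := by
    rw [← hall l0 hl0c]
    exact le_card_X6 hρ ⟨x0, by rw [← hX l0 hl0c]; exact mem_filter.mpr ⟨mem_univ _, hl0⟩⟩
  set P := univ.filter fun x => ∃ c ∈ coneL, c ∈ ann6 ρ x with hP
  have hPsum : P.card = 7 * (X6 ρ 2 11).card := by
    have : P = coneL.toFinset.biUnion fun c => X6 ρ 2 c := by
      ext x
      simp only [hP, mem_filter, mem_univ, true_and, mem_biUnion, List.mem_toFinset]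
      refine exists_congr fun c => and_congr_right fun hc => ?_
      rw [← hX c hc]; simp
    rw [this, card_biUnion]
    · rw [sum_congr rfl fun c hc => hall c (List.mem_toFinset.mp hc), sum_const, smul_eq_mul,
        show coneL.toFinset.card = 7 from by decide +kernel]
    · intro a ha b hb hab
      refine disjoint_left.mpr fun x hxa hxb => hab ?_
      have ea := hcone x a (List.mem_toFinset.mp ha) (mem_filter.mp hxa).2.2
      have hb' := (mem_filter.mp hxb).2.2
      rw [ea] at hb'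
      simp only [mem_insert, mem_singleton] at hb'
      rcases hb' with h | h
      · exact absurd (h ▸ List.mem_toFinset.mp hb : (0 : Fin 64) ∈ coneL) (by decide)
      · exact h.symm
  have hPk : P.card ≤ 27 := (card_le_univ _).trans hk
  have hp : (X6 ρ 2 11).card = 2 := by
    by_contra hne
    obtain ⟨y, hy⟩ : (X6 ρ 2 11).Nonempty := card_pos.mp (by omega)
    obtain ⟨z, hz, hzn⟩ := exists_mem_notMem_of_card_lt_card (s := orb6 ρ y) (t := X6 ρ 2 11) (by
      rw [card_orb6 hρ, (mem_filter.mp hy).2.1]; omega)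
    have hsub : orb6 ρ y ∪ orb6 ρ z ⊆ X6 ρ 2 11 := by
      intro w hw
      rcases mem_union.mp hw with h | h
      · rw [X6, mem_filter, ann6_orb hρ h]; exact ⟨mem_univ _, (mem_filter.mp hy).2⟩
      · rw [X6, mem_filter, ann6_orb hρ h]; exact ⟨mem_univ _, (mem_filter.mp hz).2⟩
    have hd : Disjoint (orb6 ρ y) (orb6 ρ z) := disjoint_left.mpr fun w hw hw' => hzn <| by
      obtain ⟨a, -, rfl⟩ := mem_image.mp hw
      obtain ⟨b, -, hb⟩ := mem_image.mp hw'
      refine mem_image.mpr ⟨b ^^^ a, mem_univ _, ?_⟩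
      have hinv : ρ b (ρ b z) = z := by
        rw [← Equiv.Perm.mul_apply, ← hρ, xor_self6, rho_zero hρ]; rfl
      rw [hρ, Equiv.Perm.mul_apply, ← hb, hinv]
    have := card_le_card hsub
    rw [card_union_of_disjoint hd, card_orb6 hρ, card_orb6 hρ, (mem_filter.mp hy).2.1,
      (mem_filter.mp hz).2.1] at this
    omega
  set R := univ.filter fun x => ¬ ∃ c ∈ coneL, c ∈ ann6 ρ x with hR
  have hRk : R.card + 14 ≤ 27 ∧ R.card + 14 = Fintype.card α := by
    have := card_filter_add_card_filter_not (s := (univ : Finset α))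
      (p := fun x => ∃ c ∈ coneL, c ∈ ann6 ρ x)
    rw [card_univ] at this
    change P.card + R.card = _ at this
    omega
  -- the squares
  have hsq : ∀ x, (∀ c ∈ coneL, c ∉ ann6 ρ x) →
      ann6 ρ x = {0} ∨ ann6 ρ x = insert 0 sqL.toFinset := by
    intro x hx
    have hsub : ∀ y, (∀ c ∈ coneL, c ∉ ann6 ρ y) → ann6 ρ y ⊆ insert 0 sqL.toFinset := by
      intro y hy l hl
      rcases hsqc y l hl with h | h | h
      · simp [h]
      · simp [h]
      · exact absurd hl (hy l h)
    by_cases hl : ∃ l ∈ sqL, l ∈ ann6 ρ x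
    swap
    · left
      refine eq_singleton_iff_unique_mem.mpr ⟨zero_mem_ann6 x, fun l hl' => ?_⟩
      rcases hsqc x l hl' with h | h | h
      · exact h
      · exact absurd ⟨l, h, hl'⟩ hl
      · exact absurd hl' (hx l h)
    right
    obtain ⟨l, hl, hlx⟩ := hl
    set j := (ann6 ρ x).card with hj
    have hj8 : j ≤ 8 :=
      (card_le_card (hsub x hx)).trans (by decide +kernel)
    have hj2 : 2 ≤ j := by
      refine le_trans (le_of_eq ?_) (card_le_card (show ({0, l} : Finset (Fin 64)) ⊆ ann6 ρ x from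
        by simp [insert_subset_iff, zero_mem_ann6, hlx]))
      rw [card_pair]; intro e; subst e; revert hl; decide
    have hall' : ∀ m ∈ sqL, (X6 ρ j m).card = (X6 ρ j 1).card := fun m hm =>
      X6_reach h1 h2 4 [1] _ (by simp) m (reach_sq m hm)
    have hge : j ≤ (X6 ρ j 1).card := by
      rw [← hall' l hl]; exact le_card_X6 hρ ⟨x, mem_filter.mpr ⟨mem_univ _, rfl, hlx⟩⟩
    -- all these points are outside the pairs
    have hA : (sqL.toFinset.card) * (X6 ρ j 1).card =
        ∑ y ∈ R, if (ann6 ρ y).card = j then j - 1 else 0 := by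
      calc sqL.toFinset.card * (X6 ρ j 1).card = ∑ m ∈ sqL.toFinset, (X6 ρ j m).card := by
            rw [sum_congr rfl fun m hm => hall' m (List.mem_toFinset.mp hm), sum_const, smul_eq_mul]
        _ = ∑ y ∈ R, ∑ m ∈ sqL.toFinset,
              if (ann6 ρ y).card = j ∧ m ∈ ann6 ρ y then 1 else 0 := by
            simp only [X6, card_filter]
            rw [sum_comm]
            refine (sum_subset (subset_univ R) fun y _ hy => sum_eq_zero fun m hm => ?_).symm
            simp only [hR, mem_filter, mem_univ, true_and, not_not] at hy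
            obtain ⟨c, hc, hcy⟩ := hy
            refine if_neg fun h => ?_
            have := h.2
            rw [hcone y c hc hcy] at this
            simp only [mem_insert, mem_singleton] at this
            have hd : ∀ v : Fin 64, v ∈ sqL.toFinset → v ≠ 0 ∧ v ∉ coneL := by decide +kernel
            rcases this with e | e
            · exact (hd m hm).1 e
            · exact (hd m hm).2 (e ▸ hc)
        _ = _ := sum_congr rfl fun y hy => by
            split_ifs with h
            · rw [← h, ← card_erase_of_mem (zero_mem_ann6 y)]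
              simp only [true_and, ← card_filter]
              congr 1
              ext m
              simp only [mem_filter, List.mem_toFinset, mem_erase]
              refine ⟨fun hm => ⟨fun e => by subst e; exact absurd hm.1 (by decide), hm.2⟩,
                fun hm => ⟨?_, hm.2⟩⟩
              have := hsub y (fun c hc hcy => (mem_filter.mp hy).2 ⟨c, hc, hcy⟩) hm.2
              simpa [hm.1] using this
            · simp [h]
    rw [← sum_filter, sum_const, smul_eq_mul, show sqL.toFinset.card = 7 from by decide +kernel] at hA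
    set kj := (R.filter fun y => (ann6 ρ y).card = j).card
    have hkj : kj ≤ 13 := (card_filter_le _ _).trans (by omega)
    have h7 : kj * (j - 1) ≤ 13 * 7 := Nat.mul_le_mul hkj (by omega)
    have hje : j = 8 := sq_key j (by omega) _ (by omega) kj (by omega) ⟨hdvd x, hj2, hge, hA⟩
    exact eq_of_subset_of_card_le (hsub x hx) (by
      rw [show (insert 0 sqL.toFinset : Finset (Fin 64)).card = 8 from by decide +kernel, ← hj, hje])
  refine ⟨fun x => ?_, fun c hc => by rw [hX c hc, hall c hc, hp], ?_⟩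
  · by_cases h : ∃ c ∈ coneL, c ∈ ann6 ρ x
    · obtain ⟨c, hc, hcx⟩ := h
      exact Or.inr (Or.inl ⟨c, hc, hcone x c hc hcx⟩)
    · rcases hsq x (fun c hc hcx => h ⟨c, hc, hcx⟩) with h' | h'
      · exact Or.inl h'
      · exact Or.inr (Or.inr h')
  · set O := univ.filter fun x => ann6 ρ x = insert 0 sqL.toFinset
    have hOR : O ⊆ R := fun x hx => by
      refine mem_filter.mpr ⟨mem_univ _, ?_⟩
      rw [(mem_filter.mp hx).2]; decide +kernel
    have hle := card_le_card hOR
    rcases O.eq_empty_or_nonempty with h | ⟨x, hx⟩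
    · exact Or.inl (by simp [h])
    right
    have he : orb6 ρ x ⊆ O := fun y hy =>
      mem_filter.mpr ⟨mem_univ _, (ann6_orb hρ hy).trans (mem_filter.mp hx).2⟩
    have hox : (orb6 ρ x).card = 8 := by
      rw [card_orb6 hρ, (mem_filter.mp hx).2]; decide +kernel
    have := card_le_card he
    refine ⟨?_, by omega⟩
    by_contra hne
    obtain ⟨z, hz, hzn⟩ := exists_mem_notMem_of_card_lt_card (s := orb6 ρ x) (t := O) (by omega)
    have hd : Disjoint (orb6 ρ x) (orb6 ρ z) := disjoint_left.mpr fun w hw hw' => hzn <| by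
      obtain ⟨a, -, rfl⟩ := mem_image.mp hw
      obtain ⟨b, -, hb⟩ := mem_image.mp hw'
      refine mem_image.mpr ⟨b ^^^ a, mem_univ _, ?_⟩
      have hinv : ρ b (ρ b z) = z := by
        rw [← Equiv.Perm.mul_apply, ← hρ, xor_self6, rho_zero hρ]; rfl
      rw [hρ, Equiv.Perm.mul_apply, ← hb, hinv]
    have hzO : orb6 ρ z ⊆ O := fun y hy =>
      mem_filter.mpr ⟨mem_univ _, (ann6_orb hρ hy).trans (mem_filter.mp hz).2⟩
    have hoz : (orb6 ρ z).card = 8 := by
      rw [card_orb6 hρ, (mem_filter.mp hz).2]; decide +kernel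
    have := card_le_card (union_subset he hzO)
    rw [card_union_of_disjoint hd] at this
    omega

end Cfsg.Agent.MinIdxClassical.Six
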