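import Cfsg.Agent.MinIdxClassical.LagrTwo

/-!
Vectors of value one orthogonal to a singular vector over the field with two elements (helper24).
-/

set_option autoImplicit false
set_option linter.unusedSectionVars false

namespace Cfsg.Agent.MinIdxClassical

open QuadraticMap Cfsg.Agent.UnitaryOrthogonal

variable {F : Type*} [Field F] [Finite F] {W : Type*} [AddCommGroup W] [Module F W] [Finite W]
variable {R : QuadraticForm F W}

/-- Dimension at least five or no totally singular plane. -/
def RankOK (R : QuadraticForm F W) : Prop :=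
  5 ≤ Module.finrank F W ∨
    ∀ z w, R z = 0 → z ≠ 0 → polar R z w = 0 → R w = 0 → ∃ c : F, w = c • z

theorem no_isotropic_hyperplane (hR : PolarND R) (hd : 3 ≤ Module.finrank F W) (p : W) :
    ∃ u u', polar R p u = 0 ∧ polar R p u' = 0 ∧ polar R u u' ≠ 0 := by
  haveI := Module.finite_of_finite (R := F) (M := W)
  by_contra hcon
  simp only [not_exists, not_and, not_not] at hcon
  set K := LinearMap.ker (polarBilin R p)
  have hle : K ≤ OrthStab.perpOf R K := fun x hx =>
    OrthStab.mem_perpOf.mpr fun w hw => hcon x w hx hw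
  have h1 := Submodule.finrank_mono hle
  have h2 := OrthStab.finrank_perpOf hR K
  have h3 := LinearMap.finrank_range_add_finrank_ker (polarBilin R p)
  have h4 := Submodule.finrank_le (LinearMap.range (polarBilin R p))
  rw [Module.finrank_self] at h4
  have h5 : Module.finrank F K = Module.finrank F (LinearMap.ker (polarBilin R p)) := rfl
  omega

theorem hasPartner (hR : PolarND R) (hq : Nat.card F = 2) (hk : RankOK R) : HasPartner R := by
  haveI := Module.finite_of_finite (R := F) (M := W)
  have h2 : (2 : F) = 0 := by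
    haveI := Fintype.ofFinite F
    have h := Nat.cast_card_eq_zero F
    rw [← Nat.card_eq_fintype_card, hq] at h
    exact_mod_cast h
  intro z v hz hz0 hv hvQ
  obtain ⟨z', hz', hzz'⟩ := exists_pair hR.nonsing hz hz0
  set P := OrthStab.perp₂ R z z' with hP
  have hPnd := OrthStab.polarND_perp₂ hR hz hz' hzz'
  set p := v - polar R z' v • z with hp
  have hpP : p ∈ P := OrthStab.mem_perp₂.mpr (by
    simp [hp, polar_sub_right, polar_smul_right, hv, polar_self_eq, hz, polar_comm R z' z, hzz'])
  have hpQ : R p = 1 := by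
    rw [hp, sub_eq_add_neg, ← neg_smul, form_add, form_smul, hvQ, hz, polar_smul_right,
      polar_comm R v z, hv]
    simp
  obtain ⟨w, hw⟩ : ∃ w : P, polar R p (w : W) ≠ 0 := by
    by_contra hcon
    simp only [not_exists, not_not] at hcon
    have := congrArg Subtype.val (hPnd ⟨p, hpP⟩ fun w => hcon w)
    rw [Submodule.coe_zero] at this
    rw [show p = 0 from this, map_zero] at hpQ
    exact zero_ne_one hpQ
  have hw1 := eq_one_of_card_two hq hw
  have fin : ∀ u ∈ P, polar R p u = 1 → R u = 1 →
      ∃ v', polar R z v' = 0 ∧ R v' = 1 ∧ polar R v v' = 1 := by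
    intro u hu hpu huQ
    obtain ⟨hu1, hu2⟩ := OrthStab.mem_perp₂.mp hu
    refine ⟨u, hu1, huQ, ?_⟩
    rw [hp, polar_sub_left, polar_smul_left, hu1, smul_zero, sub_zero] at hpu
    exact hpu
  by_cases hwQ : R (w : W) = 0
  · obtain ⟨hw2, hw3⟩ := OrthStab.mem_perp₂.mp w.2
    rcases hk with h5 | hno
    · have hdim := OrthStab.finrank_perp₂ hz hz' hzz'
      obtain ⟨u, u', hu, hu', huu'⟩ := no_isotropic_hyperplane hPnd (by omega) ⟨p, hpP⟩
      have huu1 := eq_one_of_card_two hq huu'
      have hu0 : polar R p (u : W) = 0 := hu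
      have hu'0 : polar R p (u' : W) = 0 := hu'
      have huu : polar R (u : W) (u' : W) = 1 := huu1
      have key : ∃ x : P, polar R p (x : W) = 0 ∧ R (x : W) + polar R (w : W) (x : W) ≠ 0 := by
        by_contra hcon
        simp only [not_exists, not_and, not_not] at hcon
        have h1 := hcon u hu0
        have h2' := hcon u' hu'0
        have h3 := hcon (u + u') (by simp [polar_add_right, hu0, hu'0])
        simp [form_add, polar_add_right, huu] at h3
        exact one_ne_zero (α := F) (by linear_combination h3 - h1 - h2')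
      obtain ⟨x, hx, hxQ⟩ := key
      exact fin _ (P.add_mem w.2 x.2) (by rw [polar_add_right, hw1, hx, add_zero])
        (by rw [form_add, hwQ, zero_add]; exact eq_one_of_card_two hq hxQ)
    · obtain ⟨c, hc⟩ := hno z w hz hz0 hw2 hwQ
      rw [hc, polar_smul_right, (show polar R p z = 0 by
        rw [polar_comm]; exact (OrthStab.mem_perp₂.mp hpP).1), smul_zero] at hw
      exact absurd rfl hw
  · exact fin _ w.2 hw1 (eq_one_of_card_two hq hwQ)

theorem sumOnes (hR : PolarND R) (hq : Nat.card F = 2) (hk : RankOK R) : SumOnes R := by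
  haveI := Module.finite_of_finite (R := F) (M := W)
  intro z v hz hz0 hv hvQ
  rcases hk with h5 | hno
  swap
  · exact Or.inl (hno z v hz hz0 hv hvQ)
  obtain ⟨z', hz', hzz'⟩ := exists_pair hR.nonsing hz hz0
  set P := OrthStab.perp₂ R z z' with hP
  have hPnd := OrthStab.polarND_perp₂ hR hz hz' hzz'
  set p := v - polar R z' v • z with hp
  have hpP : p ∈ P := OrthStab.mem_perp₂.mpr (by
    simp [hp, polar_sub_right, polar_smul_right, hv, polar_self_eq, hz, polar_comm R z' z, hzz'])
  have hdim := OrthStab.finrank_perp₂ hz hz' hzz'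
  obtain ⟨u, u', hu, hu', huu'⟩ := no_isotropic_hyperplane hPnd (by omega) ⟨p, hpP⟩
  have hu0 : polar R p (u : W) = 0 := hu
  have hu'0 : polar R p (u' : W) = 0 := hu'
  have huu : polar R (u : W) (u' : W) ≠ 0 := huu'
  obtain ⟨x, hx, hxQ⟩ : ∃ x : P, polar R p (x : W) = 0 ∧ R (x : W) ≠ 0 := by
    by_contra hcon
    simp only [not_exists, not_and, not_not] at hcon
    have h3 := hcon (u + u') (by simp [polar_add_right, hu0, hu'0])
    simp [form_add, hcon u hu0, hcon u' hu'0] at h3
    exact huu h3
  obtain ⟨hx1, -⟩ := OrthStab.mem_perp₂.mp x.2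
  rw [hp, polar_sub_left, polar_smul_left, hx1, smul_zero, sub_zero] at hx
  refine Or.inr ⟨x, hx1, eq_one_of_card_two hq hxQ, ?_⟩
  rw [form_add, hvQ, hx, zero_add, add_zero]
  exact eq_one_of_card_two hq hxQ

end Cfsg.Agent.MinIdxClassical
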