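import Cfsg.Agent.MinIdxClassical.Mixed
import Cfsg.Agent.MinIdxClassical.Counts
import Cfsg.Agent.CG26.AutPO.D4Model

/-!
The minimal index of `PΩ⁺_8(q)`: triality turns an exceptional line into a pinned one (helper24).
-/

set_option autoImplicit false
set_option linter.unusedSectionVars false

namespace Cfsg.Agent.MinIdxClassical

open QuadraticMap Cfsg.Lie Cfsg.Agent.UnitaryOrthogonal Cfsg.Agent.UnitaryOrthogonal.Adjoint
open Cfsg.Agent.CG26 Cfsg.Agent.CG26.AutPO

universe u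

section Lift

variable {F : Type u} [Field F] {V : Type*} [AddCommGroup V] [Module F V]
variable {Q : QuadraticForm F V}

/-- The preimage in the orthogonal group of a subgroup of `PΩ`. -/
noncomputable def liftK (K : Subgroup (AutPO.PO Q)) : Subgroup (orth Q) :=
  (K.comap (piO Q)).map (eichGroup Q).subtype

theorem mem_liftK {K : Subgroup (AutPO.PO Q)} (h : Om Q) : h.1 ∈ liftK K ↔ piO Q h ∈ K := by
  constructor
  · rintro ⟨h', hh', e⟩
    rw [show h = h' from (Subtype.ext e).symm]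
    exact hh'
  · exact fun hh => ⟨h, hh, rfl⟩

theorem relIndex_liftK (K : Subgroup (AutPO.PO Q)) : (liftK K).relIndex (eichGroup Q) = K.index := by
  rw [Subgroup.relIndex, liftK, ← Subgroup.comap_subtype,
    Subgroup.comap_map_eq_self_of_injective (Subgroup.subtype_injective _),
    Subgroup.index_comap_of_surjective _ piO_surjective]

/-- An element of the Heisenberg group in `Ω`. -/
noncomputable def elO (L : LineFrame Q) (a : L.W0 × L.W0) (c : F) : Om Q :=
  ⟨el L a c, heis_le ⟨a, c, rfl⟩⟩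

theorem elO_mul (L : LineFrame Q) (a : L.W0 × L.W0) (c : F) :
    elO L a c = elO L a 0 * elO L 0 c :=
  Subtype.ext (by simp [elO, el_mul])

theorem exists_conj_auto (g : orth Q) : ∃ cg : AutPO.PO Q ≃* AutPO.PO Q, ∀ h h' : Om Q,
    h'.1 = g * h.1 * g⁻¹ → cg (piO Q h) = piO Q h' := by
  haveI := eichGroup_normal (Q := Q)
  refine ⟨QuotientGroup.congr (Subgroup.center (Om Q)) (Subgroup.center (Om Q)) (MulAut.conjNormal g)
    (Subgroup.characteristic_iff_map_eq.mp inferInstance _), fun h h' e => ?_⟩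
  show (QuotientGroup.mk (MulAut.conjNormal g h) : AutPO.PO Q) = QuotientGroup.mk h'
  congr 1
  exact Subtype.ext (by rw [MulAut.conjNormal_apply, e])

end Lift

variable {F : Type u} [Field F]

local notation "Q8" => qPlus 4 F
local notation "e[" i "]" => D4.bv (F := F) (Sum.inl i : I4)
local notation "f[" i "]" => D4.bv (F := F) (Sum.inr i : I4)

theorem pol8 (u v : I4 → F) : polar Q8 u v =
    ∑ i, (u (.inl i) * v (.inr i) + u (.inr i) * v (.inl i)) := by
  simp only [polar, qPlus_apply, Cfsg.quadFormPlus, ← Finset.sum_sub_distrib]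
  exact Finset.sum_congr rfl fun i _ => by simp only [Pi.add_apply]; ring

/-- The standard frame. -/
def L8 : LineFrame Q8 where
  x := f[0]
  y := f[1]
  x' := e[0]
  y' := e[1]
  qx := by simp [qPlus_apply, Cfsg.quadFormPlus, Fin.sum_univ_four]
  qy := by simp [qPlus_apply, Cfsg.quadFormPlus, Fin.sum_univ_four]
  qx' := by simp [qPlus_apply, Cfsg.quadFormPlus, Fin.sum_univ_four]
  qy' := by simp [qPlus_apply, Cfsg.quadFormPlus, Fin.sum_univ_four]
  xy := by simp [pol8, Fin.sum_univ_four]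
  xy' := by simp [pol8, Fin.sum_univ_four]
  yx' := by simp [pol8, Fin.sum_univ_four]
  x'y' := by simp [pol8, Fin.sum_univ_four]
  xx' := by simp [pol8, Fin.sum_univ_four]
  yy' := by simp [pol8, Fin.sum_univ_four]

theorem mem_L8 {w : I4 → F} : w ∈ (L8 (F := F)).W0 ↔
    w (.inl 0) = 0 ∧ w (.inr 0) = 0 ∧ w (.inl 1) = 0 ∧ w (.inr 1) = 0 := by
  rw [LineFrame.mem_W0]
  simp [L8, pol8, Fin.sum_univ_four]

variable [Fintype F]

/-- An exceptional line is moved onto the standard frame. -/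
theorem exists_standard {L : LineFrame Q8} {C : Submodule F L.W0} (hC : Module.finrank F C = 2)
    (hs : ∀ c ∈ C, Q8 (c : I4 → F) = 0) :
    ∃ g : orth Q8, L8.map g = L ∧ ∀ i : Fin 4, 2 ≤ i.val →
      ∃ c ∈ C, g.1 f[i] = (c : I4 → F) := by
  classical
  have hQ : PolarND Q8 := (setup_plus (le_refl 4)).nd
  haveI := Module.finite_of_finite (R := F) (M := L.W0)
  have hne : C ≠ ⊥ := fun h0 => by rw [h0, finrank_bot] at hC; omega
  obtain ⟨z, hz, hz0⟩ := C.ne_bot_iff.mp hne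
  obtain ⟨w, hw, hwz⟩ : ∃ w ∈ C, w ∉ F ∙ z := by
    by_contra hcon
    simp only [not_exists, not_and, not_not] at hcon
    have := Submodule.finrank_mono (show C ≤ F ∙ z from hcon)
    rw [hC, finrank_span_singleton hz0] at this
    omega
  obtain ⟨M, hMx, hMy⟩ := exists_frame (L.polarND_form hQ) (a := z) (b := w)
    ⟨hs z hz, hs w hw,
      OrthStab.polar_eq_zero_of_singular (Q := L.form) (S := C) hs hz hw, hz0, hwz⟩
  let a : I4 → (I4 → F) := Sum.elim ![L.x', L.y', (M.x' : I4 → F), (M.y' : I4 → F)]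
    ![L.x, L.y, (M.x : I4 → F), (M.y : I4 → F)]
  let φ : (I4 → F) →ₗ[F] (I4 → F) := Fintype.linearCombination F a
  have qx : Q8 (M.x : I4 → F) = 0 := M.qx
  have qy : Q8 (M.y : I4 → F) = 0 := M.qy
  have qx' : Q8 (M.x' : I4 → F) = 0 := M.qx'
  have qy' : Q8 (M.y' : I4 → F) = 0 := M.qy'
  have xy : polar Q8 (M.x : I4 → F) (M.y : I4 → F) = 0 := M.xy
  have xy' : polar Q8 (M.x : I4 → F) (M.y' : I4 → F) = 0 := M.xy'
  have yx' : polar Q8 (M.y : I4 → F) (M.x' : I4 → F) = 0 := M.yx'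
  have x'y' : polar Q8 (M.x' : I4 → F) (M.y' : I4 → F) = 0 := M.x'y'
  have xx' : polar Q8 (M.x : I4 → F) (M.x' : I4 → F) = 1 := M.xx'
  have yy' : polar Q8 (M.y : I4 → F) (M.y' : I4 → F) = 1 := M.yy'
  have hφ : ∀ v, Q8 (φ v) = Q8 v := by
    intro v
    rw [qPlus_apply 4 v]
    simp [φ, a, Fintype.linearCombination_apply, Fintype.sum_sum_type, Fin.sum_univ_four,
      Cfsg.quadFormPlus, form_add, form_smul, polar_add_left, polar_add_right, polar_smul_left,
      polar_smul_right, qx, qy, qx', qy', xy, xy', yx', x'y', xx', yy', L.qx, L.qy, L.qx', L.qy',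
      L.xy, L.xy', L.yx', L.x'y', L.xx', L.yy', LineFrame.px, LineFrame.py, LineFrame.px',
      LineFrame.py', polar_comm Q8 L.x' L.x, polar_comm Q8 L.x' L.y, polar_comm Q8 L.y' L.x,
      polar_comm Q8 L.y' L.y, polar_comm Q8 L.y L.x, polar_comm Q8 (_ : I4 → F) L.x,
      polar_comm Q8 (_ : I4 → F) L.y, polar_comm Q8 (M.x' : I4 → F) (M.x : I4 → F),
      polar_comm Q8 (M.x' : I4 → F) (M.y : I4 → F), polar_comm Q8 (M.y' : I4 → F) (M.x : I4 → F),
      polar_comm Q8 (M.y' : I4 → F) (M.y : I4 → F)]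
    ring
  have hinj : Function.Injective φ := by
    refine (injective_iff_map_eq_zero φ).mpr fun v hv => hQ v fun u => ?_
    have : polar Q8 (φ v) (φ u) = polar Q8 v u := by
      simp only [polar, ← map_add, hφ]
    rw [hv, polar_zero_left] at this
    exact this.symm
  let g : orth Q8 := ⟨LinearEquiv.ofInjectiveEndo φ hinj, fun v => hφ v⟩
  have hsingle : ∀ i, g.1 (D4.bv i) = a i := fun i => by
    show φ (Pi.single i 1) = a i
    rw [Fintype.linearCombination_apply_single, one_smul]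
  refine ⟨g, frame_ext (hsingle _) (hsingle _) (hsingle _) (hsingle _), fun i hi => ?_⟩
  fin_cases i
  · simp at hi
  · simp at hi
  · exact ⟨z, hz, (hsingle _).trans (by simp [a, hMx])⟩
  · exact ⟨w, hw, (hsingle _).trans (by simp [a, hMy])⟩

set_option maxHeartbeats 800000 in
/-- **No subgroup of small index of `PΩ⁺_8(q)`.** -/
theorem plus_eight_bound {N : ℕ}
    (hN : N ≤ (Nat.card F + 2) * Nat.card F ^ 5)
    (hlines : ∀ c : F, N * mult c ≤ Nat.card {w : I4 → F // w ≠ 0 ∧ Q8 w = c})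
    {K : Subgroup (AutPO.PO Q8)} (hK : K ≠ ⊤) : N ≤ K.index := by
  classical
  have hQ : PolarND Q8 := (setup_plus (le_refl 4)).nd
  have hdim : Module.finrank F (Fin 4 ⊕ Fin 4 → F) = 8 := by simp
  haveI : Finite (orth Q8) := orth_finite
  by_contra hlt
  have hnot : ∀ K' : Subgroup (AutPO.PO Q8), K'.index = K.index → ¬ eichGroup Q8 ≤ liftK K' := by
    intro K' he hle
    have := Subgroup.relIndex_eq_one.mpr hle
    rw [relIndex_liftK, he, Subgroup.index_eq_one] at this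
    exact hK this
  have hfix : ∀ K' : Subgroup (AutPO.PO Q8), K'.index = K.index →
      (∀ L : LineFrame Q8, ¬ Pinned L (liftK K')) ∧
        ∃ L : LineFrame Q8, Exceptional L (liftK K') := by
    intro K' he
    rcases no_pinned_or_fixed hQ (by omega) (hnot K' he) (by
        rw [relIndex_liftK, he, hdim, show (8 - 3 : ℕ) = 5 from rfl]; omega) with ⟨v, hv, hfx⟩ | h
    · refine absurd ?_ hlt
      rw [← he, ← relIndex_liftK]
      refine le_trans ?_ (card_lines_le hQ (by omega) hv hfx)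
      have h := hlines (Q8 v)
      rw [card_vectors] at h
      haveI : Nonempty {t : F // t ≠ 0 ∧ t * t * Q8 v = Q8 v} := ⟨⟨1, one_ne_zero, by simp⟩⟩
      exact Nat.le_of_mul_le_mul_right h Nat.card_pos
    · exact h
  obtain ⟨-, L, hB, -, C, hC, hs, hA⟩ := hfix K rfl
  obtain ⟨g, hgL, hgC⟩ := exists_standard hC hs
  subst hgL
  obtain ⟨cg, hcg⟩ := exists_conj_auto g
  set K1 := K.comap cg.toMonoidHom with hK1
  have h1 : ∀ a c, el L8 a c ∈ liftK K1 ↔ el L8 a c ∈ conjH g⁻¹ (liftK K) := by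
    intro a c
    rw [show el L8 a c = (elO L8 a c).1 from rfl, mem_liftK, mem_conjH, inv_inv]
    set h' : Om Q8 := ⟨g * (elO L8 a c).1 * g⁻¹,
      eichGroup_normal.conj_mem _ (elO L8 a c).2 g⟩
    rw [show g * (elO L8 a c).1 * g⁻¹ = h'.1 from rfl, mem_liftK, hK1, Subgroup.mem_comap,
      ← hcg _ h' rfl]
    rfl
  have hB1 : cenB L8 (liftK K1) = ⊥ := by
    rw [← hB, cenB_map]
    ext c
    exact h1 0 c
  have hA1 : ∀ a : (L8 (F := F)).W0 × (L8 (F := F)).W0, a ∈ imA L8 (liftK K1) ↔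
      mapW L8 g a.1 ∈ C ∧ mapW L8 g a.2 ∈ C := fun a => by
    refine Iff.trans (exists_congr fun c => h1 a c) ((imA_map L8 g (liftK K) a).trans (hA _))
  obtain ⟨τ, hτ⟩ := D4.exists_tau (F := F)
  set K2 := K1.comap τ.symm.toMonoidHom with hK2
  have hidx : K2.index = K.index :=
    (Subgroup.index_comap_of_surjective (H := K1) (f := τ.symm.toMonoidHom) τ.symm.surjective).trans
      (Subgroup.index_comap_of_surjective (H := K) (f := cg.toMonoidHom) cg.surjective)
  have htau : ∀ x, τ x ∈ K2 ↔ x ∈ K1 := fun x => by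
    rw [hK2, Subgroup.mem_comap]
    show τ.symm (τ x) ∈ K1 ↔ _
    rw [τ.symm_apply_apply]
  set ε : Fin chevD4.nroots → F := fun r => ((ChevIsogeny.D4.iso.ef r.val : ℤ) : F)
  have hε : ∀ r, ε r * ε r = 1 := by
    intro r
    have hd : ∀ r : Fin chevD4.nroots,
        ChevIsogeny.D4.iso.ef r.val * ChevIsogeny.D4.iso.ef r.val = 1 := by decide +kernel
    simp only [ε, ← Int.cast_mul, hd, Int.cast_one]
  have hX0 : ∀ c : F, piO Q8 (elO L8 0 c) = D4.X ⟨0, by decide⟩ c := fun c => by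
    refine congrArg (piO Q8) (Subtype.ext ?_)
    show el L8 0 c = eich Q8 f[0] ((-((-1 : ℤ) : F) * c) • f[1])
    rw [el_central, Int.cast_neg, Int.cast_one, neg_neg, one_mul]
    rfl
  have hrho0 : D4.rho ⟨0, by decide⟩ = ⟨0, by decide⟩ := by decide +kernel
  have hB2 : cenB L8 (liftK K2) = ⊥ := by
    refine (AddSubgroup.eq_bot_iff_forall _).mpr fun c hc => ?_
    have h : ε ⟨0, by decide⟩ * c ∈ cenB L8 (liftK K1) := by
      have hc' : el L8 0 c ∈ liftK K2 := hc
      show el L8 0 (ε ⟨0, by decide⟩ * c) ∈ liftK K1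
      rw [show el L8 0 c = (elO L8 0 c).1 from rfl, mem_liftK, hX0] at hc'
      rw [show el L8 0 _ = (elO L8 0 (ε ⟨0, by decide⟩ * c)).1 from rfl, mem_liftK, hX0, ← htau,
        hτ, hrho0, ← mul_assoc, hε, one_mul]
      exact hc'
    rw [hB1, AddSubgroup.mem_bot] at h
    simpa [← mul_assoc, hε] using congrArg (ε ⟨0, by decide⟩ * ·) h
  have hmove : ∀ r (t : F) (a b : (L8 (F := F)).W0 × (L8 (F := F)).W0),
      piO Q8 (elO L8 a 0) = D4.X r t → piO Q8 (elO L8 b 0) = D4.X (D4.rho r) (ε r * t) →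
      mapW L8 g a.1 ∈ C ∧ mapW L8 g a.2 ∈ C → b ∈ imA L8 (liftK K2) := by
    intro r t a b ha hb hm
    obtain ⟨c, hc⟩ := (hA1 a).mpr hm
    refine ⟨ε ⟨0, by decide⟩ * c, ?_⟩
    rw [show el L8 b _ = (elO L8 b (ε ⟨0, by decide⟩ * c)).1 from rfl, mem_liftK, elO_mul,
      map_mul, hb, hX0]
    rw [show el L8 a c = (elO L8 a c).1 from rfl, mem_liftK, elO_mul, map_mul, ha, hX0, ← htau,
      map_mul, hτ, hτ, hrho0] at hc
    exact hc
  have hX1 : ∀ (r : Fin chevD4.nroots) (s : F) (w : (L8 (F := F)).W0),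
      eich Q8 f[0] (w : I4 → F) =
        eich Q8 (D4.bv (d4Pair r).1) ((-((d4Pair r).2.2 : F) * s) • D4.bv (d4Pair r).2.1) →
      piO Q8 (elO L8 (w, 0) 0) = D4.X r s := fun r s w h =>
    congrArg (piO Q8) (Subtype.ext ((el_fst w).trans h))
  have hX2 : ∀ (r : Fin chevD4.nroots) (s : F) (w : (L8 (F := F)).W0),
      eich Q8 f[1] (w : I4 → F) =
        eich Q8 (D4.bv (d4Pair r).1) ((-((d4Pair r).2.2 : F) * s) • D4.bv (d4Pair r).2.1) →
      piO Q8 (elO L8 (0, w) 0) = D4.X r s := fun r s w h =>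
    congrArg (piO Q8) (Subtype.ext ((el_snd w).trans h))
  have memC : ∀ (i : Fin 4), 2 ≤ i.val → ∀ (s : F) (w : (L8 (F := F)).W0),
      (w : I4 → F) = s • f[i] → mapW L8 g w ∈ C := by
    intro i hi s w hw
    obtain ⟨c, hc, hgc⟩ := hgC i hi
    have : mapW L8 g w = s • c := Subtype.ext (by
      show g.1 (w : I4 → F) = s • (c : I4 → F)
      rw [hw, map_smul, hgc])
    rw [this]
    exact C.smul_mem s hc
  have zC : mapW L8 g (0 : (L8 (F := F)).W0) ∈ C := by rw [map_zero]; exact C.zero_mem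
  have hswap : ∀ i : Fin 4, 2 ≤ i.val → ∀ s : F,
      eich Q8 f[0] (s • e[i]) = eich Q8 e[i] ((-s) • f[0]) := by
    intro i hi s
    have hl : IsLn Q8 f[0] e[i] := by
      refine ⟨L8.qx, ?_, ?_, ?_, fun c h => ?_⟩
      · simp [qPlus_apply, Cfsg.quadFormPlus]
      · have : i ≠ 0 := fun h => by subst h; simp at hi
        simp [pol8, Pi.single_apply, this, Ne.symm this]
      · intro h; simpa using congrFun h (Sum.inr 0)
      · simpa using congrFun h (Sum.inl i)
    have h := eich_change hl 0 1 (-s) 0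
    simp at h
    simpa using h.symm
  have hW : ∀ w : (L8 (F := F)).W0, (w, 0) ∈ imA L8 (liftK K2) := by
    intro w
    obtain ⟨w1, w2, w3, w4⟩ := mem_L8.mp w.2
    have mk : ∀ (i : Fin 4), 2 ≤ i.val → ∀ s : F,
        s • f[i] ∈ (L8 (F := F)).W0 ∧ s • e[i] ∈ (L8 (F := F)).W0 := fun i hi s => by
      have h0 : i ≠ 0 := fun h => by subst h; simp at hi
      have h1 : i ≠ 1 := fun h => by subst h; simp at hi
      constructor <;>
      · rw [mem_L8]; simp [Pi.single_apply, Ne.symm h0, Ne.symm h1]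
    let vf : (i : Fin 4) → 2 ≤ i.val → F → (L8 (F := F)).W0 := fun i hi s => ⟨_, (mk i hi s).1⟩
    let ve : (i : Fin 4) → 2 ≤ i.val → F → (L8 (F := F)).W0 := fun i hi s => ⟨_, (mk i hi s).2⟩
    have m2 : ∀ s, (vf 2 (by decide) s, 0) ∈ imA L8 (liftK K2) := fun s => by
      refine hmove ⟨1, by decide⟩ (ε ⟨1, by decide⟩ * s) (vf 2 (by decide) (ε ⟨1, by decide⟩ * s), 0)
        _ (hX1 _ _ _ ?_) (hX1 _ _ _ ?_) ⟨memC 2 (by decide) _ _ rfl, zC⟩
      · simp [vf, d4Pair, d4Pairs]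
      · rw [show ∀ r, ε r * (ε r * s) = s from fun r => by rw [← mul_assoc, hε, one_mul],
          show D4.rho ⟨1, _⟩ = ⟨1, by decide⟩ by decide +kernel]
        simp [vf, d4Pair, d4Pairs]
    have me3 : ∀ s, (ve 3 (by decide) s, 0) ∈ imA L8 (liftK K2) := fun s => by
      refine hmove ⟨3, by decide⟩ (ε ⟨3, by decide⟩ * s) (vf 3 (by decide) (ε ⟨3, by decide⟩ * s), 0)
        _ (hX1 _ _ _ ?_) (hX1 _ _ _ ?_) ⟨memC 3 (by decide) _ _ rfl, zC⟩
      · simp [vf, d4Pair, d4Pairs]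
      · rw [show ∀ r, ε r * (ε r * s) = s from fun r => by rw [← mul_assoc, hε, one_mul],
          show D4.rho ⟨3, _⟩ = ⟨2, by decide⟩ by decide +kernel]
        refine (hswap 3 (by decide) s).trans ?_
        simp [d4Pair, d4Pairs]
    have m3 : ∀ s, (vf 3 (by decide) s, 0) ∈ imA L8 (liftK K2) := fun s => by
      refine hmove ⟨6, by decide⟩ (ε ⟨6, by decide⟩ * s)
        (0, vf 2 (by decide) (-(ε ⟨6, by decide⟩ * s)))
        _ (hX2 _ _ _ ?_) (hX1 _ _ _ ?_) ⟨zC, memC 2 (by decide) _ _ rfl⟩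
      · simp [vf, d4Pair, d4Pairs]
      · rw [show ∀ r, ε r * (ε r * s) = s from fun r => by rw [← mul_assoc, hε, one_mul],
          show D4.rho ⟨6, _⟩ = ⟨3, by decide⟩ by decide +kernel]
        simp [vf, d4Pair, d4Pairs]
    have me2 : ∀ s, (ve 2 (by decide) (-s), 0) ∈ imA L8 (liftK K2) := fun s => by
      refine hmove ⟨8, by decide⟩ (ε ⟨8, by decide⟩ * s)
        (0, vf 3 (by decide) (-(ε ⟨8, by decide⟩ * s)))
        _ (hX2 _ _ _ ?_) (hX1 _ _ _ ?_) ⟨zC, memC 3 (by decide) _ _ rfl⟩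
      · simp [vf, d4Pair, d4Pairs]
      · rw [show ∀ r, ε r * (ε r * s) = s from fun r => by rw [← mul_assoc, hε, one_mul],
          show D4.rho ⟨8, _⟩ = ⟨4, by decide⟩ by decide +kernel]
        refine (hswap 2 (by decide) (-s)).trans ?_
        simp [d4Pair, d4Pairs]
    have hw : (w, (0 : (L8 (F := F)).W0)) =
        (vf 2 (by decide) (w.1 (.inr 2)), 0) + (vf 3 (by decide) (w.1 (.inr 3)), 0) +
        (ve 2 (by decide) (-(-(w.1 (.inl 2)))), 0) + (ve 3 (by decide) (w.1 (.inl 3)), 0) := by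
      refine Prod.ext (Subtype.ext (funext fun j => ?_)) (by simp)
      rcases j with j | j <;> fin_cases j <;> simp [vf, ve, w1, w2, w3, w4]
    rw [hw]
    exact AddSubgroup.add_mem _ (AddSubgroup.add_mem _ (AddSubgroup.add_mem _ (m2 _) (m3 _))
      (me2 _)) (me3 _)
  obtain ⟨hnp, -⟩ := hfix K2 hidx
  rcases line_bound hQ (by omega) (L := L8) (H := liftK K2)
    (by rw [hB2]; exact bot_ne_top) with h | h | h
  · rw [relIndex_liftK, hidx, hdim, show (8 - 3 : ℕ) = 5 from rfl] at h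
    omega
  · exact hnp L8 h
  · obtain ⟨-, hd, C', hC', -, hA'⟩ := h
    have hall : C' = ⊤ := eq_top_iff.mpr fun w _ => ((hA' _).mp (hW w)).1
    rw [hall, finrank_top, hd] at hC'
    omega

end Cfsg.Agent.MinIdxClassical
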