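import Cfsg.Agent.MinIdxClassical.PlusEight

/-!
The minimal index of `PΩ⁺_2m(q)` from the counts of vectors (helper24).
-/

set_option autoImplicit false
set_option linter.unusedSectionVars false

namespace Cfsg.Agent.MinIdxClassical

open QuadraticMap Cfsg.Agent.UnitaryOrthogonal Cfsg.Agent.CG26.AutPO

universe u

variable {F : Type u} [Field F] [Fintype F]

theorem qPlus_coe (m : ℕ) : Cfsg.quadFormPlus m F = ⇑(qPlus m F) :=
  funext fun v => (qPlus_apply m v).symm

theorem plus_min_index {m : ℕ} (hm : 4 ≤ m) {N : ℕ}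
    (hN : N ≤ (Nat.card F + 2) * Nat.card F ^ (2 * m - 3))
    (hlines : ∀ c : F,
      N * mult c ≤ Nat.card {w : Fin m ⊕ Fin m → F // w ≠ 0 ∧ qPlus m F w = c})
    (H : Subgroup (Cfsg.POmega F (Cfsg.quadFormPlus m F))) (hH : H ≠ ⊤) : N ≤ H.index := by
  classical
  have hdim : Module.finrank F (Fin m ⊕ Fin m → F) = 2 * m := by simp; omega
  rcases Nat.lt_or_ge m 5 with h | h
  · obtain rfl : m = 4 := by omega
    obtain ⟨e⟩ := nonempty_pomega_equiv (qPlus_apply (F := F) 4) (setup_plus (le_refl 4))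
    set K := H.comap e.symm.toMonoidHom
    have hK : K.index = H.index :=
      Subgroup.index_comap_of_surjective (H := H) (f := e.symm.toMonoidHom) e.symm.surjective
    rw [← hK]
    refine plus_eight_bound (by simpa using hN) hlines fun hT => hH ?_
    rwa [← Subgroup.index_eq_one, ← hK, Subgroup.index_eq_one]
  · revert H
    rw [qPlus_coe]
    intro H hH
    have hnd : PolarND (qPlus m F) := (setup_plus hm).nd
    refine index_ge_transfer hnd (by omega) (fun H hH => ?_) H hH
    exact minIndex hnd (by omega) (noPlane_of_dim (by omega)) (by rw [hdim]; exact hN) hlines hH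

theorem level_plus_zero (m : ℕ) : Nat.card F * level (qPlus m F) 0 + Nat.card F ^ m =
    Nat.card F ^ (2 * m) + Nat.card F ^ (m + 1) := by
  rw [level_congr (qPlusIso m F)]
  exact level_plus m

theorem level_plus_ne (m : ℕ) {c : F} (hc : c ≠ 0) :
    Nat.card F * level (qPlus m F) c + Nat.card F ^ m = Nat.card F ^ (2 * m) := by
  have h := level_hypSum (Q := zeroForm F) c m
  have h0 : level (zeroForm F) c = 0 := by
    rw [level, Nat.card_eq_zero]
    exact Or.inl ⟨fun v => hc (by rw [← v.2]; simp [zeroForm])⟩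
  rw [← level_congr (qPlusIso m F), h0, mul_zero, add_zero,
    Nat.card_eq_fintype_card (α := Fin 0 → F), Fintype.card_unique, mul_one, mul_one] at h
  exact h

end Cfsg.Agent.MinIdxClassical

namespace Cfsg.Agent.MinIdxClassical

open QuadraticMap Cfsg.Agent.UnitaryOrthogonal

variable {F : Type*} [Field F] [Fintype F]

theorem plus_counts {q : ℕ} (hq : Nat.card F = q) (k : ℕ) :
    (Nat.card {w : Fin (k + 1) ⊕ Fin (k + 1) → F // w ≠ 0 ∧ qPlus (k + 1) F w = 0} =
      (q ^ (k + 1) - 1) * (q ^ k + 1)) ∧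
    ∀ c : F, c ≠ 0 → Nat.card {w : Fin (k + 1) ⊕ Fin (k + 1) → F //
      w ≠ 0 ∧ qPlus (k + 1) F w = c} + q ^ k = q ^ (2 * k + 1) := by
  have hq0 : 0 < q := hq ▸ Nat.card_pos
  constructor
  · have h1 := (card_value (qPlus (k + 1) F) (0 : F)).1 rfl
    have h2 := level_plus_zero (F := F) (k + 1)
    rw [hq] at h2
    obtain ⟨A, hA⟩ : ∃ A, q ^ (k + 1) = A + 1 :=
      ⟨q ^ (k + 1) - 1, by have := pow_pos hq0 (k + 1); omega⟩
    rw [hA, Nat.add_sub_cancel]
    refine Nat.eq_of_mul_eq_mul_left hq0 ?_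
    rw [← h1, two_mul (k + 1), pow_add q (k + 1) (k + 1), pow_succ q (k + 1), hA] at h2
    have h3 : q * q ^ k = A + 1 := by rw [← hA, pow_succ']
    linear_combination h2 - A * h3
  · intro c hc
    have h2 := level_plus_ne (F := F) (k + 1) hc
    rw [hq] at h2
    rw [(card_value (qPlus (k + 1) F) c).2 hc]
    refine Nat.eq_of_mul_eq_mul_left hq0 ?_
    rw [mul_add, ← pow_succ', ← pow_succ', show 2 * k + 1 + 1 = 2 * (k + 1) by ring]
    exact h2

end Cfsg.Agent.MinIdxClassical
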