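import Cfsg.Agent.MinIdxClassical.Heis
import Cfsg.Agent.MinIdxClassical.Lagr

/-!
Realising `pairGroup` and the scalings inside the normaliser of the Heisenberg group (helper24).
-/

set_option autoImplicit false
set_option linter.unusedSectionVars false

namespace Cfsg.Agent.MinIdxClassical

open QuadraticMap Cfsg.Agent.UnitaryOrthogonal

variable {F : Type*} [Field F] {V : Type*} [AddCommGroup V] [Module F V]
variable {Q : QuadraticForm F V} {L : LineFrame Q}

/-- The form on `W0`. -/
abbrev LineFrame.form (L : LineFrame Q) : QuadraticForm F L.W0 := Q.comp L.W0.subtype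

theorem LineFrame.polar_form (L : LineFrame Q) (v w : L.W0) :
    polar L.form v w = polar Q (v : V) (w : V) := rfl

theorem eq_el_iff_aux (a : L.W0 × L.W0) (c : F) (v : V) :
    (el L a c).1 v = (eich Q L.x (a.1 : V)).1 ((eich Q L.y (a.2 : V)).1
      (v + polar Q L.x v • (c • L.y) - polar Q (c • L.y) v • L.x)) := by
  rw [el, coe_mul_apply, coe_mul_apply, eich_apply L.qx (L.xcy c)]
  simp [form_smul, L.qy]

/-- A root element at a point of the line, in coordinates. -/
theorem eich_line_perp (α β : F) (w : L.W0) :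
    eich Q (α • L.x + β • L.y) (w : V) = el L (α • w, β • w) (-(α * β * Q (w : V))) := by
  refine orth_ext fun v => ?_
  rw [eq_el_iff_aux, eich_apply L.qy (LineFrame.py _), eich_apply L.qx (LineFrame.px _),
    eich_apply (by simp [form_add, form_smul, L.qx, L.qy, L.xy, polar_smul_left, polar_smul_right])
      (by simp [polar_add_left, polar_smul_left, LineFrame.px, LineFrame.py])]
  simp only [Submodule.coe_smul, polar_add_left, polar_add_right, polar_sub_right, polar_smul_left,
    polar_smul_right, polar_self_eq, L.qx, L.qy, L.xy, polar_comm Q L.y L.x,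
    LineFrame.px, LineFrame.py, polar_comm Q (_ : V) L.x, polar_comm Q (_ : V) L.y, form_smul,
    smul_eq_mul, map_add, map_sub, map_smul, mul_zero, zero_mul, add_zero, zero_add, sub_zero,
    zero_smul, smul_zero]
  module

/-- A root element of the line, in coordinates. -/
theorem eich_line_center (α β γ δ : F) :
    eich Q (α • L.x + β • L.y) (γ • L.x + δ • L.y) = el L 0 (α * δ - β * γ) := by
  refine orth_ext fun v => ?_
  rw [eq_el_iff_aux,
    eich_apply (by simp [form_add, form_smul, L.qx, L.qy, L.xy, polar_smul_left, polar_smul_right])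
      (by simp [polar_add_left, polar_add_right, polar_smul_left, polar_smul_right, L.xy,
        polar_comm Q L.y L.x, polar_self_eq, L.qx, L.qy])]
  simp only [Prod.fst_zero, Prod.snd_zero, Submodule.coe_zero, eich_zero, coe_one_apply,
    polar_add_left, polar_smul_left, polar_smul_right, form_add, form_smul, L.qx, L.qy, L.xy,
    smul_eq_mul, mul_zero, add_zero, zero_smul, sub_zero]
  module

theorem el_split (a₁ a₂ : L.W0) (c : F) :
    el L (a₁, a₂) c = el L (a₁, 0) 0 * el L (0, a₂) 0 * el L 0 c := by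
  rw [el_mul, el_mul]
  simp

theorem el_fst (a₁ : L.W0) : el L (a₁, 0) 0 = eich Q L.x (a₁ : V) := by
  have := eich_line_perp (L := L) 1 0 a₁
  simpa using this.symm

theorem el_snd (a₂ : L.W0) : el L (0, a₂) 0 = eich Q L.y (a₂ : V) := by
  have := eich_line_perp (L := L) 0 1 a₂
  simpa using this.symm

theorem el_central (c : F) : el L 0 c = eich Q L.x (c • L.y) := by
  have := eich_line_center (L := L) 1 0 0 c
  simpa using this.symm

/-- An element moving the frame inside the line and stabilising `W0` acts. -/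
theorem acts_of_line {g : orth Q} (hg : g ∈ eichGroup Q) {α β γ δ : F}
    (hx : g.1 L.x = α • L.x + β • L.y) (hy : g.1 L.y = γ • L.x + δ • L.y)
    (T : L.W0 ≃ₗ[F] L.W0) (hT : ∀ w : L.W0, ∃ s t : F, g.1 (w : V) = (T w : V) + s • L.x + t • L.y)
    (Λ : (L.W0 × L.W0) ≃ₗ[F] (L.W0 × L.W0))
    (hΛ : ∀ a, Λ a = (α • T a.1 + γ • T a.2, β • T a.1 + δ • T a.2)) (d : Fˣ)
    (hd : (d : F) = α * δ - β * γ) : Acts L g Λ d := by
  have hc : ∀ c : F, g * el L 0 c * g⁻¹ = el L 0 ((d : F) * c) := fun c => by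
    rw [el_central, conj_eich, map_smul, hx, hy, smul_add, smul_smul, smul_smul, eich_line_center,
      hd]
    congr 1
    ring
  have hone : ∀ (u : V) (α β : F) (w : L.W0), Q u = 0 → polar Q u (w : V) = 0 →
      g.1 u = α • L.x + β • L.y →
      ∃ c, g * eich Q u (w : V) * g⁻¹ = el L (α • T w, β • T w) c := by
    intro u α β w hu huw hgu
    obtain ⟨s, t, hst⟩ := hT w
    rw [conj_eich, hgu, hst, add_assoc, ← eich_mul, eich_line_perp, eich_line_center, el_mul]
    · exact ⟨_, by rw [add_zero]⟩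
    · simp [form_add, form_smul, L.qx, L.qy, L.xy, polar_smul_left, polar_smul_right]
    · simp [polar_add_left, polar_smul_left, LineFrame.px, LineFrame.py]
    · simp [polar_add_left, polar_add_right, polar_smul_left, polar_smul_right, L.xy,
        polar_comm Q L.y L.x, polar_self_eq, L.qx, L.qy]
  refine ⟨hg, fun a c => ?_, hc⟩
  obtain ⟨c₁, h1⟩ := hone L.x α β a.1 L.qx (LineFrame.px _) hx
  obtain ⟨c₂, h2⟩ := hone L.y γ δ a.2 L.qy (LineFrame.py _) hy
  refine ⟨c₁ + c₂ - polar Q ((β • T a.1 : L.W0) : V) ((γ • T a.2 : L.W0) : V) + (d : F) * c, ?_⟩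
  rw [show el L a c = el L (a.1, 0) 0 * el L (0, a.2) 0 * el L 0 c from el_split a.1 a.2 c,
    show ∀ p q r : orth Q, g * (p * q * r) * g⁻¹ = g * p * g⁻¹ * (g * q * g⁻¹) * (g * r * g⁻¹) from
      fun p q r => by group, el_fst, el_snd, h1, h2, hc, el_mul, el_mul, hΛ]
  simp

theorem eich_W0_mem {z v : L.W0} (hz : L.form z = 0) (hv : polar L.form z v = 0) :
    ∃ g, Acts L g ((eich L.form z v).1.prodCongr (eich L.form z v).1) 1 := by
  have hz' : Q (z : V) = 0 := hz
  have hv' : polar Q (z : V) (v : V) = 0 := hv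
  refine ⟨eich Q (z : V) (v : V), acts_of_line (eich_mem_eichGroup _ _) (α := 1) (β := 0) (γ := 0)
    (δ := 1) ?_ ?_ (eich L.form z v).1 (fun w => ⟨0, 0, ?_⟩) _ (fun a => ?_) _ (by simp)⟩
  · rw [eich_apply hz' hv', polar_comm Q (z : V), LineFrame.px, polar_comm Q (v : V), LineFrame.px]
    simp
  · rw [eich_apply hz' hv', polar_comm Q (z : V), LineFrame.py, polar_comm Q (v : V), LineFrame.py]
    simp
  · rw [eich_apply hz' hv', eich_apply hz hv]
    simp [LineFrame.polar_form, LineFrame.form]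
  · ext <;> simp

theorem upT_realised (t : F) : ∃ g, Acts L g (upT t) 1 := by
  have h : polar Q L.x (t • L.y') = 0 := by rw [polar_smul_right, L.xy', smul_zero]
  refine ⟨eich Q L.x (t • L.y'), acts_of_line (eich_mem_eichGroup _ _) (α := 1) (β := 0) (γ := -t)
    (δ := 1) ?_ ?_ (LinearEquiv.refl F _) (fun w => ⟨0, 0, ?_⟩) _ (fun a => ?_) _ (by simp)⟩
  · rw [eich_apply L.qx h]
    simp [polar_self_eq, L.qx, polar_smul_left, polar_comm Q L.y' L.x, L.xy']
  · rw [eich_apply L.qx h]
    simp [L.xy, polar_smul_left, polar_comm Q L.y' L.y, L.yy', form_smul, L.qy', sub_eq_add_neg,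
      add_comm]
  · rw [eich_apply L.qx h]
    simp [LineFrame.px, polar_smul_left, LineFrame.py']
  · ext <;> simp [upT, sub_eq_add_neg]

theorem loT_realised (t : F) : ∃ g, Acts L g (loT t) 1 := by
  have h : polar Q L.y (t • L.x') = 0 := by rw [polar_smul_right, L.yx', smul_zero]
  refine ⟨eich Q L.y (t • L.x'), acts_of_line (eich_mem_eichGroup _ _) (α := 1) (β := -t) (γ := 0)
    (δ := 1) ?_ ?_ (LinearEquiv.refl F _) (fun w => ⟨0, 0, ?_⟩) _ (fun a => ?_) _ (by simp)⟩
  · rw [eich_apply L.qy h]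
    simp [polar_comm Q L.y L.x, L.xy, polar_smul_left, polar_comm Q L.x' L.x, L.xx', form_smul,
      L.qx', sub_eq_add_neg]
  · rw [eich_apply L.qy h]
    simp [polar_self_eq, L.qy, polar_smul_left, polar_comm Q L.x' L.y, L.yx']
  · rw [eich_apply L.qy h]
    simp [LineFrame.py, polar_smul_left, LineFrame.px']
  · ext <;> simp [loT, sub_eq_add_neg, add_comm]

/-- **The Levi complement induces the whole of `pairGroup`.** -/
theorem realise {Λ : (L.W0 × L.W0) ≃ₗ[F] (L.W0 × L.W0)} (hΛ : Λ ∈ pairGroup L.form) :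
    ∃ g, Acts L g Λ 1 := by
  unfold pairGroup at hΛ
  induction hΛ using Subgroup.closure_induction with
  | mem Λ hΛ =>
    rcases hΛ with (⟨t, rfl⟩ | ⟨t, rfl⟩) | ⟨z, v, hz, hv, rfl⟩
    · exact upT_realised t
    · exact loT_realised t
    · exact eich_W0_mem hz hv
  | one => exact ⟨1, Acts.one⟩
  | mul x y _ _ hx hy =>
    obtain ⟨g, hg⟩ := hx
    obtain ⟨h, hh⟩ := hy
    have := hg.mul hh
    rw [mul_one] at this
    exact ⟨g * h, this⟩
  | inv x _ hx =>
    obtain ⟨g, hg⟩ := hx
    have := hg.inv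
    rw [inv_one] at this
    exact ⟨g⁻¹, this⟩

/-- The Weyl element of two orthogonal singular vectors. -/
noncomputable def wEl (Q : QuadraticForm F V) (x z x' z' : V) (t : F) : orth Q :=
  eich Q x (-t • z') * eich Q z (t⁻¹ • x') * eich Q x (-t • z')

theorem wEl_apply {x z x' z' : V} (hx : Q x = 0) (hz : Q z = 0) (hx' : Q x' = 0) (hz' : Q z' = 0)
    (hxz : polar Q x z = 0) (hxz' : polar Q x z' = 0) (hzx' : polar Q z x' = 0)
    (hxx' : polar Q x x' = 1) (hzz' : polar Q z z' = 1) (hx'z' : polar Q x' z' = 0) {t : F}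
    (ht : t ≠ 0) :
    (wEl Q x z x' z' t).1 x = -t⁻¹ • z ∧ (wEl Q x z x' z' t).1 z = t • x ∧
      (wEl Q x z x' z' t).1 x' = -t • z' ∧
      ∀ v, polar Q x v = 0 → polar Q z v = 0 → polar Q x' v = 0 → polar Q z' v = 0 →
        (wEl Q x z x' z' t).1 v = v := by
  have h1 : polar Q x (-t • z') = 0 := by rw [polar_smul_right, hxz', smul_zero]
  have h2 : polar Q z (t⁻¹ • x') = 0 := by rw [polar_smul_right, hzx', smul_zero]
  have e : ∀ v, (wEl Q x z x' z' t).1 v =
      (eich Q x (-t • z')).1 ((eich Q z (t⁻¹ • x')).1 ((eich Q x (-t • z')).1 v)) := fun v => rfl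
  refine ⟨?_, ?_, ?_, fun v v1 v2 v3 v4 => ?_⟩ <;> rw [e] <;>
    simp only [eich_apply hx h1, eich_apply hz h2]
  all_goals
    simp [*, polar_add_right, polar_sub_right, polar_smul_right, polar_smul_left, polar_self_eq,
      polar_comm Q z x, polar_comm Q x' x, polar_comm Q z' x, polar_comm Q x' z, polar_comm Q z' z,
      polar_comm Q z' x', form_smul]
  all_goals match_scalars <;> field_simp <;> ring

theorem scale_realised [Finite F] [Finite V] (hR : PolarND L.form)
    (hd : 3 ≤ Module.finrank F L.W0) (l : Fˣ) :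
    ∃ g Λ, Acts L g Λ l := by
  obtain ⟨z, -, hz0, hz⟩ := OrthStab.exists_singular_mem (Q := L.form) ⊤ (by rwa [finrank_top])
  obtain ⟨z', hz', hzz'⟩ := exists_pair hR.nonsing hz hz0
  have qz : Q (z : V) = 0 := hz
  have qz' : Q (z' : V) = 0 := hz'
  have pzz' : polar Q (z : V) (z' : V) = 1 := hzz'
  have hw : ∀ {t : F}, t ≠ 0 → _ := fun {t} ht => wEl_apply (Q := Q) L.qx qz L.qx' qz'
    (LineFrame.px z) (LineFrame.px z') (by rw [polar_comm]; exact LineFrame.px' z) L.xx' pzz'
    (LineFrame.px' z') (t := t) ht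
  obtain ⟨ax, az, ax', afix⟩ := hw (t := (l : F)) l.ne_zero
  obtain ⟨bx, bz, bx', bfix⟩ := hw (t := (-1 : F)) (by simp)
  set g := wEl Q L.x (z : V) L.x' (z' : V) (l : F) * wEl Q L.x (z : V) L.x' (z' : V) (-1) with hg
  have gx : g.1 L.x = (l : F) • L.x := by
    rw [hg, coe_mul_apply, bx]; simp [az]
  have gfix : ∀ v, polar Q L.x v = 0 → polar Q (z : V) v = 0 → polar Q L.x' v = 0 →
      polar Q (z' : V) v = 0 → g.1 v = v := fun v h1 h2 h3 h4 => by
    rw [hg, coe_mul_apply, bfix v h1 h2 h3 h4, afix v h1 h2 h3 h4]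
  have hflip : ∀ w : L.W0, polar Q (w : V) L.y = 0 := fun w => by
    rw [polar_comm]; exact LineFrame.py w
  have gy : g.1 L.y = L.y := gfix _ L.xy (hflip z) (by rw [polar_comm]; exact L.yx') (hflip z')
  have gy' : g.1 L.y' = L.y' := gfix _ L.xy' (by rw [polar_comm]; exact LineFrame.py' z) L.x'y'
    (by rw [polar_comm]; exact LineFrame.py' z')
  have gx' : g.1 L.x' = ((l : F)⁻¹) • L.x' := by
    have e2 := (hw (t := (l : F)) l.ne_zero)
    have hzx : (wEl Q L.x (z : V) L.x' (z' : V) (l : F)).1 (z' : V) = (l : F)⁻¹ • L.x' := by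
      rw [wEl, coe_mul_apply, coe_mul_apply]
      simp only [eich_apply L.qx (show polar Q L.x (-(l : F) • (z' : V)) = 0 by
          rw [polar_smul_right, LineFrame.px, smul_zero]),
        eich_apply qz (show polar Q (z : V) ((l : F)⁻¹ • L.x') = 0 by
          rw [polar_smul_right, polar_comm, LineFrame.px', smul_zero])]
      simp [polar_add_right, polar_sub_right, polar_smul_right, polar_smul_left, polar_self_eq,
        L.qx, L.qx', qz', qz, pzz', LineFrame.px, LineFrame.px', L.xx', polar_comm Q L.x' L.x,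
        polar_comm Q (z : V) L.x', polar_comm Q (z : V) L.x, polar_comm Q (z' : V) L.x',
        polar_comm Q (z' : V) L.x, polar_comm Q (z' : V) (z : V), form_smul]
    rw [hg, coe_mul_apply, bx']
    simp [hzx]
  have hmaps : ∀ w : L.W0, g.1 (w : V) ∈ L.W0 := fun w => by
    have h1 := map_polar g L.x (w : V)
    have h2 := map_polar g L.x' (w : V)
    have h3 := map_polar g L.y (w : V)
    have h4 := map_polar g L.y' (w : V)
    rw [gx, polar_smul_left, LineFrame.px, smul_eq_mul] at h1
    rw [gx', polar_smul_left, LineFrame.px', smul_eq_mul] at h2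
    rw [gy, LineFrame.py] at h3
    rw [gy', LineFrame.py'] at h4
    exact L.mem_W0.mpr ⟨(mul_eq_zero.mp h1).resolve_left l.ne_zero,
      (mul_eq_zero.mp h2).resolve_left (inv_ne_zero l.ne_zero), h3, h4⟩
  haveI := Module.finite_of_finite (R := F) (M := L.W0)
  let f : L.W0 →ₗ[F] L.W0 := LinearMap.codRestrict L.W0 (g.1.toLinearMap ∘ₗ L.W0.subtype) hmaps
  have hf : Function.Injective f := fun a b h =>
    Subtype.ext (g.1.injective (congrArg Subtype.val h))
  let T : L.W0 ≃ₗ[F] L.W0 := LinearEquiv.ofInjectiveEndo f hf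
  have hgE : g ∈ eichGroup Q :=
    mul_mem (mul_mem (mul_mem (eich_mem_eichGroup _ _) (eich_mem_eichGroup _ _))
      (eich_mem_eichGroup _ _)) (mul_mem (mul_mem (eich_mem_eichGroup _ _) (eich_mem_eichGroup _ _))
      (eich_mem_eichGroup _ _))
  refine ⟨g, ((LinearEquiv.smulOfUnit l).trans T).prodCongr T, acts_of_line (g := g) hgE
    (α := (l : F)) (β := 0) (γ := 0) (δ := 1) (by simp [gx])
    (by simp [gy]) T (fun w => ⟨0, 0, ?_⟩) _ (fun a => ?_) _ (by simp)⟩
  · simp only [zero_smul, add_zero]; rfl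
  · refine Prod.ext ?_ ?_
    · simp [LinearEquiv.trans_apply, LinearEquiv.prodCongr_apply, map_smul, Units.smul_def,
        LinearEquiv.smulOfUnit]
    · simp [LinearEquiv.prodCongr_apply]

theorem LineFrame.polarND_form (L : LineFrame Q) (hQ : PolarND Q) : PolarND L.form := by
  intro w hw
  refine Subtype.ext (hQ _ fun v => ?_)
  set v0 := v - polar Q L.x' v • L.x - polar Q L.x v • L.x' - polar Q L.y' v • L.y -
    polar Q L.y v • L.y' with hv0
  have hv : v0 ∈ L.W0 := L.mem_W0.mpr (by
    simp [hv0, polar_sub_right, polar_smul_right, polar_self_eq, L.qx, L.qy, L.qx', L.qy', L.xy,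
      L.xy', L.yx', L.x'y', L.xx', L.yy', polar_comm Q L.x' L.x, polar_comm Q L.y L.x,
      polar_comm Q L.x' L.y, polar_comm Q L.y' L.x, polar_comm Q L.y' L.y, polar_comm Q L.y' L.x'])
  have h := hw ⟨v0, hv⟩
  rw [L.polar_form] at h
  simpa [hv0, polar_sub_right, polar_smul_right, polar_comm Q (w : V) L.x, LineFrame.px,
    polar_comm Q (w : V) L.x', LineFrame.px', polar_comm Q (w : V) L.y, LineFrame.py,
    polar_comm Q (w : V) L.y', LineFrame.py'] using h

theorem LineFrame.finrank_W0 [Finite F] [Finite V] (L : LineFrame Q) :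
    Module.finrank F V ≤ Module.finrank F L.W0 + 4 := by
  haveI := Module.finite_of_finite (R := F) (M := V)
  have h1 := OrthStab.finrank_perp₂ L.qx L.qx' L.xx'
  have h2 := OrthStab.finrank_perp₂ L.qy L.qy' L.yy'
  have h3 := Submodule.finrank_sup_add_finrank_inf_eq (OrthStab.perp₂ Q L.x L.x')
    (OrthStab.perp₂ Q L.y L.y')
  have h4 := Submodule.finrank_le (OrthStab.perp₂ Q L.x L.x' ⊔ OrthStab.perp₂ Q L.y L.y')
  show _ ≤ Module.finrank F ↥(OrthStab.perp₂ Q L.x L.x' ⊓ OrthStab.perp₂ Q L.y L.y') + 4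
  omega

end Cfsg.Agent.MinIdxClassical
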