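import Cfsg.Agent.MinIdxClassical.Orbits64
import Cfsg.Agent.Lib.Symplectic.Card
import Cfsg.Agent.Lib.Symplectic.Perfect

/-!
Every proper subgroup of `Sp₆(2)` has index at least 28 (helper24).
-/

set_option autoImplicit false
set_option linter.unusedSectionVars false

namespace Cfsg.Agent.MinIdxClassical.Six

open Matrix Cfsg.Agent.Symplectic

/-- `Sp₆(2)`. -/
abbrev G6 : Type := ↥(Matrix.symplecticGroup (Fin 3) (ZMod 2))

/-- The position of a bit in a symmetric matrix. -/
def bitPos : Fin 3 → Fin 3 → ℕ := ![![0, 3, 4], ![3, 1, 5], ![4, 5, 2]]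

/-- The symmetric matrix of a mask. -/
def symMat (s : Fin 64) : Matrix (Fin 3) (Fin 3) (ZMod 2) :=
  Matrix.of fun i j => if Nat.testBit s.val (bitPos i j) then 1 else 0

theorem symMat_xor : ∀ a b : Fin 64, symMat a + symMat b = symMat (a ^^^ b) := by decide +kernel

theorem symMat_transpose : ∀ s : Fin 64, (symMat s)ᵀ = symMat s := by decide +kernel

/-- The unipotent radical of the Lagrangian parabolic. -/
def upM (s : Fin 64) : G6 :=
  ⟨fromBlocks 1 (symMat s) 0 1, by
    rw [SymplecticGroup.mem_iff]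
    simp [Matrix.J, fromBlocks_transpose, fromBlocks_multiply, symMat_transpose]⟩

theorem upM_mul (a b : Fin 64) : upM (a ^^^ b) = upM a * upM b :=
  Subtype.ext (by simp [upM, fromBlocks_multiply, ← symMat_xor, add_comm])

def leviA : G6 :=
  ⟨fromBlocks !![0, 0, 1; 1, 0, 1; 0, 1, 0] 0 0 !![1, 0, 1; 1, 0, 0; 0, 1, 0],
    by rw [SymplecticGroup.mem_iff]; decide +kernel⟩

def leviB : G6 :=
  ⟨fromBlocks !![1, 1, 0; 0, 1, 0; 0, 0, 1] 0 0 !![1, 0, 0; 1, 1, 0; 0, 0, 1],
    by rw [SymplecticGroup.mem_iff]; decide +kernel⟩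

/-- The exchange of the last hyperbolic pair. -/
def swapC : G6 :=
  ⟨fromBlocks (Matrix.diagonal ![1, 1, 0]) (Matrix.diagonal ![0, 0, 1])
    (Matrix.diagonal ![0, 0, 1]) (Matrix.diagonal ![1, 1, 0]),
    by rw [SymplecticGroup.mem_iff]; decide +kernel⟩

/-- The image of a mask under the first generator. -/
def sigma1 (s : Fin 64) : Fin 64 :=
  (([2, 4, 11, 32, 8, 48].zipIdx).map fun p : Fin 64 × ℕ =>
    if Nat.testBit s.val p.2 then p.1 else 0).foldl (· ^^^ ·) 0

/-- The image of a mask under the second generator. -/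
def sigma2 (s : Fin 64) : Fin 64 :=
  (([1, 11, 4, 8, 16, 48].zipIdx).map fun p : Fin 64 × ℕ =>
    if Nat.testBit s.val p.2 then p.1 else 0).foldl (· ^^^ ·) 0

theorem dot_sigma1 : ∀ l s : Fin 64, dot6 (tau1 l) s = dot6 l (sigma1 s) := by decide +kernel
theorem dot_sigma2 : ∀ l s : Fin 64, dot6 (tau2 l) s = dot6 l (sigma2 s) := by decide +kernel
theorem sigma1_inj : ∀ a b : Fin 64, sigma1 a = sigma1 b → a = b := by decide +kernel
theorem sigma2_inj : ∀ a b : Fin 64, sigma2 a = sigma2 b → a = b := by decide +kernel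

theorem leviA_comm : ∀ s : Fin 64,
    leviA.1 * (upM s).1 = (upM (sigma1 s)).1 * leviA.1 := by decide +kernel
theorem leviB_comm : ∀ s : Fin 64,
    leviB.1 * (upM s).1 = (upM (sigma2 s)).1 * leviB.1 := by decide +kernel

theorem swapC_one : swapC.1 * (upM 1).1 = (upM 1).1 * swapC.1 := by decide +kernel
theorem swapC_three : swapC.1 * (upM 3).1 = (upM 3).1 * swapC.1 := by decide +kernel
theorem swapC_ten : swapC.1 * (upM 10).1 = (upM 10).1 * swapC.1 := by decide +kernel
theorem swapC_five : ∀ s : Fin 64, swapC.1 * (upM 5).1 ≠ (upM s).1 * swapC.1 := by decide +kernel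

theorem upM_one : upM 1 = tv (eI 0 : Vec 3 (ZMod 2)) 1 := Subtype.ext (by decide +kernel)

theorem cone_sep : ∀ c ∈ coneL, c ≠ 38 →
    ∃ s : Fin 64, ∀ c' ∈ coneL, dot6 c' s = decide (c' = 38 ∨ c' = c) := by decide +kernel

theorem cone_three : ∀ c ∈ coneL, dot6 c 3 = decide (c = 38 ∨ c = 21) := by decide +kernel
theorem cone_ten : ∀ c ∈ coneL, dot6 c 10 = decide (c = 38 ∨ c = 55) := by decide +kernel
theorem cone_five : ∀ c ∈ coneL, dot6 c 5 = decide (c = 38 ∨ c = 11) := by decide +kernel
theorem cone_one : ∀ c ∈ coneL, dot6 c 1 = decide (c ≠ 38) := by decide +kernel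

theorem cone_not_sq : ∀ c ∈ coneL, c ≠ 0 ∧ c ∉ (sqL.toFinset : Finset (Fin 64)) := by
  decide +kernel

theorem isSimple_G6 : IsSimpleGroup G6 := by
  have hc : Subgroup.center G6 = ⊥ :=
    Subgroup.eq_bot_of_card_eq _ ((card_center (ZMod.card 2) (by norm_num : 1 ≤ 3)).trans (by rfl))
  haveI := isSimpleGroup_PSp (F := ZMod 2) (m := 3) (by norm_num) (commutator_eq_top (by omega))
  exact ((QuotientGroup.quotientMulEquivOfEq hc).trans QuotientGroup.quotientBot).symm.isSimpleGroup

variable {α : Type*} [Fintype α] [DecidableEq α]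

theorem perm_eq_of_pairs {π π' : Equiv.Perm α} {A B : Finset α} (hA : A.card = 2) (hB : B.card = 2)
    (hfix : ∀ x, x ∉ A → x ∉ B → π x = x ∧ π' x = x)
    (hmA : ∀ x ∈ A, (π x ∈ A ∧ π x ≠ x) ∧ π' x ∈ A ∧ π' x ≠ x)
    (hmB : ∀ x ∈ B, (π x ∈ B ∧ π x ≠ x) ∧ π' x ∈ B ∧ π' x ≠ x) : π = π' := by
  refine Equiv.ext fun x => ?_
  have key : ∀ S : Finset α, S.card = 2 →
      (∀ x ∈ S, (π x ∈ S ∧ π x ≠ x) ∧ π' x ∈ S ∧ π' x ≠ x) → x ∈ S → π x = π' x := by
    intro S hS hm hx
    obtain ⟨p, q, -, rfl⟩ := Finset.card_eq_two.mp hS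
    obtain ⟨⟨h1, h1'⟩, h2, h2'⟩ := hm x hx
    simp only [Finset.mem_insert, Finset.mem_singleton] at hx h1 h2
    rcases hx with rfl | rfl
    · rw [h1.resolve_left h1', h2.resolve_left h2']
    · rw [h1.resolve_right h1', h2.resolve_right h2']
  by_cases hxA : x ∈ A
  · exact key A hA hmA hxA
  by_cases hxB : x ∈ B
  · exact key B hB hmB hxB
  obtain ⟨h1, h2⟩ := hfix x hxA hxB
  rw [h1, h2]

/-- No faithful transitive action of `Sp₆(2)` on fewer than 28 points. -/
theorem no_small_action [MulAction G6 α] [MulAction.IsPretransitive G6 α] [Nonempty α]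
    (hinj : Function.Injective (MulAction.toPermHom G6 α)) (hk : Fintype.card α ≤ 27) : False := by
  classical
  set φ := MulAction.toPermHom G6 α
  set ρ : Fin 64 → Equiv.Perm α := fun s => φ (upM s)
  have hρ : ∀ a b, ρ (a ^^^ b) = ρ a * ρ b := fun a b => by simp only [ρ, upM_mul, map_mul]
  have hsym : ∀ (g : G6) (σ : Fin 64 → Fin 64), (∀ s, g.1 * (upM s).1 = (upM (σ s)).1 * g.1) →
      ∀ s, φ g * ρ s = ρ (σ s) * φ g := fun g σ h s => by
    simp only [ρ, ← map_mul]
    exact congrArg φ (Subtype.ext (h s))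
  have h1 : Sym6 ρ tau1 := ⟨φ leviA, sigma1,
    Finite.injective_iff_surjective.mp sigma1_inj, hsym _ _ leviA_comm, dot_sigma1⟩
  have h2 : Sym6 ρ tau2 := ⟨φ leviB, sigma2,
    Finite.injective_iff_surjective.mp sigma2_inj, hsym _ _ leviB_comm, dot_sigma2⟩
  have h8 : ρ 8 ≠ 1 := fun h => by
    have h' := congrArg Subtype.val (hinj (h.trans (map_one φ).symm))
    exact absurd h' (by decide +kernel)
  obtain ⟨hshape, hpair, hoct⟩ := shape hρ hk h1 h2 h8
  set P : Fin 64 → Finset α := fun c => Finset.univ.filter fun x => c ∈ ann6 ρ x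
  have hPc : ∀ c ∈ coneL, ∀ x ∈ P c, ann6 ρ x = {0, c} := fun c hc x hx => by
    have hx' : c ∈ ann6 ρ x := (Finset.mem_filter.mp hx).2
    have hne := cone_not_sq c hc
    rcases hshape x with h | ⟨c', hc', h⟩ | h
    · rw [h, Finset.mem_singleton] at hx'; exact absurd hx' hne.1
    · rw [h, Finset.mem_insert, Finset.mem_singleton] at hx'
      rw [h, hx'.resolve_left hne.1]
    · rw [h, Finset.mem_insert] at hx'
      exact absurd (hx'.resolve_left hne.1) hne.2
  have hdisj : ∀ c ∈ coneL, ∀ c' ∈ coneL, ∀ x, x ∈ P c → x ∈ P c' → c' = c := by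
    intro c hc c' hc' x hx hx'
    have hx'' : c' ∈ ann6 ρ x := (Finset.mem_filter.mp hx').2
    rw [hPc c hc x hx, Finset.mem_insert, Finset.mem_singleton] at hx''
    exact hx''.resolve_left fun h => absurd (h ▸ hc' : (0 : Fin 64) ∈ coneL) (by decide)
  rcases hoct with hoct | ⟨hoct, hk22⟩
  · have hmoved : ∀ x s, ρ s x ≠ x ↔ ∃ c ∈ coneL, x ∈ P c ∧ dot6 c s = true := by
      intro x s
      rw [moved_iff hρ]
      constructor
      · rintro ⟨l, hl, hd⟩
        rcases hshape x with h | ⟨c, hc, h⟩ | h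
        · rw [h, Finset.mem_singleton] at hl
          rw [hl, zero_dot6] at hd
          simp at hd
        · rw [h, Finset.mem_insert, Finset.mem_singleton] at hl
          rcases hl with hl | hl
          · rw [hl, zero_dot6] at hd; simp at hd
          · exact ⟨c, hc, Finset.mem_filter.mpr ⟨Finset.mem_univ _, by simp [h]⟩, hl ▸ hd⟩
        · rw [Finset.card_eq_zero, Finset.filter_eq_empty_iff] at hoct
          exact absurd h (hoct (Finset.mem_univ x))
      · rintro ⟨c, -, hx, hd⟩
        exact ⟨c, (Finset.mem_filter.mp hx).2, hd⟩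
    have hstay : ∀ s c x, x ∈ P c → ρ s x ∈ P c := fun s c x hx => by
      refine Finset.mem_filter.mpr ⟨Finset.mem_univ _, ?_⟩
      rw [ann6_orb hρ (x := x) (Finset.mem_image.mpr ⟨s, Finset.mem_univ _, rfl⟩)]
      exact (Finset.mem_filter.mp hx).2
    set γ := φ swapC
    have hγ : ∀ s, swapC.1 * (upM s).1 = (upM s).1 * swapC.1 → ∀ x, γ (ρ s x) = ρ s (γ x) := by
      intro s h x
      have e : γ * ρ s = ρ s * γ := by
        simp only [γ, ρ, ← map_mul]; exact congrArg φ (Subtype.ext h)
      exact congrArg (fun π : Equiv.Perm α => π x) e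
    have h38 : ∀ x ∈ P 38, γ x ∈ P 38 := by
      intro x hx
      have hmv : ∀ s, swapC.1 * (upM s).1 = (upM s).1 * swapC.1 → dot6 38 s = true →
          ∃ c ∈ coneL, γ x ∈ P c ∧ dot6 c s = true := fun s h hd =>
        (hmoved _ s).mp fun e => (hmoved x s).mpr ⟨38, by decide, hx, hd⟩
          (γ.injective ((hγ s h x).trans e))
      obtain ⟨c, hc, hxc, hd⟩ := hmv 3 swapC_three (by decide +kernel)
      obtain ⟨c', hc', hxc', hd'⟩ := hmv 10 swapC_ten (by decide +kernel)
      obtain rfl := hdisj c hc c' hc' _ hxc hxc'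
      rw [cone_three _ hc, decide_eq_true_eq] at hd
      rw [cone_ten _ hc, decide_eq_true_eq] at hd'
      rcases hd with rfl | rfl
      · exact hxc
      · rcases hd' with h | h <;> exact absurd h (by decide)
    have himg38 : (P 38).image γ = P 38 := by
      refine Finset.eq_of_subset_of_card_le (fun y hy => ?_) ?_
      · obtain ⟨x, hx, rfl⟩ := Finset.mem_image.mp hy
        exact h38 x hx
      · rw [Finset.card_image_of_injective _ γ.injective]
    obtain ⟨y0, hy0⟩ : (P 11).Nonempty := Finset.card_pos.mp (by rw [hpair 11 (by decide)]; omega)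
    have hy1 : ρ 1 y0 ≠ y0 :=
      (hmoved _ 1).mpr ⟨11, by decide, hy0, by decide +kernel⟩
    obtain ⟨c, hc, hyc, hd⟩ := (hmoved (γ y0) 1).mp fun e =>
      hy1 (γ.injective ((hγ 1 swapC_one y0).trans e))
    have hc38 : c ≠ 38 := by
      rw [cone_one c hc, decide_eq_true_eq] at hd
      exact hd
    have himg : (P 11).image γ = P c := by
      refine (Finset.eq_of_subset_of_card_le (fun y hy => ?_) ?_)
      · obtain ⟨x, hx, rfl⟩ := Finset.mem_image.mp hy
        have hsub : ({y0, ρ 1 y0} : Finset α) = P 11 := Finset.eq_of_subset_of_card_le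
          (by simp [Finset.insert_subset_iff, hy0, hstay 1 11 y0 hy0])
          (by rw [hpair 11 (by decide), Finset.card_pair hy1.symm])
        rw [← hsub, Finset.mem_insert, Finset.mem_singleton] at hx
        rcases hx with rfl | rfl
        · exact hyc
        · rw [hγ 1 swapC_one]; exact hstay 1 c _ hyc
      · rw [Finset.card_image_of_injective _ γ.injective, hpair c hc, hpair 11 (by decide)]
    obtain ⟨s, hs⟩ := cone_sep c hc hc38
    have hs38 : dot6 38 s = true := by rw [hs 38 (by decide)]; simp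
    have hsc : dot6 c s = true := by rw [hs c hc]; simp
    have hpi : γ * ρ 5 * γ⁻¹ = ρ s := by
      refine perm_eq_of_pairs (A := P 38) (B := P c) (hpair 38 (by decide)) (hpair c hc)
        (fun x hxA hxB => ⟨?_, ?_⟩) (fun x hx => ⟨?_, hstay s 38 x hx,
          (hmoved x s).mpr ⟨38, by decide, hx, hs38⟩⟩)
        (fun x hx => ⟨?_, hstay s c x hx, (hmoved x s).mpr ⟨c, hc, hx, hsc⟩⟩)
      · show γ (ρ 5 (γ.symm x)) = x
        have : ρ 5 (γ.symm x) = γ.symm x := by
          by_contra hne
          obtain ⟨c', hc', hx', hd'⟩ := (hmoved _ 5).mp hne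
          rw [cone_five c' hc', decide_eq_true_eq] at hd'
          rcases hd' with rfl | rfl
          · exact hxA (himg38 ▸ Finset.mem_image.mpr ⟨_, hx', γ.apply_symm_apply x⟩)
          · exact hxB (himg ▸ Finset.mem_image.mpr ⟨_, hx', γ.apply_symm_apply x⟩)
        rw [this, γ.apply_symm_apply]
      · by_contra hne
        obtain ⟨c', hc', hx', hd'⟩ := (hmoved x s).mp hne
        rw [hs c' hc', decide_eq_true_eq] at hd'
        rcases hd' with rfl | rfl
        · exact hxA hx'
        · exact hxB hx'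
      · obtain ⟨z, hz, rfl⟩ : ∃ z ∈ P 38, γ z = x := Finset.mem_image.mp (himg38.symm ▸ hx)
        have he : (γ * ρ 5 * γ⁻¹) (γ z) = γ (ρ 5 z) := by simp
        rw [he]
        exact ⟨h38 _ (hstay 5 38 z hz), fun e =>
          (hmoved z 5).mpr ⟨38, by decide, hz, by decide +kernel⟩ (γ.injective e)⟩
      · obtain ⟨z, hz, rfl⟩ : ∃ z ∈ P 11, γ z = x := Finset.mem_image.mp (himg.symm ▸ hx)
        have he : (γ * ρ 5 * γ⁻¹) (γ z) = γ (ρ 5 z) := by simp
        rw [he]
        exact ⟨himg ▸ Finset.mem_image.mpr ⟨_, hstay 5 11 z hz, rfl⟩, fun e =>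
          (hmoved z 5).mpr ⟨11, by decide, hz, by decide +kernel⟩ (γ.injective e)⟩
    have hg : swapC * upM 5 * swapC⁻¹ = upM s := hinj (by
      simpa only [γ, ρ, map_mul, map_inv] using hpi)
    exact swapC_five s (congrArg Subtype.val (mul_inv_eq_iff_eq_mul.mp hg))
  · -- a transvection moves twenty points
    set O := Finset.univ.filter fun x => ann6 ρ x = insert 0 sqL.toFinset
    have hM : (Finset.univ.filter fun x => ρ 1 x ≠ x) =
        (coneL.toFinset.filter (fun c => c ≠ 38)).biUnion P ∪ O := by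
      ext x
      simp only [Finset.mem_filter, Finset.mem_univ, true_and, Finset.mem_union,
        Finset.mem_biUnion, List.mem_toFinset, moved_iff hρ, O, P]
      constructor
      · rintro ⟨l, hl, hd⟩
        rcases hshape x with h | ⟨c, hc, h⟩ | h
        · rw [h, Finset.mem_singleton] at hl
          rw [hl, zero_dot6] at hd; simp at hd
        · left
          rw [h, Finset.mem_insert, Finset.mem_singleton] at hl
          rcases hl with hl | hl
          · rw [hl, zero_dot6] at hd; simp at hd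
          · rw [hl, cone_one c hc, decide_eq_true_eq] at hd
            exact ⟨c, ⟨hc, hd⟩, by simp [h]⟩
        · exact Or.inr h
      · rintro (⟨c, ⟨hc, hne⟩, hx⟩ | h)
        · exact ⟨c, hx, by rw [cone_one c hc]; simp [hne]⟩
        · exact ⟨1, by rw [h]; decide +kernel, by decide +kernel⟩
    have hcard : (Finset.univ.filter fun x => ρ 1 x ≠ x).card = 20 := by
      rw [hM, Finset.card_union_of_disjoint, Finset.card_biUnion, hoct]
      · rw [Finset.sum_congr rfl fun c hc => hpair c
          (List.mem_toFinset.mp (Finset.mem_filter.mp hc).1), Finset.sum_const, smul_eq_mul,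
          show (coneL.toFinset.filter (fun c => c ≠ 38)).card = 6 from by decide +kernel]
      · intro a ha b hb hab
        refine Finset.disjoint_left.mpr fun x hxa hxb => hab ?_
        exact (hdisj a (List.mem_toFinset.mp (Finset.mem_filter.mp ha).1) b
          (List.mem_toFinset.mp (Finset.mem_filter.mp hb).1) x hxa hxb).symm
      · refine Finset.disjoint_left.mpr fun x hx hxO => ?_
        obtain ⟨c, hc, hxc⟩ := Finset.mem_biUnion.mp hx
        have hcL := List.mem_toFinset.mp (Finset.mem_filter.mp hc).1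
        have := (Finset.mem_filter.mp hxc).2
        rw [(Finset.mem_filter.mp hxO).2, Finset.mem_insert] at this
        exact this.elim (cone_not_sq c hcL).1 (cone_not_sq c hcL).2
    -- double counting
    set T := (Finset.univ : Finset (Vec 3 (ZMod 2))).erase 0
    have hT : T.card = 63 := by
      rw [Finset.card_erase_of_mem (Finset.mem_univ _), Finset.card_univ]
      simp
    have hcol : ∀ u ∈ T, (Finset.univ.filter fun x : α => tv u (1 : ZMod 2) • x ≠ x).card = 20 := by
      intro u hu
      obtain ⟨g, rfl⟩ := exists_smul_eq_of_ne_zero (eI_ne_zero (F := ZMod 2) (0 : Fin 3))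
        (Finset.mem_erase.mp hu).1
      rw [← hcard, ← conj_tv, ← upM_one]
      refine Finset.card_nbij' (fun x => g⁻¹ • x) (fun x => g • x) ?_ ?_
        (fun x _ => smul_inv_smul g x) (fun x _ => inv_smul_smul g x)
      · intro x hx
        simp only [Finset.coe_filter, Finset.mem_univ, true_and, Set.mem_setOf_eq] at hx ⊢
        intro e
        refine hx ?_
        rw [mul_smul, mul_smul, show upM 1 • g⁻¹ • x = g⁻¹ • x from e, smul_inv_smul]
      · intro x hx
        simp only [Finset.coe_filter, Finset.mem_univ, true_and, Set.mem_setOf_eq] at hx ⊢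
        intro e
        rw [mul_smul, mul_smul, inv_smul_smul] at e
        exact hx (MulAction.injective g e)
    obtain ⟨x0⟩ := ‹Nonempty α›
    have hrow : ∀ x : α, (T.filter fun u => tv u (1 : ZMod 2) • x ≠ x).card =
        (T.filter fun u => tv u (1 : ZMod 2) • x0 ≠ x0).card := by
      intro x
      obtain ⟨g, rfl⟩ := MulAction.exists_smul_eq G6 x0 x
      refine Finset.card_nbij' (fun u => g⁻¹ • u) (fun u => g • u) ?_ ?_
        (fun x _ => smul_inv_smul g x) (fun x _ => inv_smul_smul g x)
      · intro u hu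
        simp only [Finset.coe_filter, T, Finset.mem_erase, Finset.mem_univ, and_true,
          Set.mem_setOf_eq] at hu ⊢
        refine ⟨smul_ne_zero_of_ne_zero _ hu.1, fun e => hu.2 ?_⟩
        rw [show tv u (1 : ZMod 2) = g * tv (g⁻¹ • u) 1 * g⁻¹ by rw [conj_tv, smul_inv_smul],
          mul_smul, mul_smul, inv_smul_smul, e]
      · intro u hu
        simp only [Finset.coe_filter, T, Finset.mem_erase, Finset.mem_univ, and_true,
          Set.mem_setOf_eq] at hu ⊢
        refine ⟨smul_ne_zero_of_ne_zero _ hu.1, fun e => hu.2 ?_⟩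
        rw [← conj_tv, mul_smul, mul_smul, inv_smul_smul] at e
        exact MulAction.injective g e
    have key : T.card * 20 = Fintype.card α * (T.filter fun u => tv u (1 : ZMod 2) • x0 ≠ x0).card := by
      calc T.card * 20 = ∑ u ∈ T, (Finset.univ.filter fun x : α => tv u (1 : ZMod 2) • x ≠ x).card := by
            rw [Finset.sum_congr rfl hcol, Finset.sum_const, smul_eq_mul]
        _ = ∑ x : α, (T.filter fun u => tv u (1 : ZMod 2) • x ≠ x).card := by
            simp only [Finset.card_filter]; exact Finset.sum_comm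
        _ = _ := by
            rw [Finset.sum_congr rfl fun x _ => hrow x, Finset.sum_const, smul_eq_mul,
              Finset.card_univ]
    rw [hT] at key
    generalize (T.filter fun u => tv u (1 : ZMod 2) • x0 ≠ x0).card = c at key
    revert key
    generalize Fintype.card α = k at hk hk22
    intro key
    interval_cases k <;> omega

/-- **`Sp₆(2)` has no proper subgroup of index below 28.** -/
theorem six_index (K : Subgroup G6) (hK : K ≠ ⊤) : 28 ≤ K.index := by
  classical
  by_contra hlt
  haveI := isSimple_G6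
  haveI := Fintype.ofFinite (G6 ⧸ K)
  refine no_small_action (α := G6 ⧸ K) ?_ ?_
  · rw [← MonoidHom.ker_eq_bot_iff, ← Subgroup.normalCore_eq_ker]
    exact ((inferInstance : K.normalCore.Normal).eq_bot_or_eq_top).resolve_right
      fun h => hK (eq_top_iff.mpr (h ▸ K.normalCore_le))
  · rw [← Nat.card_eq_fintype_card]
    change K.index ≤ 27
    omega

end Cfsg.Agent.MinIdxClassical.Six
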