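import Cfsg.Agent.S2146
import Cfsg.Agent.MinIdxClassical.SpSix
import Cfsg.Agent.Lib.UnitaryOrthogonal.CharTwoOdd

/-!
The minimal index of `Sp_2m(2)`: quadratic forms polarising to the symplectic form (helper24).
-/

set_option autoImplicit false
set_option linter.unusedSectionVars false

namespace Cfsg.Agent.MinIdxClassical

open QuadraticMap Matrix Cfsg.Agent.Symplectic Cfsg.Agent.UnitaryOrthogonal

universe u

variable {F : Type u} [Field F] [Fintype F] {m : ℕ}

section TwoElements

variable (hF : Fintype.card F = 2)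

include hF in
theorem charP_two_of_card : CharP F 2 := by
  haveI : CharP (ZMod 2) 2 := ZMod.charP 2
  exact charP_of_injective_ringHom
    (FiniteField.ringEquivOfCardEq ((ZMod.card 2).trans hF.symm)).toRingHom.injective 2

include hF in
theorem two_cases (c : F) : c = 0 ∨ c = 1 := by
  classical
  by_contra h
  rw [not_or] at h
  have := Finset.card_le_univ ({0, 1, c} : Finset F)
  rw [hF, Finset.card_insert_of_notMem (by simp [Ne.symm h.1]),
    Finset.card_pair (Ne.symm h.2)] at this
  omega

include hF in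
theorem sympForm_eq_polar (u v : Vec m F) : sympForm m F u v = polar (qPlus m F) u v := by
  haveI := charP_two_of_card hF
  rw [polar_qPlus]
  rfl

/-- An isometry of the plus form is symplectic. -/
noncomputable def toSp : orth (qPlus m F) →* Sp m F where
  toFun g := ⟨LinearMap.toMatrix' g.1.toLinearMap, by
    haveI := charP_two_of_card hF
    rw [mem_iff_form]
    intro u v
    rw [sympForm_eq_polar hF, sympForm_eq_polar hF, LinearMap.toMatrix'_mulVec,
      LinearMap.toMatrix'_mulVec]
    exact map_polar g u v⟩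
  map_one' := Subtype.ext LinearMap.toMatrix'_id
  map_mul' g h := Subtype.ext (LinearMap.toMatrix'_comp g.1.toLinearMap h.1.toLinearMap)

theorem toSp_smul (g : orth (qPlus m F)) (v : Vec m F) : toSp hF g • v = g.1 v :=
  LinearMap.toMatrix'_mulVec _ _

include hF in
/-- Every form polarising to the symplectic form is a translate. -/
theorem exists_shift (a0 : Vec m F) (g : Sp m F) : ∃ c : Vec m F, ∀ x : Vec m F,
    qPlus m F (g • x) + polar (qPlus m F) a0 (g • x) =
      qPlus m F x + polar (qPlus m F) c x := by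
  haveI := charP_two_of_card hF
  set Q := qPlus m F
  let D : Vec m F →ₗ[F] F :=
    { toFun := fun x => Q (g • x) + polar Q a0 (g • x) + Q x
      map_add' := fun x y => by
        have hp : polar Q (g • x) (g • y) = polar Q x y := by
          rw [← sympForm_eq_polar hF, ← sympForm_eq_polar hF, sympForm_smul_smul]
        simp only [smul_add, form_add, polar_add_right, hp]
        linear_combination polar Q x y * (CharTwo.two_eq_zero : (2 : F) = 0)
      map_smul' := fun s x => by
        rcases two_cases hF s with rfl | rfl <;> simp [polar_zero_right] }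
  let Φ : Vec m F →ₗ[F] (Vec m F →ₗ[F] F) := polarBilin Q
  have hinj : Function.Injective Φ := (injective_iff_map_eq_zero Φ).mpr fun v hv =>
    UnitaryOrthogonal.polarND_qPlus_charTwo v fun x => LinearMap.congr_fun hv x
  obtain ⟨c, hc⟩ := (LinearMap.injective_iff_surjective_of_finrank_eq_finrank
    Subspace.dual_finrank_eq.symm).mp hinj D
  refine ⟨c, fun x => ?_⟩
  have h : polar Q c x = Q (g • x) + polar Q a0 (g • x) + Q x := LinearMap.congr_fun hc x
  rw [h]
  linear_combination -(Q x) * (CharTwo.two_eq_zero : (2 : F) = 0)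

include hF in
theorem shift_unique {c c' : Vec m F} (h : ∀ x, polar (qPlus m F) c x = polar (qPlus m F) c' x) :
    c = c' := by
  haveI := charP_two_of_card hF
  exact sub_eq_zero.mp (UnitaryOrthogonal.polarND_qPlus_charTwo _ fun x => by
    rw [polar_sub_left, h, sub_self])

include hF in
theorem level_values : (∀ c : F, c ≠ 0 → 2 * level (qPlus m F) c + 2 ^ m = 2 ^ (2 * m)) ∧
    2 * level (qPlus m F) 0 + 2 ^ m = 2 ^ (2 * m) + 2 ^ (m + 1) := by
  have hq : Nat.card F = 2 := by rw [Nat.card_eq_fintype_card, hF]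
  refine ⟨fun c hc => ?_, ?_⟩
  · have := level_plus_ne (F := F) m hc; rwa [hq] at this
  · have := level_plus_zero (F := F) m; rwa [hq] at this

include hF in
theorem level_shift (c : Vec m F) (e : F) :
    Nat.card {x : Vec m F // qPlus m F x + polar (qPlus m F) c x = e} =
      level (qPlus m F) (e + qPlus m F c) := by
  haveI := charP_two_of_card hF
  refine Nat.card_congr ((Equiv.addRight c).subtypeEquiv fun x => ?_)
  simp only [Equiv.coe_addRight]
  rw [form_add, polar_comm _ c x]
  constructor <;> intro h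
  · linear_combination h
  · linear_combination h

include hF in
theorem shift_value (a0 c : Vec m F) (g : Sp m F)
    (h : ∀ x : Vec m F, qPlus m F (g • x) + polar (qPlus m F) a0 (g • x) =
      qPlus m F x + polar (qPlus m F) c x) : qPlus m F c = qPlus m F a0 := by
  haveI := charP_two_of_card hF
  set Q := qPlus m F
  by_contra hne
  have hsum : Q a0 + Q c ≠ 0 := fun h0 => hne (by
    linear_combination h0 - Q a0 * (CharTwo.two_eq_zero : (2 : F) = 0))
  have e : level Q (Q a0 + Q a0) = level Q (Q a0 + Q c) := by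
    rw [← level_shift hF a0, ← level_shift hF c]
    refine (Nat.card_congr ((MulAction.toPerm g).subtypeEquiv fun x => ?_)).symm
    simp only [MulAction.toPerm_apply]
    rw [h]
  rw [CharTwo.add_self_eq_zero] at e
  obtain ⟨h1, h0⟩ := level_values (m := m) hF
  have := h1 _ hsum
  rw [← e] at this
  have := Nat.two_pow_pos m
  rw [pow_succ] at h0
  change 2 * level Q 0 + _ = _ at h0
  omega

/-- The stabiliser of a quadratic form. -/
noncomputable def formStab (a0 : Vec m F) : Subgroup (Sp m F) where
  carrier := {g | ∀ x : Vec m F, qPlus m F (g • x) + polar (qPlus m F) a0 (g • x) =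
    qPlus m F x + polar (qPlus m F) a0 x}
  one_mem' x := by rw [one_smul]
  mul_mem' {g h} hg hh x := by rw [mul_smul, hg, hh]
  inv_mem' {g} hg x := by
    have := hg (g⁻¹ • x)
    rw [smul_inv_smul] at this
    exact this.symm

include hF in
/-- The orbit of a form has as many elements as vectors of the given value. -/
theorem index_formStab (a0 : Vec m F) :
    (formStab a0).index = level (qPlus m F) (qPlus m F a0) := by
  haveI := charP_two_of_card hF
  set Q := qPlus m F
  choose c hc using exists_shift hF a0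
  have hwd : ∀ g h : Sp m F, g⁻¹ * h ∈ formStab a0 ↔ c g⁻¹ = c h⁻¹ := by
    intro g h
    constructor
    · intro hm
      refine shift_unique hF fun x => ?_
      have e1 := hc g⁻¹ x
      have e2 := hc h⁻¹ x
      have e3 : Q ((g⁻¹ * h) • h⁻¹ • x) + polar Q a0 ((g⁻¹ * h) • h⁻¹ • x) =
          Q (h⁻¹ • x) + polar Q a0 (h⁻¹ • x) := hm _
      rw [mul_smul, smul_inv_smul] at e3
      linear_combination e3 + e2 - e1
    · intro e x
      have e1 := hc g⁻¹ (h • x)
      have e2 := hc h⁻¹ (h • x)
      rw [inv_smul_smul] at e2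
      show Q ((g⁻¹ * h) • x) + polar Q a0 ((g⁻¹ * h) • x) = Q x + polar Q a0 x
      rw [mul_smul, e1, e2, e]
  refine Nat.card_eq_of_bijective (Quotient.lift (fun g : Sp m F =>
    (⟨c g⁻¹, shift_value hF a0 _ g⁻¹ (hc g⁻¹)⟩ : {v : Vec m F // Q v = Q a0}))
    fun g h e => Subtype.ext ((hwd g h).mp (QuotientGroup.leftRel_apply.mp e))) ⟨?_, ?_⟩
  · intro a b h
    induction a using Quotient.inductionOn with | _ g => ?_
    induction b using Quotient.inductionOn with | _ g' => ?_
    exact Quotient.sound (QuotientGroup.leftRel_apply.mpr ((hwd g g').mpr (congrArg Subtype.val h)))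
  · rintro ⟨v, hv⟩
    obtain ⟨u, hu⟩ : ∃ u, u = a0 + v := ⟨_, rfl⟩
    refine ⟨Quotient.mk _ (tv u (1 : F))⁻¹, Subtype.ext ?_⟩
    show c (tv u (1 : F))⁻¹⁻¹ = v
    rw [inv_inv]
    refine shift_unique hF fun x => ?_
    have h1 := hc (tv u (1 : F)) x
    rw [tv_smul, one_mul, sympForm_eq_polar hF, form_add, form_smul, polar_add_right,
      polar_smul_right, polar_smul_right] at h1
    have hz : Q u + polar Q a0 u = 0 := by
      rw [hu, form_add, polar_add_right, polar_self_eq, hv]
      linear_combination (2 * Q a0 + polar Q a0 v) * (CharTwo.two_eq_zero : (2 : F) = 0)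
    have hxu : polar Q x u = polar Q a0 x + polar Q v x := by
      rw [hu, polar_add_right, polar_comm Q x a0, polar_comm Q x v]
    have hsq : polar Q x u * polar Q x u = polar Q x u := by
      rcases two_cases hF (polar Q x u) with h | h <;> simp [h]
    simp only [smul_eq_mul] at h1
    linear_combination -h1 + polar Q x u * hz + (Q u + 1) * hsq + hxu +
      polar Q a0 x * (CharTwo.two_eq_zero : (2 : F) = 0)

include hF in
theorem isSimple_Sp (hm : 3 ≤ m) : IsSimpleGroup (Sp m F) := by
  have hc : Subgroup.center (Sp m F) = ⊥ :=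
    Subgroup.eq_bot_of_card_eq _ ((card_center hF (by omega : 1 ≤ m)).trans (by rfl))
  haveI := isSimpleGroup_PSp (F := F) (m := m) (by omega) (commutator_eq_top (by omega))
  exact ((QuotientGroup.quotientMulEquivOfEq hc).trans QuotientGroup.quotientBot).symm.isSimpleGroup

/-- A subgroup of small index containing `Ω⁺` is everything. -/
theorem eq_top_of_omega_le (hm : 3 ≤ m) {K : Subgroup (Sp m F)}
    (hK : K.index < 2 ^ (m - 1) * (2 ^ m - 1))
    (hle : (eichGroup (qPlus m F)).map (toSp hF) ≤ K) : K = ⊤ := by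
  haveI := charP_two_of_card hF
  set Q := qPlus m F
  have hnd : PolarND Q := UnitaryOrthogonal.polarND_qPlus_charTwo
  have h0 : ∀ a : Vec m F, polar (qPlus m F) 0 a = 0 := fun a => polar_zero_left _ a
  obtain ⟨k, hk, hks⟩ : ∃ k ∈ K, k ∉ formStab (0 : Vec m F) := by
    by_contra hcon
    simp only [not_exists, not_and, not_not] at hcon
    have h := Subgroup.index_antitone (show K ≤ formStab (0 : Vec m F) from hcon)
    rw [index_formStab hF, QuadraticMap.map_zero] at h
    have h0' := (level_values (m := m) hF).2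
    obtain ⟨A, hA⟩ : ∃ A, 2 ^ m = A + 1 := ⟨2 ^ m - 1, by have := Nat.two_pow_pos m; omega⟩
    have e : 2 * (2 ^ (m - 1) * (2 ^ m - 1)) + 2 ^ m = 2 ^ (2 * m) := by
      rw [← mul_assoc, ← pow_succ', show m - 1 + 1 = m by omega, two_mul, pow_add, hA,
        Nat.add_sub_cancel]
      ring
    have := Nat.two_pow_pos m
    rw [pow_succ] at h0'
    omega
  obtain ⟨a, ha⟩ := exists_shift hF 0 k
  have haQ : Q a = 0 := (shift_value hF 0 a k ha).trans (QuadraticMap.map_zero _)
  simp only [h0, add_zero] at ha
  have ha0 : a ≠ 0 := fun e => hks fun x => by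
    have := ha x
    rw [e, h0, add_zero] at this
    rw [h0, h0, this]
  have h5 : 5 ≤ Module.finrank F (Vec m F) := by simp [Vec]; omega
  have hmem : ∀ g : Sp m F, ∃ s ∈ formStab (0 : Vec m F), ∃ k' ∈ K, g = s * k' := by
    intro g
    obtain ⟨b, hb⟩ := exists_shift hF 0 g
    have hbQ : Q b = 0 := (shift_value hF 0 b g hb).trans (QuadraticMap.map_zero _)
    simp only [h0, add_zero] at hb
    suffices h : ∃ k' ∈ K, ∀ x, Q (k' • x) = Q x + polar Q b x by
      obtain ⟨k', hk', he⟩ := h
      refine ⟨g * k'⁻¹, fun x => ?_, k', hk', by group⟩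
      rw [h0, h0, add_zero, add_zero, mul_smul, hb, ← he, smul_inv_smul]
    by_cases hb0 : b = 0
    · exact ⟨1, one_mem _, fun x => by rw [one_smul, hb0, h0, add_zero]⟩
    obtain ⟨e, he, hea⟩ := OrthStab.exists_eich_map_of_form_eq hnd h5 ha0 hb0 (haQ.trans hbQ.symm)
    refine ⟨k * toSp hF e⁻¹, mul_mem hk (hle ⟨e⁻¹, inv_mem he, rfl⟩), fun x => ?_⟩
    rw [mul_smul, ha, toSp_smul, map_form, ← hea, ← map_polar e a (e⁻¹.1 x), coe_apply_inv_apply]
  -- hence the normal closure is contained
  haveI := isSimple_Sp (m := m) hF hm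
  have hnc : Subgroup.normalClosure (((eichGroup Q).map (toSp hF) : Subgroup (Sp m F)) : Set (Sp m F))
      ≤ K := by
    refine (Subgroup.closure_le K).mpr fun y hy => ?_
    obtain ⟨w, ⟨o, ho, rfl⟩, hcj⟩ := Group.mem_conjugatesOfSet_iff.mp hy
    obtain ⟨g, rfl⟩ := isConj_iff.mp hcj
    obtain ⟨s, hs, k', hk', he⟩ := hmem g⁻¹
    obtain ⟨o', rfl⟩ : ∃ o' : orth Q, toSp hF o' = s := by
      refine ⟨⟨LinearEquiv.ofLinear (Matrix.toLin' s.1) (Matrix.toLin' (s⁻¹).1) ?_ ?_, ?_⟩, ?_⟩
      · rw [← Matrix.toLin'_mul, ← Submonoid.coe_mul]; simp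
      · rw [← Matrix.toLin'_mul, ← Submonoid.coe_mul]; simp
      · intro x
        have := hs x
        rw [h0, h0, add_zero, add_zero] at this
        exact this
      · refine eq_of_smul_eq fun v => ?_
        rw [toSp_smul]
        rfl
    have hg : g = k'⁻¹ * (toSp hF o')⁻¹ := by rw [← _root_.mul_inv_rev, ← he, inv_inv]
    rw [hg, show k'⁻¹ * (toSp hF o')⁻¹ * toSp hF o * (k'⁻¹ * (toSp hF o')⁻¹)⁻¹ =
      k'⁻¹ * (toSp hF o'⁻¹ * toSp hF o * (toSp hF o'⁻¹)⁻¹) * k' by rw [map_inv]; group,
      ← map_mul, ← map_inv, ← map_mul]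
    exact mul_mem (mul_mem (inv_mem hk') (hle ⟨_, eichGroup_normal.conj_mem o ho _, rfl⟩)) hk'
  rcases (inferInstance : (Subgroup.normalClosure
    (((eichGroup Q).map (toSp hF) : Subgroup (Sp m F)) : Set (Sp m F))).Normal).eq_bot_or_eq_top
    with h | h
  · exfalso
    obtain ⟨u, -, hu0, hu⟩ := OrthStab.exists_singular_mem (Q := Q) ⊤
      (by rw [finrank_top]; simp; omega)
    obtain ⟨u', hu', huu'⟩ := exists_pair hnd.nonsing hu hu0
    have hu'0 : u' ≠ 0 := fun h => by rw [h, polar_zero_right] at huu'; exact zero_ne_one huu'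
    obtain ⟨e, he, hea⟩ := OrthStab.exists_eich_map_of_form_eq hnd h5 hu0 hu'0 (hu.trans hu'.symm)
    have hbot : toSp hF e = 1 := by
      have hm' : toSp hF e ∈ Subgroup.normalClosure
          (((eichGroup Q).map (toSp hF) : Subgroup (Sp m F)) : Set (Sp m F)) :=
        Subgroup.subset_normalClosure ⟨e, he, rfl⟩
      rwa [h, Subgroup.mem_bot] at hm'
    have := toSp_smul hF e u
    rw [hbot, one_smul, hea] at this
    rw [← this, polar_self_eq, hu, mul_zero] at huu'
    exact zero_ne_one huu'
  · exact eq_top_iff.mpr (h ▸ hnc)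

open Cfsg.Agent.CG26 in
include hF in
/-- **The lower bound.** -/
theorem sp_two_bound (hm : 3 ≤ m) (K : Subgroup (Sp m F)) (hK : K ≠ ⊤) :
    2 ^ (m - 1) * (2 ^ m - 1) ≤ K.index := by
  classical
  rcases Nat.lt_or_ge m 4 with h4 | h4
  · obtain rfl : m = 3 := by omega
    set e : ZMod 2 ≃+* F := FiniteField.ringEquivOfCardEq ((ZMod.card 2).trans hF.symm)
    let f : Six.G6 ≃* Sp 3 F :=
      { toFun := fun g => ⟨g.1.map e, SymplecticGroup.map_mem g.2 e⟩
        invFun := fun g => ⟨g.1.map e.symm, SymplecticGroup.map_mem g.2 e.symm⟩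
        left_inv := fun g => Subtype.ext (by ext; simp)
        right_inv := fun g => Subtype.ext (by ext; simp)
        map_mul' := fun g h => Subtype.ext (by
          show (g.1 * h.1).map e = _
          exact Matrix.map_mul) }
    have hidx : (K.comap f.toMonoidHom).index = K.index :=
      Subgroup.index_comap_of_surjective _ f.surjective
    rw [← hidx]
    refine (show 2 ^ (3 - 1) * (2 ^ 3 - 1) ≤ 28 by norm_num).trans (Six.six_index _ fun h => hK ?_)
    rwa [← Subgroup.index_eq_one, ← hidx, Subgroup.index_eq_one]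
  · by_contra hlt
    refine hK (eq_top_of_omega_le hF hm (by omega) ?_)
    set Q := qPlus m F
    let ψ : AutPO.Om Q →* Sp m F := (toSp hF).comp (eichGroup Q).subtype
    set X := K.comap ψ with hX
    have hS := AutPO.setup_plus (F := F) h4
    have hbot : ∀ z : AutPO.Om Q, z ∈ Subgroup.center (AutPO.Om Q) → z = 1 := fun z hz => by
      obtain ⟨c, hc2, hc⟩ := AutPO.center_scalar hS hz
      rcases two_cases hF c with rfl | rfl
      · simp at hc2
      · exact Subtype.ext (orth_ext fun x => by simpa using hc x)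
    have hker : (AutPO.piO Q).ker ≤ X := fun z hz => by
      rw [AutPO.piO, QuotientGroup.ker_mk'] at hz
      rw [hbot z hz]; exact one_mem _
    set Y := X.map (AutPO.piO Q)
    set H := Y.comap (AutPO.pomegaEquiv (qPlus_apply m) hS).toMonoidHom
    have hYX : H.index = X.index :=
      (Subgroup.index_comap_of_surjective _ (AutPO.pomegaEquiv (qPlus_apply m) hS).surjective).trans
        (Subgroup.index_map_eq X AutPO.piO_surjective hker)
    have hle : X.index ≤ K.index := by
      rw [hX, Subgroup.index_comap, ← Subgroup.relIndex_top_right]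
      exact Subgroup.relIndex_le_of_le_right le_top (by
        rw [Subgroup.relIndex_top_right]; exact Subgroup.index_ne_zero_of_finite)
    have hH : H = ⊤ := by
      by_contra hne
      have := (S2146.result hF m h4).1 H hne
      omega
    rw [hH, Subgroup.index_top] at hYX
    have hXtop := Subgroup.index_eq_one.mp hYX.symm
    rintro _ ⟨o, ho, rfl⟩
    have : (⟨o, ho⟩ : AutPO.Om Q) ∈ X := hXtop ▸ Subgroup.mem_top _
    exact this

end TwoElements

end Cfsg.Agent.MinIdxClassical
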